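import Cfsg.Agent.AutPSU.AutOrder
import Cfsg.Agent.AutPSL.GraphField
import Cfsg.Agent.AutPSp.Similitude

/-!
# Galois descent for `GU_n` and field automorphisms of odd order
-/

set_option autoImplicit false
set_option linter.unusedSectionVars false

namespace CfsgLib.AutPSU

open Matrix CfsgLib.RepBounds.Unit
open CfsgLib.AutPSL (mapGL twNorm unitsNorm)

variable {F : Type*} [Field F] [Fintype F] {n : ℕ} (C : ConjField F)

/-- The involution of `F` as an automorphism. -/
noncomputable def barEquiv : F ≃+* F :=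
  RingEquiv.ofBijective C.σ ⟨C.σ.injective, fun x => ⟨C.σ x, C.invol x⟩⟩

theorem barEquiv_apply (x : F) : barEquiv C x = C.σ x := rfl

theorem barEquiv_ne_one : barEquiv C ≠ 1 := fun h =>
  C.ne_id (RingHom.ext fun x => DFunLike.congr_fun h x)

theorem orderOf_barEquiv : orderOf (barEquiv C) = 2 :=
  orderOf_eq_prime (by rw [pow_two]; exact RingEquiv.ext C.invol) (barEquiv_ne_one C)

/-- For `σ` of odd order the involution is non-trivial on the fixed field of `σ`. -/
theorem exists_fixed_not_bar {σ : F ≃+* F} {r : ℕ} (hr : orderOf σ = r) (hodd : Odd r) :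
    ∃ x, σ x = x ∧ C.σ x ≠ x := by
  by_contra h
  push Not at h
  have hc : Commute (barEquiv C) σ := RingEquiv.ext fun x => (conj_field C σ x).symm
  have hord : orderOf (barEquiv C * σ) = 2 * r := by
    rw [hc.orderOf_mul_eq_mul_orderOf_of_coprime
      (by rw [orderOf_barEquiv, hr]; exact Nat.coprime_two_left.2 hodd), orderOf_barEquiv, hr]
  have h1 := CfsgLib.FixedField.card_pow σ hr
  have h2 := CfsgLib.FixedField.card_pow _ hord
  have hle : Nat.card (CfsgLib.FixedField.fixedSub σ) ≤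
      Nat.card (CfsgLib.FixedField.fixedSub (barEquiv C * σ)) :=
    Nat.card_le_card_of_injective (fun x => ⟨x.1, by
      show C.σ (σ x.1) = x.1
      rw [show σ x.1 = x.1 from x.2, h _ x.2]⟩)
      fun x y hxy => Subtype.ext (congrArg (fun z : CfsgLib.FixedField.fixedSub (barEquiv C * σ) => (z : F)) hxy)
  have hr0 : r ≠ 0 := fun h0 => by simp [h0] at hodd
  set Q := Nat.card (CfsgLib.FixedField.fixedSub (barEquiv C * σ))
  have hQ : 1 < Q := Finite.one_lt_card
  have h3 : Q ^ (2 * r) ≤ Q ^ r := by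
    rw [← h2, h1]; exact Nat.pow_le_pow_left hle r
  have := Nat.pow_le_pow_iff_right hQ |>.1 h3
  omega

/-- The involution on the fixed field of `σ`. -/
noncomputable def barFixed (σ : F ≃+* F) :
    CfsgLib.FixedField.fixedSub σ ≃+* CfsgLib.FixedField.fixedSub σ where
  toFun x := ⟨C.σ x.1, by show σ (C.σ x.1) = C.σ x.1; rw [conj_field, show σ x.1 = x.1 from x.2]⟩
  invFun x := ⟨C.σ x.1, by show σ (C.σ x.1) = C.σ x.1; rw [conj_field, show σ x.1 = x.1 from x.2]⟩
  left_inv x := Subtype.ext (C.invol x.1)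
  right_inv x := Subtype.ext (C.invol x.1)
  map_mul' x y := Subtype.ext (map_mul C.σ x.1 y.1)
  map_add' x y := Subtype.ext (map_add C.σ x.1 y.1)

theorem barFixed_ne_one {σ : F ≃+* F} {r : ℕ} (hr : orderOf σ = r) (hodd : Odd r) : barFixed C σ ≠ 1 := by
  intro h
  obtain ⟨x, hx, hxb⟩ := exists_fixed_not_bar C hr hodd
  have h1 := DFunLike.congr_fun h (⟨x, hx⟩ : CfsgLib.FixedField.fixedSub σ)
  exact hxb (congrArg Subtype.val h1)

/-- A Hermitian matrix with fixed entries is congruent to the identity over the fixed field. -/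
theorem exists_fixed_herm_congr {σ : F ≃+* F} {r : ℕ} (hr : orderOf σ = r) (hodd : Odd r)
    {M : Matrix (Fin n) (Fin n) F} (hfix : ∀ i j, σ (M i j) = M i j)
    (hherm : ∀ i j, C.σ (M i j) = M j i) (hdet : M.det ≠ 0) :
    ∃ w : GL (Fin n) F, mapGL σ w = w ∧ w.1ᵀ * M * w.1.map C.σ = 1 := by
  let K := CfsgLib.FixedField.fixedSub σ
  let instK : Fintype (CfsgLib.FixedField.fixedSub σ) := Fintype.ofFinite _
  let M₀ : Matrix (Fin n) (Fin n) K := Matrix.of fun i j => ⟨M i j, hfix i j⟩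
  have hM₀ : M₀.map K.subtype = M := by ext i j; rfl
  have hdet₀ : M₀.det ≠ 0 := by
    intro h0
    apply hdet
    have := K.subtype.map_det M₀
    rw [h0, map_zero, RingHom.mapMatrix_apply, hM₀] at this
    exact this.symm
  obtain ⟨h, hh⟩ := CfsgLib.AutPSL.exists_eq_mul_map_transpose (barFixed_ne_one C hr hodd)
    (fun a => Subtype.ext (C.invol a.1)) (G := Matrix.GeneralLinearGroup.mkOfDetNeZero M₀ hdet₀)
    (fun i j => Subtype.ext (hherm i j))
  replace hh : M₀ = h.1 * (h.1.map (barFixed C σ))ᵀ := hh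
  set H : GL (Fin n) F := Matrix.GeneralLinearGroup.map K.subtype h with hH
  have hM : M = H.1 * (H.1.map C.σ)ᵀ := by
    rw [← hM₀, hh, Matrix.map_mul]
    congr 1
  set W : GL (Fin n) F := ⟨(H⁻¹).1ᵀ, H.1ᵀ, by rw [← Matrix.transpose_mul, H.mul_inv, Matrix.transpose_one],
    by rw [← Matrix.transpose_mul, H.inv_mul, Matrix.transpose_one]⟩ with hW
  refine ⟨W, Units.ext (Matrix.ext fun i j => ?_), ?_⟩
  · show σ ((H⁻¹).1 j i) = (H⁻¹).1 j i
    rw [hH, ← map_inv]
    exact ((h⁻¹).1 j i).2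
  · show ((H⁻¹).1ᵀ)ᵀ * M * ((H⁻¹).1ᵀ).map C.σ = 1
    rw [Matrix.transpose_transpose, hM, ← Matrix.mul_assoc, H.inv_mul, Matrix.one_mul,
      Matrix.transpose_map, ← Matrix.transpose_mul, ← Matrix.map_mul, H.inv_mul,
      Matrix.map_one _ (map_zero _) (map_one _), Matrix.transpose_one]

theorem mem_GU_iff_matrix {g : GL (Fin n) F} :
    g ∈ Cfsg.GU n F C.q ↔ g.1ᵀ * g.1.map C.σ = 1 := by
  rw [mem_GU_iff, hermForm_eq]
  constructor
  · intro h
    ext i j
    have := h (Pi.single i 1) (Pi.single j 1)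
    rw [Matrix.mulVec_single_one, Matrix.mulVec_single_one] at this
    rw [Matrix.mul_apply, Matrix.one_apply]
    refine (Eq.trans ?_ this).trans ?_
    · simp [herm]
    · simp [herm, Pi.single_apply, eq_comm]
  · intro h u v
    have hh : ∀ x y : Fin n → F, herm C x y = x ⬝ᵥ (C.σ ∘ y) := fun _ _ => rfl
    rw [hh, hh, show C.σ ∘ (g.1 *ᵥ v) = g.1.map C.σ *ᵥ (C.σ ∘ v) from
      funext fun i => RingHom.map_mulVec C.σ g.1 v i, Matrix.dotProduct_mulVec, ← Matrix.vecMul_transpose,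
      Matrix.vecMul_vecMul, h, Matrix.vecMul_one]

theorem scalar_mul_gram (u : Fˣ) (g : GL (Fin n) F) :
    (Matrix.GeneralLinearGroup.scalar (Fin n) u * g).1ᵀ *
        (Matrix.GeneralLinearGroup.scalar (Fin n) u * g).1.map C.σ =
      ((u : F) * C.σ u) • (g.1ᵀ * g.1.map C.σ) := by
  have hu : (Matrix.GeneralLinearGroup.scalar (Fin n) u * g).1 = (u : F) • g.1 := by
    rw [Units.val_mul]
    simp [← Matrix.smul_eq_diagonal_mul]
  rw [hu, Matrix.transpose_smul, show ((u : F) • g.1).map C.σ = C.σ (u : F) • g.1.map C.σ from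
    Matrix.ext fun i j => by simp, Matrix.smul_mul, Matrix.mul_smul, smul_smul]

/-- Galois descent for `GU`. -/
theorem exists_gu_descent (hn : 1 ≤ n) {σ : F ≃+* F} {r : ℕ} (hr : orderOf σ = r) (hodd : Odd r)
    {a : ↥(Cfsg.GU n F C.q)} {c : Fˣ}
    (hc : twNorm σ a.1 r = Matrix.GeneralLinearGroup.scalar (Fin n) c) :
    ∃ (u : Fˣ) (h : GL (Fin n) F), u ∈ normOne F C.q ∧ h ∈ Cfsg.GU n F C.q ∧
      a.1 = Matrix.GeneralLinearGroup.scalar (Fin n) u * (h * (mapGL σ h)⁻¹) := by
  classical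
  haveI : Nonempty (Fin n) := ⟨⟨0, hn⟩⟩
  have hr0 : 0 < r := hodd.pos
  obtain ⟨u, h, ha⟩ := CfsgLib.AutPSL.exists_eq_scalar_mul_map_inv hr hr0 hc
  set t := h * (mapGL σ h)⁻¹ with ht
  set k : F := ((u : F) * C.σ u)⁻¹ with hk
  have hnu : (u : F) * C.σ u ≠ 0 := mul_ne_zero u.ne_zero ((map_ne_zero C.σ).2 u.ne_zero)
  have hk0 : k ≠ 0 := inv_ne_zero hnu
  have hkb : C.σ k = k := by rw [hk, map_inv₀, map_mul, C.invol, mul_comm]
  have hgt : t.1ᵀ * t.1.map C.σ = k • (1 : Matrix (Fin n) (Fin n) F) := by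
    have h1 := (mem_GU_iff_matrix C).1 a.2
    rw [ha, scalar_mul_gram] at h1
    rw [← h1, hk, inv_smul_smul₀ hnu]
  set A : Matrix (Fin n) (Fin n) F := h.1ᵀ * h.1.map C.σ with hA
  have hAσ : A = k • A.map σ := by
    have e : h.1 = t.1 * h.1.map σ := by
      change h.1 = (h * (mapGL σ h)⁻¹).1 * (mapGL σ h).1
      rw [← Units.val_mul, inv_mul_cancel_right]
    conv_lhs => rw [hA, e]
    rw [Matrix.transpose_mul, Matrix.map_mul, hA, Matrix.map_mul, ← Matrix.transpose_map,
      show (h.1.map C.σ).map σ = (h.1.map σ).map C.σ from Matrix.ext fun i j => conj_field C σ _]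
    calc (h.1.map σ)ᵀ * t.1ᵀ * (t.1.map C.σ * (h.1.map σ).map C.σ)
        = (h.1.map σ)ᵀ * (t.1ᵀ * t.1.map C.σ) * (h.1.map σ).map C.σ := by simp only [Matrix.mul_assoc]
      _ = _ := by rw [hgt, Matrix.mul_smul, Matrix.mul_one, Matrix.smul_mul, Matrix.transpose_map]
  have hAdet : A.det ≠ 0 := by
    rw [hA, Matrix.det_mul, Matrix.det_transpose, show (h.1.map C.σ).det = C.σ h.1.det from (C.σ.map_det _).symm]
    exact mul_ne_zero h.det.ne_zero ((map_ne_zero C.σ).2 h.det.ne_zero)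
  obtain ⟨i, j, hij⟩ : ∃ i j, A i j ≠ 0 := by
    by_contra hne
    push Not at hne
    exact hAdet (by rw [show A = 0 from Matrix.ext hne, Matrix.det_zero])
  have hent : ∀ i j, A i j = k * σ (A i j) := fun i j => by
    conv_lhs => rw [hAσ]
    simp
  have hiter : ∀ m : ℕ, A i j = (unitsNorm σ m (Units.mk0 k hk0) : F) * (σ ^ m : F ≃+* F) (A i j) := by
    intro m
    induction m with
    | zero => simp [unitsNorm]
    | succ m ih =>
      have hN : (unitsNorm σ (m + 1) (Units.mk0 k hk0) : F) =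
          (unitsNorm σ m (Units.mk0 k hk0) : F) * (σ ^ m : F ≃+* F) k := by
        simp [unitsNorm, Finset.prod_range_succ]
      calc A i j = (unitsNorm σ m (Units.mk0 k hk0) : F) * (σ ^ m : F ≃+* F) (A i j) := ih
        _ = (unitsNorm σ m (Units.mk0 k hk0) : F) * (σ ^ m : F ≃+* F) (k * σ (A i j)) := by rw [← hent]
        _ = _ := by rw [hN, map_mul, pow_succ, mul_assoc]; rfl
  have hNk : unitsNorm σ r (Units.mk0 k hk0) = 1 := by
    have := hiter r
    rw [← hr, pow_orderOf_eq_one, hr] at this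
    exact Units.ext (mul_right_cancel₀ hij (by rw [Units.val_one, one_mul]; exact this.symm))
  obtain ⟨b₁, hb₁⟩ := CfsgLib.AutPSL.exists_div_of_unitsNorm_eq_one hr hr0 hNk
  rw [Units.val_mk0, eq_div_iff (by simp)] at hb₁
  -- make the factor fixed by the involution
  obtain ⟨b, hb0, hbσ, hbbar⟩ : ∃ b : F, b ≠ 0 ∧ k * σ b = b ∧ C.σ b = b := by
    obtain ⟨x, hx, hxb⟩ := exists_fixed_not_bar C hr hodd
    by_cases hs : (b₁ : F) + C.σ b₁ = 0
    · refine ⟨(x - C.σ x) * b₁, mul_ne_zero (sub_ne_zero.2 (Ne.symm hxb)) b₁.ne_zero, ?_, ?_⟩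
      · rw [map_mul, map_sub, hx, conj_field, hx]
        linear_combination (x - C.σ x) * hb₁
      · rw [map_mul, map_sub, C.invol]
        linear_combination (C.σ x - x) * hs
    · refine ⟨b₁ + C.σ b₁, hs, ?_, by rw [map_add, C.invol, add_comm]⟩
      have h2 := congrArg C.σ hb₁
      rw [map_mul, hkb] at h2
      rw [map_add, conj_field]
      linear_combination hb₁ + h2
  have hAh : ∀ i j, C.σ (A i j) = A j i := by
    intro i j
    simp only [hA, Matrix.mul_apply, Matrix.transpose_apply, Matrix.map_apply, map_sum, map_mul, C.invol]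
    exact Finset.sum_congr rfl fun _ _ => mul_comm _ _
  obtain ⟨w, hwfix, hw⟩ := exists_fixed_herm_congr C hr hodd (M := b⁻¹ • A)
    (fun i j => by
      rw [Matrix.smul_apply, smul_eq_mul, map_mul, map_inv₀]
      have h1 := hent i j
      have hσb : σ b ≠ 0 := by simpa using hb0
      conv_rhs => rw [h1, ← mul_assoc]
      congr 1
      field_simp
      linear_combination -hbσ)
    (fun i j => by rw [Matrix.smul_apply, Matrix.smul_apply, smul_eq_mul, smul_eq_mul, map_mul, map_inv₀, hbbar, hAh])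
    (by rw [Matrix.det_smul]; exact mul_ne_zero (pow_ne_zero _ (inv_ne_zero hb0)) hAdet)
  obtain ⟨d, hd⟩ := CfsgLib.Forms.exists_mul_involution_eq C.ne_id C.invol (c := b) hbbar
  have hd0 : d ≠ 0 := fun h0 => hb0 (by rw [← hd, h0, zero_mul])
  -- the rescaled descent
  set D : Fˣ := Units.mk0 d hd0
  set h' : GL (Fin n) F := Matrix.GeneralLinearGroup.scalar (Fin n) D⁻¹ * (h * w) with hh'
  have hh'mem : h' ∈ Cfsg.GU n F C.q := by
    rw [mem_GU_iff_matrix, hh', scalar_mul_gram, Units.val_mul, Matrix.transpose_mul, Matrix.map_mul,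
      show w.1ᵀ * h.1ᵀ * (h.1.map C.σ * w.1.map C.σ) = b • (w.1ᵀ * (b⁻¹ • A) * w.1.map C.σ) by
        rw [Matrix.mul_smul, Matrix.smul_mul, smul_smul, mul_inv_cancel₀ hb0, one_smul, hA]
        simp only [Matrix.mul_assoc], hw, smul_smul, Units.val_inv_eq_inv_val, map_inv₀,
      show (D : F) = d from rfl]
    rw [show d⁻¹ * (C.σ d)⁻¹ * b = 1 by
      rw [← hd]; field_simp [(map_ne_zero C.σ).2 hd0], one_smul]
  set u' : Fˣ := u * D * (Units.map (σ : F →* F) D)⁻¹ with hu'
  have ha' : a.1 = Matrix.GeneralLinearGroup.scalar (Fin n) u' * (h' * (mapGL σ h')⁻¹) := by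
    have hscal : ∀ x : Fˣ, mapGL σ (Matrix.GeneralLinearGroup.scalar (Fin n) x) =
        Matrix.GeneralLinearGroup.scalar (Fin n) (Units.map (σ : F →* F) x) := by
      intro x; apply Units.ext; ext i j
      by_cases hij : i = j <;> simp [hij]
    have hcen : ∀ (x : Fˣ) (g : GL (Fin n) F), g * Matrix.GeneralLinearGroup.scalar (Fin n) x =
        Matrix.GeneralLinearGroup.scalar (Fin n) x * g := fun x g =>
      Subgroup.mem_center_iff.1 (by rw [Matrix.GeneralLinearGroup.center_eq_range_scalar]; exact ⟨x, rfl⟩) g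
    have e : h' * (mapGL σ h')⁻¹ = Matrix.GeneralLinearGroup.scalar (Fin n)
        (D⁻¹ * Units.map (σ : F →* F) D) * t := by
      rw [hh', map_mul (mapGL σ), map_mul (mapGL σ), hscal, hwfix, map_inv (Units.map (σ : F →* F)), map_mul,
        map_inv (Matrix.GeneralLinearGroup.scalar (Fin n)) (Units.map _ D)]
      calc _ = Matrix.GeneralLinearGroup.scalar (Fin n) D⁻¹ *
            (t * Matrix.GeneralLinearGroup.scalar (Fin n) (Units.map (σ : F →* F) D)) := by rw [ht]; group
        _ = _ := by rw [hcen, mul_assoc]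
    rw [ha, e, ← mul_assoc _ _ t, ← map_mul, hu']
    congr 2
    rw [mul_assoc u, mul_assoc u, mul_mul_mul_comm, mul_inv_cancel, inv_mul_cancel, one_mul, mul_one]
  refine ⟨u', h', ?_, hh'mem, ha'⟩
  have h1 := (mem_GU_iff_matrix C).1 a.2
  have h2 := (mem_GU_iff_matrix C).1 (mul_mem hh'mem (inv_mem (map_mem_GU σ hh'mem)))
  rw [ha', scalar_mul_gram, h2] at h1
  have h3 := congrFun (congrFun h1 ⟨0, hn⟩) ⟨0, hn⟩
  simp at h3
  exact mem_normOne.2 (Units.ext (by rw [Units.val_pow_eq_pow_val, Units.val_one, pow_succ', ← C.pow, h3]))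

end CfsgLib.AutPSU
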