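import Cfsg.Agent.AutPSU.Model
import Cfsg.Agent.Forms4.UnitaryCenter

/-!
# Monomial elements of `SU`, and maps commuting with the action on the Heisenberg quotient
-/

set_option autoImplicit false
set_option linter.unusedSectionVars false

namespace CfsgLib.AutPSU

open Matrix CfsgLib.RepBounds.Unit

variable {F : Type*} [Field F] [Fintype F] (C : ConjField F) {κ : Type*} [Fintype κ] [DecidableEq κ]

theorem exists_not_fixed : ∃ b, C.σ b ≠ b := by
  by_contra h
  push Not at h
  exact C.ne_id (RingHom.ext h)

/-- An element of norm one other than `1` and `-1`. -/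
theorem exists_norm_sq_ne : ∃ c : F, c * C.σ c = 1 ∧ c * c ≠ 1 := by
  obtain ⟨c, -, hc, hc1⟩ := CfsgLib.Forms4.exists_norm_one_sq_ne_one (F := F) C.card
  exact ⟨c, by rw [C.pow, ← pow_succ']; exact hc, by rwa [← pow_two]⟩

theorem exists_div_conj {c : F} (hc : c * C.σ c = 1) : ∃ a : Fˣ, C.σ (a : F) / a = c := by
  by_cases h : c = -1
  · obtain ⟨d, hd, hd0⟩ := C.exists_skew_ne
    exact ⟨Units.mk0 d hd0, by simp [C.skew_eq hd, h, neg_div, div_self hd0]⟩
  · have h1 : 1 + C.σ c ≠ 0 := fun h0 => h (by
      have := congrArg C.σ h0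
      rw [map_add, map_one, C.invol, map_zero] at this
      linear_combination this)
    refine ⟨Units.mk0 (1 + C.σ c) h1, ?_⟩
    rw [Units.val_mk0, map_add, map_one, C.invol, div_eq_iff h1]
    linear_combination -hc

/-- The element `diag(c, c⁻¹)` on two coordinates. -/
noncomputable def diagPair {i j : κ} (hij : i ≠ j) (c : F) (hc : c * C.σ c = 1) : suG C κ :=
  ⟨⟨Matrix.diagonal fun k => (if k = i then c else 1) * (if k = j then c⁻¹ else 1), by
      have hc0 : c ≠ 0 := left_ne_zero_of_mul_eq_one hc
      rw [Matrix.det_diagonal, Finset.prod_mul_distrib, Finset.prod_ite_eq', Finset.prod_ite_eq']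
      simp [hc0]⟩, fun u v => by
    have hc0 : c ≠ 0 := left_ne_zero_of_mul_eq_one hc
    have hσc : C.σ c⁻¹ = c := by rw [map_inv₀, inv_eq_of_mul_eq_one_left hc]
    refine Finset.sum_congr rfl fun k _ => ?_
    simp only [Matrix.mulVec_diagonal]
    split_ifs with h1 h2
    · exact absurd (h1.symm.trans h2) hij
    · rw [mul_one, map_mul]; linear_combination (u k * C.σ (v k)) * hc
    · rw [one_mul, map_mul, hσc]
      linear_combination (u k * C.σ (v k)) * inv_mul_cancel₀ hc0
    · simp⟩

theorem app_diagPair {i j : κ} (hij : i ≠ j) (c : F) (hc : c * C.σ c = 1) (x : κ → F) (k : κ) :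
    app C (diagPair C hij c hc) x k = (if k = i then c else 1) * (if k = j then c⁻¹ else 1) * x k :=
  Matrix.mulVec_diagonal _ _ _

/-- A signed transposition of two coordinates. -/
noncomputable def swapPair {i j : κ} (hij : i ≠ j) : suG C κ :=
  ⟨⟨Matrix.diagonal (fun k => if k = i then -1 else 1) * (Equiv.swap i j).permMatrix F, by
      rw [Matrix.det_mul, Matrix.det_diagonal, Finset.prod_ite_eq', Matrix.det_permutation,
        Equiv.Perm.sign_swap hij]
      simp⟩, fun u v => by
    have h : ∀ x : κ → F, (Matrix.diagonal (fun k => if k = i then (-1 : F) else 1) *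
        (Equiv.swap i j).permMatrix F) *ᵥ x =
          fun k => (if k = i then (-1 : F) else 1) * x (Equiv.swap i j k) := fun x => by
      funext k
      rw [← Matrix.mulVec_mulVec, Matrix.mulVec_diagonal, Matrix.permMatrix_mulVec]
      rfl
    show herm C _ _ = _
    rw [h, h]
    refine (Finset.sum_congr rfl fun k _ => ?_).trans
      (Equiv.sum_comp (Equiv.swap i j) fun k => u k * C.σ (v k))
    by_cases hk : k = i <;> simp [hk]⟩

theorem app_swapPair {i j : κ} (hij : i ≠ j) (x : κ → F) (k : κ) :
    app C (swapPair C hij) x k = (if k = i then (-1 : F) else 1) * x (Equiv.swap i j k) := by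
  show ((Matrix.diagonal _ * (Equiv.swap i j).permMatrix F) *ᵥ x) k = _
  rw [← Matrix.mulVec_mulVec, Matrix.mulVec_diagonal, Matrix.permMatrix_mulVec]
  rfl

theorem app_swapPair_single {i j : κ} (hij : i ≠ j) (r : F) :
    app C (swapPair C hij) (Pi.single i r) = Pi.single j r := by
  funext k
  rw [app_swapPair]
  by_cases hki : k = i
  · subst hki; simp [Pi.single_apply, hij, hij.symm]
  by_cases hkj : k = j
  · subst hkj; simp [Pi.single_apply, hki]
  · simp [Pi.single_apply, Equiv.swap_apply_of_ne_of_ne hki hkj, hki, hkj]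

/-- A submodule stable under `SU` is zero or everything. -/
theorem stable_eq_top [Nontrivial κ] (M : Submodule F (κ → F)) (hM : M ≠ ⊥)
    (hst : ∀ g : suG C κ, ∀ x ∈ M, app C g x ∈ M) : M = ⊤ := by
  obtain ⟨c, hc, hc2⟩ := exists_norm_sq_ne C
  have hc0 : c ≠ 0 := left_ne_zero_of_mul_eq_one hc
  obtain ⟨x, hx, hx0⟩ := Submodule.exists_mem_ne_zero_of_ne_bot hM
  obtain ⟨i, hi⟩ := Function.ne_iff.1 hx0
  have hcinv : c ≠ c⁻¹ := fun h => hc2 (by nth_rewrite 2 [h]; exact mul_inv_cancel₀ hc0)
  have hc1 : c - 1 ≠ 0 := fun h => hc2 (by rw [sub_eq_zero.1 h, one_mul])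
  obtain ⟨i₀, hmem⟩ : ∃ i₀, (Pi.single i₀ 1 : κ → F) ∈ M := by
    by_cases h3 : ∀ k, k ≠ i → x k = 0
    · refine ⟨i, ?_⟩
      have : (Pi.single i 1 : κ → F) = (x i)⁻¹ • x := by
        funext k
        by_cases hk : k = i
        · subst hk; simp [inv_mul_cancel₀ hi]
        · simp [hk, h3 k hk]
      rw [this]
      exact M.smul_mem _ hx
    push Not at h3
    obtain ⟨j, hji, -⟩ := h3
    refine ⟨i, ?_⟩
    -- `(g - 1)(g - c⁻¹)` for `g = diag(c, c⁻¹)` keeps the `i`-th coordinate only
    set g := diagPair C hji.symm c hc with hg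
    have h1 : app C g (app C g x - c⁻¹ • x) - (app C g x - c⁻¹ • x) ∈ M :=
      sub_mem (hst g _ (sub_mem (hst g x hx) (M.smul_mem _ hx))) (sub_mem (hst g x hx) (M.smul_mem _ hx))
    have h2 : app C g (app C g x - c⁻¹ • x) - (app C g x - c⁻¹ • x) =
        ((c - 1) * (c - c⁻¹) * x i) • (Pi.single i 1 : κ → F) := by
      funext k
      simp only [hg, Pi.sub_apply, Pi.smul_apply, app_diagPair, smul_eq_mul, Pi.single_apply]
      split_ifs with hki hkj
      · exact absurd (hkj.symm.trans hki) hji
      · subst hki; ring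
      · ring
      · ring
    rw [h2] at h1
    exact (M.smul_mem_iff (mul_ne_zero (mul_ne_zero hc1 (sub_ne_zero.2 hcinv)) hi)).1 h1
  rw [eq_top_iff]
  intro y _
  rw [← Finset.univ_sum_single y]
  refine sum_mem fun k _ => ?_
  have hy : (Pi.single k (y k) : κ → F) = y k • (Pi.single k 1 : κ → F) := by
    funext l; simp [Pi.single_apply]
  rw [hy]
  refine M.smul_mem _ ?_
  rcases eq_or_ne i₀ k with rfl | hk
  · exact hmem
  · rw [← app_swapPair_single C hk]; exact hst _ _ hmem

/-- `SU` has no non-trivial normal `p`-subgroup. -/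
theorem normal_pgroup_eq_bot {p : ℕ} [Fact p.Prime] [CharP F p] (N : Subgroup (suG C κ)) [N.Normal]
    (hN : IsPGroup p N) : N = ⊥ := by
  rw [eq_bot_iff]
  rcases subsingleton_or_nontrivial κ with hκ | hκ
  · intro g _
    exact Subgroup.mem_bot.2 (eq_one_of_subsingleton C g)
  classical
  let act : MulAction N (κ → F) :=
    { smul := fun A x => app C A.1 x
      one_smul := fun x => app_one C x
      mul_smul := fun A B x => app_mul C A.1 B.1 x }
  have : Finite (suG C κ) := Subtype.finite
  obtain ⟨i⟩ : Nonempty κ := inferInstance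
  have hcard : p ∣ Nat.card (κ → F) := by
    have h1 : (Pi.single i 1 : κ → F) ≠ 0 := by simp
    have h : addOrderOf (Pi.single i 1 : κ → F) = p :=
      addOrderOf_eq_prime (by rw [← Nat.cast_smul_eq_nsmul F, CharP.cast_eq_zero, zero_smul]) h1
    rw [← h]
    exact addOrderOf_dvd_natCard _
  obtain ⟨v, hv, hv0⟩ := hN.exists_fixed_point_of_prime_dvd_card_of_fixed_point (α := κ → F) hcard
    (a := 0) (fun A => by show app C A.1 0 = 0; simp [app])
  let M : Submodule F (κ → F) :=
    { carrier := {x | ∀ n ∈ N, app C n x = x}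
      zero_mem' := fun n _ => by simp [app]
      add_mem' := fun {a b} ha hb n hn => by rw [app_add, ha n hn, hb n hn]
      smul_mem' := fun r x hx n hn => by rw [app_smul, hx n hn] }
  have hM : M = ⊤ := stable_eq_top C M
    (fun h => hv0 ((Submodule.mem_bot F).1 (h ▸ (show v ∈ M from fun n hn => hv ⟨n, hn⟩))).symm)
    fun g x hx n hn => by
      have h1 := hx _ (‹N.Normal›.conj_mem n hn g⁻¹)
      rw [app_mul, app_mul, inv_inv] at h1
      conv_rhs => rw [← h1, app_app_inv]
  intro n hn
  refine Subgroup.mem_bot.2 (suG_ext C fun x => ?_)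
  rw [app_one]
  exact (hM ▸ Submodule.mem_top : x ∈ M) n hn

theorem blockHom_injective : Function.Injective (blockHom C κ) := fun g h hgh => suG_ext C fun x => by
  have := congrArg (fun z => app C z (inW x) ∘ Sum.inr) hgh
  simpa [app_blockHom, inW, Function.comp_def] using this

/-- Maps commuting with multiplication by the fixed field and one further scalar are linear. -/
theorem linear_of_commute {α β : Type*} [AddCommGroup α] [Module F α] [AddCommGroup β] [Module F β]
    (T : α →+ β) (h0 : ∀ r : F, C.σ r = r → ∀ x, T (r • x) = r • T x) {t : F} (ht : C.σ t ≠ t)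
    (h1 : ∀ x, T (t • x) = t • T x) (r : F) (x : α) : T (r • x) = r • T x := by
  have hne : t - C.σ t ≠ 0 := sub_ne_zero.2 (Ne.symm ht)
  set b := (r - C.σ r) / (t - C.σ t) with hb
  have hbb : b * (t - C.σ t) = r - C.σ r := div_mul_cancel₀ _ hne
  have hb' : C.σ b = b := by
    rw [hb, map_div₀, map_sub, map_sub, C.invol, C.invol, ← neg_sub r, ← neg_sub t, neg_div_neg_eq]
  have ha : C.σ (r - b * t) = r - b * t := by
    rw [map_sub, map_mul, hb']; linear_combination hbb
  have hr : r = (r - b * t) + b * t := by ring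
  rw [hr, add_smul, map_add, h0 _ ha, mul_smul, h0 _ hb', h1, add_smul, mul_smul]

/-- `q ≥ 3` gives multipliers outside the fixed field. -/
theorem exists_mult_not_fixed (hq : 3 ≤ C.q) :
    ∃ a : Fˣ, C.σ (C.σ (a : F) * C.σ a / a) ≠ C.σ a * C.σ a / a := by
  classical
  by_contra hall
  push Not at hall
  have hcube : ∀ c : F, c * C.σ c = 1 → c ^ 3 = 1 := by
    intro c hc
    obtain ⟨a, ha⟩ := exists_div_conj C hc
    have h := hall a
    rw [map_div₀, map_mul, C.invol] at h
    have hσa : C.σ (a : F) ≠ 0 := (map_ne_zero C.σ).2 a.ne_zero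
    rw [div_eq_div_iff hσa a.ne_zero] at h
    rw [← ha, div_pow, div_eq_one_iff_eq (pow_ne_zero 3 a.ne_zero)]
    linear_combination -h
  have hcard := CfsgLib.Forms.card_norm_fiber (F := F) C.card 1 one_ne_zero (one_pow _)
  have hle : Nat.card {x : F // x ^ (C.q + 1) = 1} ≤ 3 := by
    have hsub : (Finset.univ : Finset F).filter (fun x => x ^ (C.q + 1) = 1) ⊆
        (Polynomial.nthRoots 3 (1 : F)).toFinset := by
      intro x hx
      rw [Finset.mem_filter] at hx
      rw [Multiset.mem_toFinset, Polynomial.mem_nthRoots (by norm_num)]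
      exact hcube x (by rw [C.pow, ← pow_succ']; exact hx.2)
    have h1 := ((Finset.card_le_card hsub).trans (Multiset.toFinset_card_le _)).trans
      (Polynomial.card_nthRoots 3 _)
    rwa [Nat.card_eq_fintype_card, Fintype.card_subtype]
  omega

/-- An additive map commuting with all `phi g` is a scalar. -/
theorem scalar_of_commute [Nonempty κ] (h : Nontrivial κ ∨ 3 ≤ C.q) (T : (κ → F) →+ (κ → F))
    (hT : ∀ g : suG C (Fin 2 ⊕ κ), FixLines C g → ∀ w, T (phi C g w) = phi C g (T w)) :
    ∃ l : F, ∀ w, T w = l • w := by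
  obtain ⟨i₀⟩ := ‹Nonempty κ›
  have htor : ∀ (i : κ) (a : Fˣ) (w : κ → F) (k : κ),
      phi C (torEl C i a) w k = C.σ (a : F) * ((if k = i then C.σ (a : F) / a else 1) * w k) := by
    intro i a w k
    rw [phi_torEl, Pi.smul_apply, smul_eq_mul, Pi.add_apply, Pi.smul_apply, Pi.single_apply, smul_eq_mul]
    split_ifs with hk
    · subst hk; ring
    · ring
  have h0 : ∀ r : F, C.σ r = r → ∀ x, T (r • x) = r • T x := by
    intro r hr x
    by_cases hr0 : r = 0
    · simp [hr0]
    have hphi : ∀ w, phi C (torEl C i₀ (Units.mk0 r hr0)) w = r • w := by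
      intro w
      funext k
      rw [htor, Units.val_mk0, hr, div_self hr0, ite_self, one_mul, Pi.smul_apply, smul_eq_mul]
    have := hT _ (fixLines_torEl i₀ (Units.mk0 r hr0)) x
    rwa [hphi, hphi] at this
  rcases subsingleton_or_nontrivial κ with hκ | hκ
  · obtain ⟨a, ha⟩ := exists_mult_not_fixed C (h.resolve_left (not_nontrivial κ))
    have hphi : ∀ w, phi C (torEl C i₀ a) w = (C.σ (a : F) * C.σ a / a) • w := by
      intro w
      funext k
      rw [htor, if_pos (Subsingleton.elim k i₀), Pi.smul_apply, smul_eq_mul]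
      ring
    have hlin := linear_of_commute C T h0 ha fun x => by
      have := hT _ (fixLines_torEl i₀ a) x
      rwa [hphi, hphi] at this
    refine ⟨T (Pi.single i₀ 1) i₀, fun w => ?_⟩
    have hw : w = w i₀ • (Pi.single i₀ 1 : κ → F) := by
      funext k; rw [Subsingleton.elim k i₀]; simp
    conv_lhs => rw [hw, hlin]
    funext k
    rw [Subsingleton.elim k i₀, Pi.smul_apply, Pi.smul_apply, smul_eq_mul, smul_eq_mul, mul_comm]
  obtain ⟨c, hc, hc2⟩ := exists_norm_sq_ne C
  have hc0 : c ≠ 0 := left_ne_zero_of_mul_eq_one hc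
  have hcfix : C.σ c ≠ c := fun h' => hc2 (by rw [h'] at hc; exact hc)
  have hblock : ∀ (d : suG C κ) w, T (app C d w) = app C d (T w) := fun d w => by
    have := hT _ (fixLines_blockHom d) w
    rwa [phi_blockHom, phi_blockHom] at this
  -- the blocks of `T`
  let B : κ → κ → (F →+ F) := fun l i =>
    (Pi.evalAddMonoidHom (fun _ => F) l).comp (T.comp (AddMonoidHom.single (fun _ => F) i))
  have hB : ∀ l i r, B l i r = T (Pi.single i r) l := fun _ _ _ => rfl
  have hB0 : ∀ l i r, C.σ r = r → ∀ x, B l i (r • x) = r • B l i x := by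
    intro l i r hr x
    rw [hB, hB, Pi.single_smul, h0 r hr, Pi.smul_apply]
  have hdiag : ∀ l i, l ≠ i → B l i = 0 := by
    intro l i hli
    obtain ⟨a, ha⟩ := exists_div_conj C hc
    have hσa : C.σ (a : F) ≠ 0 := (map_ne_zero C.σ).2 a.ne_zero
    -- commuting with `diag(c, c⁻¹)` makes the block semilinear
    have h1 : ∀ x, B l i (c * x) = C.σ c * B l i x := by
      intro x
      have := congrFun (hblock (diagPair C (Ne.symm hli) c hc) (Pi.single i x)) l
      rw [app_diagPair, if_neg hli, one_mul, if_pos rfl,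
        show app C (diagPair C (Ne.symm hli) c hc) (Pi.single i x) = Pi.single i (c * x) by
          funext k
          rw [app_diagPair, Pi.single_apply, Pi.single_apply]
          by_cases hk : k = i
          · subst hk; simp [hli.symm]
          · simp [hk]] at this
      rw [hB, this, hB, inv_eq_of_mul_eq_one_right hc]
    let Sl : F →+ F := (C.σ : F →+* F).toAddMonoidHom.comp (B l i)
    have hlin := linear_of_commute C Sl (fun r hr x => by
      show C.σ (B l i (r • x)) = r • C.σ (B l i x)
      rw [hB0 l i r hr, smul_eq_mul, smul_eq_mul, map_mul, hr]) hcfix fun x => by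
      show C.σ (B l i (c • x)) = c • C.σ (B l i x)
      rw [smul_eq_mul, h1, map_mul, C.invol, smul_eq_mul]
    have hsemi : ∀ r x, B l i (r * x) = C.σ r * B l i x := fun r x => by
      have := congrArg C.σ (hlin r x)
      simp only [Sl, AddMonoidHom.coe_comp, Function.comp_apply, RingHom.toAddMonoidHom_eq_coe,
        AddMonoidHom.coe_coe, smul_eq_mul, C.invol, map_mul] at this
      exact this
    -- and the torus element at `i` kills it
    have h2 : ∀ x, B l i (C.σ (a : F) * c * x) = C.σ (a : F) * B l i x := by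
      intro x
      have := congrFun (hT _ (fixLines_torEl i a) (Pi.single i x)) l
      rw [htor, if_neg hli, one_mul,
        show phi C (torEl C i a) (Pi.single i x) = Pi.single i (C.σ (a : F) * c * x) by
          funext k
          rw [htor, Pi.single_apply, Pi.single_apply]
          by_cases hk : k = i
          · subst hk; simp [ha, mul_assoc]
          · simp [hk]] at this
      exact this
    ext x
    have h3 := h2 x
    rw [hsemi, map_mul, C.invol] at h3
    have h4 : ((a : F) * C.σ c - C.σ (a : F)) * B l i x = 0 := by linear_combination h3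
    rcases mul_eq_zero.1 h4 with h5 | h5
    · exfalso
      apply hc2
      have h6 : c = C.σ (a : F) / a := ha.symm
      rw [eq_div_iff a.ne_zero] at h6
      have h7 : (a : F) * (c * c - 1) = 0 := by linear_combination (c) * h6 + (-c) * h5 + (a : F) * hc
      exact sub_eq_zero.1 ((mul_eq_zero.1 h7).resolve_left a.ne_zero)
    · exact h5
  have hlinT : ∀ i r x, B i i (r * x) = r * B i i x := by
    intro i
    obtain ⟨j, hji⟩ := exists_ne i
    refine fun r x => linear_of_commute C (B i i) (fun r hr x => hB0 i i r hr x) hcfix (fun x => ?_) r x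
    have := congrFun (hblock (diagPair C hji.symm c hc) (Pi.single i x)) i
    rw [app_diagPair, if_pos rfl, if_neg hji.symm, mul_one,
      show app C (diagPair C hji.symm c hc) (Pi.single i x) = Pi.single i (c * x) by
        funext k
        rw [app_diagPair, Pi.single_apply, Pi.single_apply]
        by_cases hk : k = i
        · subst hk; simp [hji.symm]
        · simp [hk]] at this
    exact this
  have hTs : ∀ i x, T (Pi.single i x) = Pi.single i (x * B i i 1) := by
    intro i x
    funext l
    rcases eq_or_ne l i with rfl | hli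
    · rw [Pi.single_eq_same, ← hB, ← mul_one x, hlinT, mul_one]
    · rw [Pi.single_eq_of_ne hli, ← hB, hdiag l i hli]; rfl
  have heq : ∀ i, B i i 1 = B i₀ i₀ 1 := by
    intro i
    rcases eq_or_ne i₀ i with rfl | hi
    · rfl
    have := hblock (swapPair C hi) (Pi.single i₀ 1)
    rw [app_swapPair_single, hTs, hTs, one_mul, one_mul, app_swapPair_single] at this
    have := congrFun this i
    rwa [Pi.single_eq_same, Pi.single_eq_same] at this
  refine ⟨B i₀ i₀ 1, fun w => ?_⟩
  conv_lhs => rw [← Finset.univ_sum_single w, map_sum]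
  funext k
  rw [Finset.sum_apply, Finset.sum_eq_single k (fun i _ hi => by rw [hTs, Pi.single_eq_of_ne hi.symm])
    (fun h' => absurd (Finset.mem_univ k) h'), hTs, Pi.single_eq_same, heq, Pi.smul_apply, smul_eq_mul,
    mul_comm]

end CfsgLib.AutPSU
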