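import Cfsg.Agent.AutPSU.Field
import Cfsg.Agent.AutPSU.Descent
import Cfsg.Agent.AutPSU.Torus
import Cfsg.Agent.AutPSL.Involution
import Cfsg.Agent.AutPSL.LocalBalanceInner
import Cfsg.Agent.S0282

/-!
# Local balance at field automorphisms of odd prime order of `PSU_n(q)`
-/

set_option autoImplicit false
set_option linter.unusedSectionVars false

namespace CfsgLib.AutPSU

open Matrix CfsgLib.RepBounds.Unit
open CfsgLib.AutPSL (mapGL)

variable {F : Type*} [Field F] [Fintype F] {n : ℕ}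

/-- A ring automorphism fixing the fixed field of `σ` is a power of `σ`. -/
theorem mem_zpowers_of_fix {σ τ : F ≃+* F} (h : ∀ c, σ c = c → τ c = c) : τ ∈ Subgroup.zpowers σ := by
  classical
  have : Finite (F ≃+* F) := Finite.of_injective (fun e : F ≃+* F => (e : F → F)) DFunLike.coe_injective
  let H : Subgroup (F ≃+* F) :=
    { carrier := {e | ∀ c, σ c = c → e c = c}
      one_mem' := fun c _ => rfl
      mul_mem' := fun {a b} ha hb c hc => by change a (b c) = c; rw [hb c hc, ha c hc]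
      inv_mem' := fun {a} ha c hc => (a.symm_apply_eq).2 (ha c hc).symm }
  have := CfsgLib.AutPSL.isCyclic_ringEquiv (F := F)
  obtain ⟨⟨τ₀, hτ₀⟩, hgen⟩ := IsCyclic.exists_generator (α := H)
  have hH : H = Subgroup.zpowers τ₀ := by
    refine le_antisymm (fun e he => ?_) (Subgroup.zpowers_le.2 hτ₀)
    obtain ⟨k, hk⟩ := hgen ⟨e, he⟩
    exact ⟨k, congrArg Subtype.val hk⟩
  have hσH : σ ∈ H := fun c hc => hc
  have hfixeq : CfsgLib.FixedField.fixedSub τ₀ = CfsgLib.FixedField.fixedSub σ := by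
    ext c
    refine ⟨fun hc => ?_, fun hc => hτ₀ c hc⟩
    rw [hH] at hσH
    have hs : τ₀ ∈ MulAction.stabilizer (F ≃+* F) c := hc
    exact (Subgroup.zpowers_le.2 hs) hσH
  have hcard := (CfsgLib.FixedField.card_pow τ₀ rfl).symm.trans (CfsgLib.FixedField.card_pow σ rfl)
  rw [hfixeq] at hcard
  have hq : 1 < Nat.card (CfsgLib.FixedField.fixedSub σ) := Finite.one_lt_card
  have hord : orderOf τ₀ = orderOf σ := Nat.pow_right_injective hq hcard
  have hle : Subgroup.zpowers σ ≤ H := Subgroup.zpowers_le.2 hσH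
  have heq : Subgroup.zpowers σ = H := Subgroup.eq_of_le_of_card_ge hle
    (by rw [hH, Nat.card_zpowers, Nat.card_zpowers, hord])
  exact heq ▸ h

variable (C : ConjField F)

/-- The fixed field of an automorphism of odd order carries the restricted involution. -/
theorem exists_fixedConj {σ : F ≃+* F} {p : ℕ} (hσ : orderOf σ = p) (hp : Odd p)
    [Fintype (CfsgLib.FixedField.fixedSub σ)] :
    ∃ C₀ : ConjField (CfsgLib.FixedField.fixedSub σ), (∀ x, (C₀.σ x : F) = C.σ x) ∧ C.q = C₀.q ^ p := by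
  obtain ⟨k, rfl⟩ := hp
  have hc := CfsgLib.FixedField.card_pow σ hσ
  rw [C.card] at hc
  set Q := Nat.card (CfsgLib.FixedField.fixedSub σ) with hQ
  obtain ⟨q₀, hq₀⟩ : Q ^ k ∣ C.q := by
    rw [← Nat.pow_dvd_pow_iff (n := 2) two_ne_zero]
    exact ⟨Q, by rw [hc]; ring⟩
  have hQ0 : 0 < Q := Nat.card_pos
  have hQq : Q = q₀ ^ 2 := by
    refine Nat.eq_of_mul_eq_mul_left (pow_pos hQ0 (2 * k)) ?_
    rw [← pow_succ, ← hc, hq₀]
    ring
  have hqp : C.q = q₀ ^ (2 * k + 1) := by rw [hq₀, hQq]; ring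
  have hsq : ∀ x : CfsgLib.FixedField.fixedSub σ, x ^ q₀ ^ 2 = x := fun x => by
    rw [← hQq, hQ, Nat.card_eq_fintype_card, FiniteField.pow_card]
  refine ⟨⟨(barFixed C σ).toRingHom, q₀, fun x => Subtype.ext ?_, by rw [← hQq, hQ, Nat.card_eq_fintype_card]⟩,
    fun x => rfl, hqp⟩
  have h : ∀ j : ℕ, x ^ q₀ ^ (2 * j + 1) = x ^ q₀ := by
    intro j
    induction j with
    | zero => simp
    | succ j ih => rw [show 2 * (j + 1) + 1 = 2 + (2 * j + 1) by ring, pow_add, pow_mul, hsq, ih]
  show C.σ x.1 = ((x ^ q₀ : CfsgLib.FixedField.fixedSub σ) : F)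
  rw [← h k, ← hqp, C.pow]
  rfl

variable {σ : F ≃+* F} [Fintype (CfsgLib.FixedField.fixedSub σ)] {C₀ : ConjField (CfsgLib.FixedField.fixedSub σ)}
  (h₀ : ∀ x, (C₀.σ x : F) = C.σ x)
include h₀

/-- Extension of scalars from the fixed field. -/
def fixedIncl : suG C₀ (Fin n) →* ↥(Cfsg.SU n F C.q) where
  toFun B := ⟨Matrix.SpecialLinearGroup.map (CfsgLib.FixedField.fixedSub σ).subtype B.1, by
    have h1 : Matrix.SpecialLinearGroup.toGL B.1 ∈ Cfsg.GU n (CfsgLib.FixedField.fixedSub σ) C₀.q :=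
      mem_GU_iff.2 (mem_SU_iff'.1 (suG_fin_eq C₀ n ▸ B.2))
    have h2 : B.1.1ᵀ * B.1.1.map C₀.σ = 1 := (mem_GU_iff_matrix C₀).1 h1
    have h3 : (B.1.1.map (CfsgLib.FixedField.fixedSub σ).subtype).map C.σ =
        (B.1.1.map C₀.σ).map (CfsgLib.FixedField.fixedSub σ).subtype :=
      Matrix.ext fun i j => (h₀ _).symm
    refine mem_SU_iff'.2 (mem_GU_iff.1 ((mem_GU_iff_matrix C
      (g := Matrix.SpecialLinearGroup.toGL (Matrix.SpecialLinearGroup.map _ B.1))).2 ?_))
    show (B.1.1.map (CfsgLib.FixedField.fixedSub σ).subtype)ᵀ *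
      (B.1.1.map (CfsgLib.FixedField.fixedSub σ).subtype).map C.σ = 1
    rw [h3, ← Matrix.transpose_map, ← Matrix.map_mul, h2, Matrix.map_one _ (map_zero _) (map_one _)]⟩
  map_one' := Subtype.ext (map_one _)
  map_mul' A B := Subtype.ext (map_mul _ _ _)

theorem fixedIncl_val (B : suG C₀ (Fin n)) :
    (fixedIncl C h₀ B).1.1 = B.1.1.map (CfsgLib.FixedField.fixedSub σ).subtype := rfl

theorem fieldSU_fixedIncl (B : suG C₀ (Fin n)) : fieldSU σ (fixedIncl C h₀ B) = fixedIncl C h₀ B :=
  Subtype.ext (Subtype.ext (Matrix.ext fun i j => (B.1.1 i j).2))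

theorem exists_fixedIncl {D : ↥(Cfsg.SU n F C.q)} (hD : fieldSU σ D = D) :
    ∃ B : suG C₀ (Fin n), fixedIncl C h₀ B = D := by
  have hfix : ∀ i j, σ (D.1.1 i j) = D.1.1 i j := fun i j =>
    congrFun (congrFun (congrArg (fun s : ↥(Cfsg.SU n F C.q) => s.1.1) hD) i) j
  set φ := (CfsgLib.FixedField.fixedSub σ).subtype
  let M : Matrix (Fin n) (Fin n) (CfsgLib.FixedField.fixedSub σ) := Matrix.of fun i j => ⟨_, hfix i j⟩
  have hdet : M.det = 1 := φ.injective (by rw [RingHom.map_det, map_one]; exact D.1.2)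
  refine ⟨⟨⟨M, hdet⟩, ?_⟩, Subtype.ext (Subtype.ext rfl)⟩
  intro u v
  have h := mem_SU_iff'.1 D.2 (φ ∘ u) (φ ∘ v)
  rw [hermForm_eq, show D.1.1 = M.map φ from rfl,
    show M.map φ *ᵥ (φ ∘ u) = φ ∘ (M *ᵥ u) from funext fun i => (RingHom.map_mulVec φ M u i).symm,
    show M.map φ *ᵥ (φ ∘ v) = φ ∘ (M *ᵥ v) from funext fun i => (RingHom.map_mulVec φ M v i).symm] at h
  apply φ.injective
  simpa [herm, h₀, φ] using h

/-- Semilinear maps fixing the isotropic lines of the fixed field. -/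
theorem scalar_of_fixed_lines (hn : 3 ≤ n) {g : ↥(Cfsg.GU n F C.q)} {τ : F ≃+* F}
    (key : ∀ w : Fin n → F, (∀ i, σ (w i) = w i) → herm C w w = 0 → ∃ t : F, g.1.1 *ᵥ (τ ∘ w) = t • w) :
    (∀ a, σ a = a → τ a = a) ∧
      ∃ u : Fˣ, u ∈ normOne F C.q ∧ g.1 = Matrix.GeneralLinearGroup.scalar (Fin n) u := by
  classical
  set col : Fin n → Fin n → F := fun i => g.1.1 *ᵥ Pi.single i 1 with hcol
  obtain ⟨z₀, hz₀⟩ := C₀.exists_norm_neg_one
  obtain ⟨c₀, hc₀, hc₀2⟩ := exists_norm_sq_ne C₀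
  set ζ₀ : F := z₀.1
  set c : F := c₀.1
  have hζ₀ : ζ₀ * C.σ ζ₀ = -1 := by
    rw [← h₀]; exact congrArg Subtype.val hz₀
  have hc : c * C.σ c = 1 := by rw [← h₀]; exact congrArg Subtype.val hc₀
  have hc2 : c * c ≠ 1 := fun h => hc₀2 (Subtype.ext h)
  have hpairvec : ∀ i j, i ≠ j → ∀ z : F, σ z = z → z * C.σ z = -1 →
      ∃ t : F, col i + τ z • col j = t • (Pi.single i 1 + z • Pi.single j 1 : Fin n → F) := by
    intro i j hij z hzσ hz
    obtain ⟨t, ht⟩ := key (Pi.single i 1 + z • Pi.single j 1)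
      (fun k => by simp [Pi.single_apply, apply_ite σ, hzσ]) (by
      simp only [herm_add_left, herm_add_right, herm_smul_left, herm_smul_right]
      simp [herm, Pi.single_apply, hij, hij.symm]
      linear_combination hz)
    refine ⟨t, ?_⟩
    rw [← ht, show τ ∘ (Pi.single i 1 + z • Pi.single j 1 : Fin n → F) =
      Pi.single i 1 + τ z • Pi.single j 1 by
        funext k; simp [Pi.single_apply, apply_ite τ], Matrix.mulVec_add, Matrix.mulVec_smul]
  have hζσ : σ ζ₀ = ζ₀ := z₀.2
  have hζcσ : σ (ζ₀ * c) = ζ₀ * c := (z₀ * c₀).2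
  have hζ' : ζ₀ * c * C.σ (ζ₀ * c) = -1 := by rw [map_mul]; linear_combination (c * C.σ c) * hζ₀ + (-1) * hc
  have hζ0 : ζ₀ ≠ 0 := left_ne_zero_of_mul_eq_one (b := -C.σ ζ₀) (by linear_combination -hζ₀)
  have hζne : τ ζ₀ - τ (ζ₀ * c) ≠ 0 := by
    rw [← map_sub, map_ne_zero_iff τ τ.injective, show ζ₀ - ζ₀ * c = ζ₀ * (1 - c) by ring]
    exact mul_ne_zero hζ0 (sub_ne_zero.2 fun h => hc2 (by rw [← h, one_mul]))
  have hsupp : ∀ j k, k ≠ j → col j k = 0 := by
    intro j k hkj
    obtain ⟨i, hij, hik⟩ : ∃ i : Fin n, i ≠ j ∧ i ≠ k := by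
      have h2 : ({j, k} : Finset (Fin n)).card < (Finset.univ : Finset (Fin n)).card := by
        rw [Finset.card_univ, Fintype.card_fin]
        exact lt_of_le_of_lt Finset.card_le_two (by omega)
      obtain ⟨i, -, hi⟩ := Finset.exists_mem_notMem_of_card_lt_card h2
      simp only [Finset.mem_insert, Finset.mem_singleton, not_or] at hi
      exact ⟨i, hi.1, hi.2⟩
    obtain ⟨t, ht⟩ := hpairvec i j hij ζ₀ hζσ hζ₀
    obtain ⟨t', ht'⟩ := hpairvec i j hij _ hζcσ hζ'
    have h1 := congrFun ht k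
    have h2 := congrFun ht' k
    simp [hkj, Ne.symm hik] at h1 h2
    have h3 : (τ ζ₀ - τ (ζ₀ * c)) * col j k = 0 := by rw [map_mul τ]; linear_combination h1 - h2
    exact (mul_eq_zero.1 h3).resolve_left hζne
  set t : Fin n → F := fun i => col i i with ht
  have hgd : g.1.1 = Matrix.diagonal t := by
    ext r i
    by_cases hri : r = i
    · subst hri
      simp [t, col]
    · have := hsupp i r hri
      simp only [col, Matrix.mulVec_single_one, Matrix.col_apply] at this
      rw [this, Matrix.diagonal_apply_ne _ hri]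
  have ht0 : ∀ r, t r ≠ 0 := fun r h0 => g.1.det.ne_zero (by
    rw [Matrix.GeneralLinearGroup.val_det_apply, hgd, Matrix.det_diagonal]
    exact Finset.prod_eq_zero (Finset.mem_univ r) h0)
  obtain ⟨o₁, o₂, o₃, h12, h13, h23⟩ : ∃ a b c : Fin n, a ≠ b ∧ a ≠ c ∧ b ≠ c :=
    ⟨⟨0, by omega⟩, ⟨1, by omega⟩, ⟨2, by omega⟩, by simp, by simp, by simp⟩
  have hiso : ∀ i j, i ≠ j → t j * τ ζ₀ = t i * ζ₀ := by
    intro i j hij
    obtain ⟨s, hs⟩ := hpairvec i j hij ζ₀ hζσ hζ₀
    have hi := congrFun hs i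
    have hj := congrFun hs j
    have h1 : col i j = 0 := hsupp i j hij.symm
    have h2 : col j i = 0 := hsupp j i hij
    simp [hij, hij.symm, h1, h2] at hi hj
    show col j j * τ ζ₀ = col i i * ζ₀
    rw [hi]; linear_combination hj
  have hτζ : τ ζ₀ = ζ₀ := by
    have a := hiso o₁ o₂ h12
    have b := hiso o₂ o₃ h23
    have d := hiso o₁ o₃ h13
    have h1 : t o₁ * ζ₀ * (τ ζ₀ - ζ₀) = 0 := by linear_combination ζ₀ * a + τ ζ₀ * b - τ ζ₀ * d
    exact sub_eq_zero.1 ((mul_eq_zero.1 h1).resolve_left (mul_ne_zero (ht0 _) hζ0))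
  have hconst : ∀ i, t i = t o₁ := by
    intro i
    by_cases hi : i = o₁
    · rw [hi]
    have := hiso o₁ i (Ne.symm hi)
    rw [hτζ] at this
    exact mul_right_cancel₀ hζ0 this
  refine ⟨fun a ha => ?_, Units.mk0 _ (ht0 o₁), ?_, Units.ext ?_⟩
  · let a₀ : CfsgLib.FixedField.fixedSub σ := ⟨a, ha⟩
    obtain ⟨b₀, hb₀⟩ := CfsgLib.Forms.exists_mul_involution_eq C₀.ne_id C₀.invol
      (c := -1 - a₀ * C₀.σ a₀) (by rw [map_sub, map_neg, map_one, map_mul, C₀.invol, mul_comm (C₀.σ a₀)])
    have hb : b₀.1 * C.σ b₀.1 = -1 - a * C.σ a := by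
      rw [← h₀, ← h₀ a₀]; exact congrArg Subtype.val hb₀
    obtain ⟨s, hs⟩ := key (Pi.single o₁ 1 + a • Pi.single o₂ 1 + b₀.1 • Pi.single o₃ 1)
      (fun k => by simp [Pi.single_apply, apply_ite σ, ha, show σ b₀.1 = b₀.1 from b₀.2]) (by
      simp only [herm_add_left, herm_add_right, herm_smul_left, herm_smul_right]
      simp [herm, Pi.single_apply, h12, h13, h23, h12.symm, h13.symm, h23.symm]
      linear_combination hb)
    have h1 := congrFun hs o₁
    have h2 := congrFun hs o₂
    rw [hgd, Matrix.mulVec_diagonal] at h1 h2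
    simp [h12, h13, h23, h12.symm, hconst o₂] at h1 h2
    rw [← h1] at h2
    exact mul_left_cancel₀ (ht0 o₁) h2
  · rw [mem_normOne]
    apply Units.ext
    have h1 := mem_GU_iff.1 g.2 (Pi.single o₁ 1) (Pi.single o₁ 1)
    rw [hermForm_eq, hgd] at h1
    simp [herm, Matrix.mulVec_diagonal, Pi.single_apply, apply_ite C.σ] at h1
    rw [Units.val_pow_eq_pow_val, Units.val_mk0, Units.val_one, pow_succ', ← C.pow]
    linear_combination h1
  · rw [hgd]
    ext i j
    by_cases hij : i = j <;> simp [hij, hconst j]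

omit h₀

/-- A normal subgroup of `SU_n` over a smaller field is everything or central. -/
theorem suG_fin_normal {C' : ConjField F} (hn : 3 ≤ n) (hs : ¬ (n = 3 ∧ C'.q = 2))
    (N : Subgroup (suG C' (Fin n))) [N.Normal] : N = ⊤ ∨ N ≤ Subgroup.center (suG C' (Fin n)) := by
  obtain ⟨m, rfl⟩ : ∃ m, n = 2 + (m + 1) := ⟨n - 3, by omega⟩
  obtain ⟨E, -⟩ : ∃ _E : suG C' (Fin 2 ⊕ Fin (m + 1)) ≃* suG C' (Fin (2 + (m + 1))), True :=
    ⟨reindexIso C' finSumFinEquiv, trivial⟩
  rcases CfsgLib.Forms4.suG_normal_eq_top_or_le_center C' (κ := Fin (m + 1)) (by simp; omega)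
    (N.comap E.toMonoidHom) with h | h
  · left
    rw [← Subgroup.map_comap_eq_self_of_surjective (f := E.toMonoidHom) E.surjective N, h,
      Subgroup.map_top_of_surjective _ E.surjective]
  · right
    rw [← Subgroup.map_comap_eq_self_of_surjective (f := E.toMonoidHom) E.surjective N, ← map_center_iso E]
    exact Subgroup.map_mono h

/-- A scalar matrix of determinant one is central. -/
theorem mem_center_of_scalar {q : ℕ} {s : ↥(Cfsg.SU n F q)} {r : F} (h : s.1.1 = r • 1) :
    s ∈ Subgroup.center ↥(Cfsg.SU n F q) := by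
  rw [Subgroup.mem_center_iff]
  intro t
  apply Subtype.ext
  apply Subtype.ext
  show t.1.1 * s.1.1 = s.1.1 * t.1.1
  rw [h, Matrix.mul_smul, Matrix.smul_mul, Matrix.mul_one, Matrix.one_mul]

/-- A prime dividing `q^p + 1` divides `q + 1`. -/
theorem dvd_add_one_of_dvd_pow {p q : ℕ} [Fact p.Prime] (h : p ∣ q ^ p + 1) : p ∣ q + 1 := by
  rw [← ZMod.natCast_eq_zero_iff] at h ⊢
  push_cast at h ⊢
  rwa [ZMod.pow_card] at h

variable (C : ConjField F)
variable {σ : F ≃+* F} {p : ℕ} [Fact p.Prime]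

/-- **Local balance at a field automorphism of odd prime order.** -/
theorem core_field_iff (hn : 3 ≤ n) (hs : ¬ (n = 3 ∧ C.q = 2)) (A : Subgroup (MulAut (Cfsg.PSU n F C.q)))
    (hinn : ∀ k : Cfsg.PSU n F C.q, MulAut.conj k ∈ A) (hp2 : p ≠ 2) (hpF : (p : F) ≠ 0)
    (hσ : orderOf σ = p) :
    Cfsg.pPrimeCore p ↥(A ⊓ Subgroup.centralizer {toPSUAut (fieldSU (n := n) (q := C.q) σ)}) ≠ ⊥ ↔
      Nat.Coprime p (Nat.card ↥(MonoidHom.eqLocus (toPSUAut (fieldSU (n := n) (q := C.q) σ)).toMonoidHom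
        (MonoidHom.id (Cfsg.PSU n F C.q)))) := by
  classical
  have hpp : p.Prime := Fact.out
  have hodd : Odd p := hpp.odd_of_ne_two hp2
  have : Finite (Cfsg.PSU n F C.q) := Quotient.finite _
  have := CfsgLib.Forms4.isSimpleGroup_PSU C.card n hn hs
  have hns : ¬ Group.IsSolvable (Cfsg.PSU n F C.q) := fun h => by
    have h1 := IsSimpleGroup.derivedSeries_succ (G := Cfsg.PSU n F C.q) (n := 0)
    obtain ⟨k, hk⟩ := (Group.isSolvable_def (G := Cfsg.PSU n F C.q)).1 h
    have hperf : commutator (Cfsg.PSU n F C.q) = ⊤ := by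
      have h2 := congrArg (Subgroup.map (QuotientGroup.mk' (Subgroup.center ↥(Cfsg.SU n F C.q))))
        (commutator_SU_eq_top C.card hn hs)
      rwa [commutator_def, Subgroup.map_commutator, Subgroup.map_top_of_surjective _ (QuotientGroup.mk'_surjective _),
        ← commutator_def] at h2
    have h3 : ∀ j, derivedSeries (Cfsg.PSU n F C.q) j = ⊤ := fun j => by
      induction j with
      | zero => rfl
      | succ j ih => rw [derivedSeries_succ, ih, ← commutator_def, hperf]
    exact bot_ne_top (hk ▸ h3 k)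
  let K := CfsgLib.FixedField.fixedSub σ
  let _instK : Fintype (CfsgLib.FixedField.fixedSub σ) := Fintype.ofFinite _
  obtain ⟨C₀, h₀, hq⟩ := exists_fixedConj C hσ hodd
  set φ := toPSUAut (fieldSU (n := n) (q := C.q) σ) with hφ
  have hφord : orderOf φ = p := by rw [hφ, orderOf_field C.card hn hs, hσ]
  refine CfsgLib.AutPSL.core_iff_of_fixed hns A hinn hφord fun hpE => ?_
  let θ : suG C₀ (Fin n) →* Cfsg.PSU n F C.q :=
    (QuotientGroup.mk' (Subgroup.center ↥(Cfsg.SU n F C.q))).comp (fixedIncl C h₀)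
  have hθfix : ∀ B, φ (θ B) = θ B := fun B => by
    rw [hφ]
    exact (toPSUAut_mk _ _).trans (congrArg QuotientGroup.mk (fieldSU_fixedIncl C h₀ B))
  have hker : θ.ker = Subgroup.center (suG C₀ (Fin n)) := by
    ext B
    rw [MonoidHom.mem_ker]
    constructor
    · intro hB
      have hB' : fixedIncl C h₀ B ∈ Subgroup.center _ := (QuotientGroup.eq_one_iff _).1 hB
      obtain ⟨r, hr⟩ := CfsgLib.Forms4.exists_scalar_of_mem_center C.card (by omega) hB'
      rw [Subgroup.mem_center_iff]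
      intro B'
      refine Subtype.ext (Subtype.ext ?_)
      apply Matrix.map_injective (f := K.subtype) K.subtype.injective
      show (B'.1.1 * B.1.1).map K.subtype = (B.1.1 * B'.1.1).map K.subtype
      rw [Matrix.map_mul, Matrix.map_mul, show B.1.1.map K.subtype = r • 1 from hr, Matrix.mul_smul,
        Matrix.smul_mul, Matrix.mul_one, Matrix.one_mul]
    · intro hB
      let e := MulEquiv.subgroupCongr (suG_fin_eq C₀ n)
      have h1 : e B ∈ Subgroup.center _ := by
        rw [← map_center_iso e]; exact Subgroup.mem_map_of_mem _ hB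
      obtain ⟨r, hr⟩ := CfsgLib.Forms4.exists_scalar_of_mem_center C₀.card (by omega) h1
      refine (QuotientGroup.eq_one_iff _).2 (mem_center_of_scalar (r := (r : F)) ?_)
      rw [fixedIncl_val, show B.1.1 = r • 1 from hr]
      ext i j
      by_cases hij : i = j <;> simp [hij]
  refine ⟨θ.range, ?_, ?_, ?_, ?_⟩
  · rintro _ ⟨B, rfl⟩
    exact hθfix B
  · rintro e he _ ⟨B, rfl⟩
    obtain ⟨D, rfl⟩ := QuotientGroup.mk_surjective e
    obtain ⟨z, hz, hzD⟩ : ∃ z ∈ Subgroup.center ↥(Cfsg.SU n F C.q), fieldSU σ D = D * z :=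
      ⟨D⁻¹ * fieldSU σ D, QuotientGroup.eq.1 (he : QuotientGroup.mk (fieldSU σ D) = _).symm, by group⟩
    obtain ⟨B', hB'⟩ := exists_fixedIncl C h₀ (D := D * fixedIncl C h₀ B * D⁻¹) (by
      rw [map_mul, map_mul, map_inv, fieldSU_fixedIncl, hzD, _root_.mul_inv_rev, mul_assoc D z,
        ← Subgroup.mem_center_iff.1 hz (fixedIncl C h₀ B)]
      group)
    refine ⟨B', ?_⟩
    show QuotientGroup.mk (fixedIncl C h₀ B') = _
    rw [hB']
    rfl
  · -- no normal `p'`-subgroup
    have hpH : p ∣ Nat.card θ.range := by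
      obtain ⟨k, hk⟩ := exists_prime_orderOf_dvd_card' p hpE
      obtain ⟨D, hD⟩ := QuotientGroup.mk_surjective k.1
      have hk' : φ k.1 = k.1 := k.2
      rw [← hD] at hk'
      obtain ⟨z, hz, hzD⟩ : ∃ z ∈ Subgroup.center ↥(Cfsg.SU n F C.q), fieldSU σ D = D * z :=
        ⟨D⁻¹ * fieldSU σ D, QuotientGroup.eq.1 (hk' : QuotientGroup.mk (fieldSU σ D) = _).symm, by group⟩
      set m := Nat.gcd n (C.q + 1) with hm
      by_cases hpm : p ∣ m
      · have hp0 : p ∣ C₀.q + 1 := dvd_add_one_of_dvd_pow (hq ▸ hpm.trans (Nat.gcd_dvd_right _ _))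
        have : Fintype (normOne K C₀.q) := Fintype.ofFinite _
        obtain ⟨c, hc⟩ := exists_prime_orderOf_dvd_card' (G := normOne K C₀.q) p
          (by rw [card_normOne C₀.card]; exact hp0)
        have hcn : (c.1 : K) * C₀.σ c.1 = 1 := by
          rw [C₀.pow, ← pow_succ', ← Units.val_pow_eq_pow_val, mem_normOne.1 c.2, Units.val_one]
        obtain ⟨o₁, o₂, o₃, h12, h13, h23⟩ : ∃ a b c : Fin n, a ≠ b ∧ a ≠ c ∧ b ≠ c :=
          ⟨⟨0, by omega⟩, ⟨1, by omega⟩, ⟨2, by omega⟩, by simp, by simp, by simp⟩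
        set d := diagPair C₀ h12 (c.1 : K) hcn with hd
        have hc1 : ((c.1 : Kˣ) : K) ≠ 1 := fun h => by
          rw [show c = 1 from Subtype.ext (Units.ext h), orderOf_one] at hc
          exact hpp.one_lt.ne hc
        have hdp : d ^ p = 1 := by
          have hcp : ((c.1 : Kˣ) : K) ^ p = 1 := by
            rw [← Units.val_pow_eq_pow_val, ← SubmonoidClass.coe_pow, ← hc, pow_orderOf_eq_one]; rfl
          apply Subtype.ext
          apply Subtype.ext
          rw [SubmonoidClass.coe_pow, Matrix.SpecialLinearGroup.coe_pow]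
          show (Matrix.diagonal _) ^ p = 1
          rw [Matrix.diagonal_pow, ← Matrix.diagonal_one]
          congr 1
          funext i
          simp only [Pi.pow_apply, mul_pow]
          split_ifs <;> simp [hcp, inv_pow]
        have hd1 : θ d ≠ 1 := by
          intro h
          have h' : d ∈ Subgroup.center (suG C₀ (Fin n)) := hker ▸ (MonoidHom.mem_ker.2 h)
          let e := MulEquiv.subgroupCongr (suG_fin_eq C₀ n)
          have h1 : e d ∈ Subgroup.center _ := by
            rw [← map_center_iso e]; exact Subgroup.mem_map_of_mem _ h'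
          obtain ⟨r, hr⟩ := CfsgLib.Forms4.exists_scalar_of_mem_center C₀.card (by omega) h1
          have e1 := congrFun (congrFun hr o₁) o₁
          have e3 := congrFun (congrFun hr o₃) o₃
          simp [e, d, diagPair, h12, h13.symm, h23.symm] at e1 e3
          exact hc1 (e1.trans e3.symm)
        have ho : orderOf (θ d) = p := orderOf_eq_prime (by rw [← map_pow, hdp, map_one]) hd1
        rw [← ho]
        exact Subgroup.orderOf_dvd_natCard _ ⟨d, rfl⟩
      · obtain ⟨r, hr⟩ := CfsgLib.Forms4.exists_scalar_of_mem_center C.card (by omega) hz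
        have hzm : z ^ m = 1 := by
          rw [← orderOf_dvd_iff_pow_eq_one, hm]
          have hcard := CfsgLib.Forms4.card_center_SU (n := n) C.card (by omega)
          rw [← hcard]
          rw [← Subgroup.orderOf_mk z hz]
          exact orderOf_dvd_natCard _
        obtain ⟨B, hB⟩ := exists_fixedIncl C h₀ (D := D ^ m) (by
          have hcm : Commute D z := Subgroup.mem_center_iff.1 hz D
          rw [map_pow, hzD, hcm.mul_pow, hzm, mul_one])
        have hkB : θ B = k.1 ^ m := by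
          show QuotientGroup.mk (fixedIncl C h₀ B) = _
          rw [hB, QuotientGroup.mk_pow, hD]
        have ho : orderOf (k.1 ^ m) = p := by
          have hk2 : orderOf k.1 = p := by rw [Subgroup.orderOf_coe, hk]
          rw [Nat.Coprime.orderOf_pow (by rw [hk2]; exact hpp.coprime_iff_not_dvd.2 hpm), hk2]
        rw [← ho]
        exact Subgroup.orderOf_dvd_natCard _ ⟨B, hkB⟩
    intro N hN hNn hNc
    have hnot : ¬ p ∣ Nat.card N := hpp.coprime_iff_not_dvd.1 hNc.symm
    set M := N.comap θ with hM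
    have hMn : M.Normal := ⟨fun b hb g => by
      show θ (g * b * g⁻¹) ∈ N
      rw [map_mul, map_mul, map_inv]
      exact hNn _ ⟨g, rfl⟩ _ hb⟩
    have := hMn
    have hmap : M.map θ = N := Subgroup.map_comap_eq_self hN
    by_cases hs₀ : n = 3 ∧ C₀.q = 2
    · obtain ⟨rfl, hq2⟩ := hs₀
      have hK4 : Fintype.card K = 4 := by rw [C₀.card, hq2]; rfl
      have h216 : Nat.card (suG C₀ (Fin 3)) = 216 := by
        rw [suG_fin_eq C₀ 3, hq2, Subgroup.card_eq_card_quotient_mul_card_subgroup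
            (Subgroup.center ↥(Cfsg.SU 3 K 2)),
          CfsgLib.Forms4.card_center_SU (by rw [hK4]; rfl) (by norm_num)]
        rw [show Nat.card (↥(Cfsg.SU 3 K 2) ⧸ Subgroup.center ↥(Cfsg.SU 3 K 2)) = 72 from
          (Cfsg.Agent.S0282.result hK4).1]
        rfl
      have hp3 : p = 3 := by
        have h1 : p ∣ 2 ^ 3 * 3 ^ 3 := by
          rw [show 2 ^ 3 * 3 ^ 3 = 216 from rfl, ← h216]
          exact hpH.trans (Subgroup.card_range_dvd θ)
        rcases (Nat.Prime.dvd_mul hpp).1 h1 with h | h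
        · exact absurd ((Nat.prime_dvd_prime_iff_eq hpp Nat.prime_two).1 (hpp.dvd_of_dvd_pow h)) hp2
        · exact (Nat.prime_dvd_prime_iff_eq hpp Nat.prime_three).1 (hpp.dvd_of_dvd_pow h)
      subst hp3
      have hN8 : Nat.card N ∣ 2 ^ 3 := by
        have h1 : Nat.card N ∣ 2 ^ 3 * 3 ^ 3 := by
          rw [show 2 ^ 3 * 3 ^ 3 = 216 from rfl, ← h216]
          exact (Subgroup.card_dvd_of_le hN).trans (Subgroup.card_range_dvd θ)
        exact (hNc.pow_right 3).dvd_of_dvd_mul_right h1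
      obtain ⟨i, -, hNi⟩ := (Nat.dvd_prime_pow Nat.prime_two).1 hN8
      have : CharP K 2 := by
        refine CharTwo.of_one_ne_zero_of_two_eq_zero one_ne_zero ?_
        have h4 : ((4 : ℕ) : K) = 0 := by rw [← hK4]; exact FiniteField.cast_card_eq_zero K
        have : (2 : K) * 2 = 0 := by exact_mod_cast h4
        exact mul_self_eq_zero.1 this
      have : Fact (Nat.Prime 2) := ⟨Nat.prime_two⟩
      have : Group.IsNilpotent N := (IsPGroup.of_card hNi).isNilpotent
      let f : M →* N := (θ.comp M.subtype).codRestrict N fun x => x.2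
      have hfker : f.ker ≤ Subgroup.center M := by
        intro x hx
        have h1 : x.1 ∈ Subgroup.center _ := hker ▸ (congrArg Subtype.val (MonoidHom.mem_ker.1 hx) : θ x.1 = 1)
        exact Subgroup.mem_center_iff.2 fun y => Subtype.ext (Subgroup.mem_center_iff.1 h1 y.1)
      have hMnil : Group.IsNilpotent M := Subgroup.isNilpotent_of_ker_le_center f hfker
      have P : Sylow 2 M := default
      have hPn : (P : Subgroup M).Normal := P.normal_of_normalizerCondition Group.normalizerCondition_of_isNilpotent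
      have := P.characteristic_of_normal hPn
      have hP1 : ((P : Subgroup M).map M.subtype) = ⊥ :=
        normal_pgroup_eq_bot C₀ _ (P.2.map _)
      rw [Subgroup.map_eq_bot_iff_of_injective _ M.subtype_injective] at hP1
      have h2M : ¬ 2 ∣ Nat.card M := fun h => P.ne_bot_of_dvd_card h hP1
      have hfs : Function.Surjective f := fun y => by
        obtain ⟨b, hb, hb'⟩ : y.1 ∈ M.map θ := by rw [hmap]; exact y.2
        exact ⟨⟨b, hb⟩, Subtype.ext hb'⟩
      have hN2 := Subgroup.card_dvd_of_surjective f hfs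
      rw [hNi] at hN2
      rcases i with _ | i
      · exact Subgroup.eq_bot_of_card_eq N (by rw [hNi]; rfl)
      · exact absurd ((dvd_pow_self 2 i.succ_ne_zero).trans hN2) h2M
    · rcases suG_fin_normal hn hs₀ M with h | h
      · exfalso
        apply hnot
        rw [← hmap, h, ← MonoidHom.range_eq_map]
        exact hpH
      · rw [← hmap, Subgroup.map_eq_bot_iff, hker]
        exact h
  · -- the centraliser
    intro y _ hy
    obtain ⟨g, τ, rfl⟩ := exists_semiAut C.card hn hs y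
    have key : ∀ w : Fin n → F, (∀ i, σ (w i) = w i) → herm C w w = 0 →
        ∃ t : F, g.1.1 *ᵥ (τ ∘ w) = t • w := by
      intro w hwf hw
      by_cases hw0 : w = 0
      · exact ⟨0, by subst hw0; simp [show (τ ∘ (0 : Fin n → F)) = 0 from funext fun i => by simp]⟩
      let w₀ : Fin n → K := fun i => ⟨w i, hwf i⟩
      have hw₀ : herm C₀ w₀ w₀ = 0 := by
        apply K.subtype.injective
        rw [map_zero, ← hw]
        simp [herm, h₀, w₀]
      obtain ⟨d, hd, hd0⟩ := C₀.exists_skew_ne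
      set T := fixedIncl C h₀ (transvEl C₀ w₀ d hw₀ hd) with hT
      have hTx : ∀ x : Fin n → F, T.1.1 *ᵥ x = x + ((d : F) * herm C x w) • w := by
        intro x
        have hlin : T.1.1.mulVecLin = LinearMap.id + LinearMap.smulRight
            ({ toFun := fun x => (d : F) * herm C x w
               map_add' := fun a b => by rw [herm_add_left, mul_add]
               map_smul' := fun a b => by rw [herm_smul_left]; simp; ring } : (Fin n → F) →ₗ[F] F) w := by
          refine (Pi.basisFun F (Fin n)).ext fun i => ?_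
          have h1 := isTransv_transvEl C₀ w₀ d hw₀ hd (Pi.single i 1)
          funext j
          have h2 := congrArg K.subtype (congrFun h1 j)
          rw [hT, Matrix.mulVecLin_apply, Pi.basisFun_apply, fixedIncl_val,
            show (Pi.single i (1 : F) : Fin n → F) = K.subtype ∘ Pi.single i 1 by
              funext k; by_cases hk : k = i <;> simp [hk],
            ← RingHom.map_mulVec]
          refine h2.trans ?_
          simp [herm, h₀, w₀, Pi.single_apply, apply_ite Subtype.val, ite_mul]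
        exact LinearMap.congr_fun hlin x
      have e := hy (QuotientGroup.mk T) ⟨_, rfl⟩
      rw [semiAut, toPSUAut_mk, QuotientGroup.eq, MulAut.mul_apply] at e
      obtain ⟨r, hr⟩ := CfsgLib.Forms4.exists_scalar_of_mem_center C.card (by omega) e
      have hrT : ∀ x, T.1.1 *ᵥ (g.1.1 *ᵥ (τ ∘ x)) = r • (g.1.1 *ᵥ (τ ∘ (T.1.1 *ᵥ x))) := by
        intro x
        have h1 : T = conjSU g (fieldSU τ T) * ((conjSU g (fieldSU τ T))⁻¹ * T) := by group
        have h2 := congrArg (fun s : ↥(Cfsg.SU n F C.q) => s.1.1) h1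
        simp only [Subgroup.coe_mul, Matrix.SpecialLinearGroup.coe_mul, conjSU_coe,
          fieldSU_coe] at h2
        simp only [Subgroup.coe_mul, Matrix.SpecialLinearGroup.coe_mul] at hr
        rw [hr, Matrix.mul_smul, Matrix.mul_one] at h2
        conv_lhs => rw [h2]
        rw [Matrix.smul_mulVec, ← Matrix.mulVec_mulVec, ← Matrix.mulVec_mulVec, Matrix.mulVec_mulVec (τ ∘ x)
          (g.1⁻¹ : GL (Fin n) F).1 g.1.1, g.1.inv_mul, Matrix.one_mulVec, map_mulVec]
      set u := g.1.1 *ᵥ (τ ∘ w) with hu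
      have hr1 : r = 1 := by
        let L : (Fin n → F) →ₗ[F] F × F :=
          { toFun := fun y => (herm C y w, herm C y u)
            map_add' := fun a b => by simp [herm_add_left]
            map_smul' := fun a b => by simp [herm_smul_left] }
        obtain ⟨y₁, hy₁, hy₁0⟩ := Submodule.exists_mem_ne_zero_of_ne_bot
          (LinearMap.ker_ne_bot_of_finrank_lt (f := L) (by simp; omega))
        rw [LinearMap.mem_ker, show L y₁ = (herm C y₁ w, herm C y₁ u) from rfl, Prod.mk_eq_zero] at hy₁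
        obtain ⟨x, hx⟩ : ∃ x, g.1.1 *ᵥ (τ ∘ x) = y₁ :=
          ⟨τ.symm ∘ ((g.1⁻¹ : GL (Fin n) F).1 *ᵥ y₁), by
            rw [comp_symm, Matrix.mulVec_mulVec, g.1.mul_inv, Matrix.one_mulVec]⟩
        have hxw : herm C x w = 0 := by
          apply τ.injective
          rw [map_zero, ← herm_map, ← hy₁.2, ← hx, hu]
          exact ((mem_GU_iff.1 g.2 (τ ∘ x) (τ ∘ w)).trans (by rw [hermForm_eq])).symm.trans (by rw [hermForm_eq])
        have h1 := hrT x
        rw [hTx x, hxw, mul_zero, zero_smul, add_zero, hx, hTx, hy₁.1, mul_zero, zero_smul, add_zero] at h1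
        exact (smul_left_injective F hy₁0 ((one_smul F y₁).trans h1)).symm
      obtain ⟨x, hx⟩ := exists_herm_eq C hw0 1
      have h1 := hrT x
      rw [hr1, one_smul, hTx, hTx x, hx, mul_one,
        show τ ∘ (x + (d : F) • w) = τ ∘ x + τ (d : F) • (τ ∘ w) by funext i; simp,
        Matrix.mulVec_add, Matrix.mulVec_smul, add_right_inj] at h1
      have hd0' : τ (d : F) ≠ 0 := by simpa using hd0
      exact ⟨(τ (d : F))⁻¹ * ((d : F) * herm C (g.1.1 *ᵥ (τ ∘ x)) w),
        by rw [mul_smul, h1, inv_smul_smul₀ hd0']⟩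
    obtain ⟨hτ, u, hu, hgu⟩ := scalar_of_fixed_lines C h₀ hn key
    obtain ⟨k, hk⟩ := mem_zpowers_of_fix hτ
    refine ⟨1, ?_⟩
    rw [semiAut, (conjSU_eq_one_iff C.card hn).2 ⟨u, hu, hgu⟩, one_mul, ← hk, map_zpow fieldSU,
      map_zpow toPSUAut, pow_one, ← zpow_natCast, ← _root_.zpow_mul, mul_comm, _root_.zpow_mul, zpow_natCast,
      ← hφ, ← hφord, pow_orderOf_eq_one, _root_.one_zpow]

end CfsgLib.AutPSU
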