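import Cfsg.Agent.AutPSU.FieldCentralizer
import Cfsg.Agent.ClassicalCore.SympOdd
import Cfsg.Agent.ClassicalCore.Lines

/-!
# The centraliser of an involutory field-type automorphism of `PSU_n(q)`

With `g = μ Q Q̄⁻¹` the fixed points of `v ↦ Q Q̄⁻¹ v̄` are `Q K^n`, `K` the fixed field of the
involution, and the Hermitian form restricts to a multiple of a symmetric or alternating form over
`K`; its isometries give the centraliser.
-/

set_option autoImplicit false
set_option linter.unusedSectionVars false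

namespace CfsgLib.AutPSU

open Matrix CfsgLib.RepBounds.Unit
open CfsgLib.AutPSL (mapGL)
open CfsgLib.ClassicalCore

variable {F : Type*} [Field F] [Fintype F] {n : ℕ} (C : ConjField F)

local notation "K" => CfsgLib.FixedField.fixedSub (barEquiv C)
local notation "φ" => Subfield.subtype (CfsgLib.FixedField.fixedSub (barEquiv C))

theorem bar_coe (x : K) : C.σ (x : F) = x := x.2

/-- `F = K + θ K`. -/
theorem exists_split {θ : F} (hθ : C.σ θ = -θ) (hθ0 : θ ≠ 0) (h2 : (2 : F) ≠ 0) (y : Fin n → F) :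
    ∃ y₁ y₂ : Fin n → K, y = φ ∘ y₁ + θ • (φ ∘ y₂) := by
  have h1 : ∀ i, C.σ ((y i + C.σ (y i)) / 2) = (y i + C.σ (y i)) / 2 := fun i => by
    rw [map_div₀, map_add, C.invol, map_ofNat, add_comm]
  have h3 : ∀ i, C.σ ((y i - C.σ (y i)) / (2 * θ)) = (y i - C.σ (y i)) / (2 * θ) := fun i => by
    rw [map_div₀, map_sub, C.invol, map_mul, map_ofNat, hθ, mul_neg, div_neg, ← neg_div, neg_sub]
  refine ⟨fun i => ⟨_, h1 i⟩, fun i => ⟨_, h3 i⟩, funext fun i => ?_⟩
  simp only [Pi.add_apply, Function.comp_apply, Pi.smul_apply, smul_eq_mul]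
  show y i = (y i + C.σ (y i)) / 2 + θ * ((y i - C.σ (y i)) / (2 * θ))
  field_simp
  ring

theorem split_unique {θ : F} (hθ : C.σ θ = -θ) (hθ0 : θ ≠ 0) (h2 : (2 : F) ≠ 0) {a b a' b' : Fin n → K}
    (h : φ ∘ a + θ • (φ ∘ b) = φ ∘ a' + θ • (φ ∘ b')) : a = a' ∧ b = b' := by
  have key : ∀ i, (a i : F) = a' i ∧ (b i : F) = b' i := by
    intro i
    have e : (a i : F) + θ * b i = a' i + θ * b' i := congrFun h i
    have e' := congrArg C.σ e
    simp only [map_add, map_mul, bar_coe, hθ] at e'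
    have e1 : (2 : F) * ((a i : F) - a' i) = 0 := by linear_combination e + e'
    have e2 : (2 : F) * θ * ((b i : F) - b' i) = 0 := by linear_combination e - e'
    exact ⟨sub_eq_zero.1 ((mul_eq_zero.1 e1).resolve_left h2),
      sub_eq_zero.1 ((mul_eq_zero.1 e2).resolve_left (mul_ne_zero h2 hθ0))⟩
  exact ⟨funext fun i => Subtype.ext (key i).1, funext fun i => Subtype.ext (key i).2⟩

/-- The data of the centraliser. -/
structure BarData (g : ↥(Cfsg.GU n F C.q)) where
  /-- the transformation to fixed coordinates -/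
  Q : GL (Fin n) F
  /-- the scalar -/
  μ : F
  hμ : μ ≠ 0
  hg : g.1.1 = μ • (Q * (mapGL (barEquiv C) Q)⁻¹ : GL (Fin n) F).1
  /-- the scalar making the form rational -/
  d : F
  hd : d ≠ 0
  /-- the form over the fixed field -/
  B : LinearMap.BilinForm (CfsgLib.FixedField.fixedSub (barEquiv C)) (Fin n → CfsgLib.FixedField.fixedSub (barEquiv C))
  hB : ∀ x y, ((B x y : CfsgLib.FixedField.fixedSub (barEquiv C)) : F) =
    d * herm C (Q.1 *ᵥ ((CfsgLib.FixedField.fixedSub (barEquiv C)).subtype ∘ x))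
      (Q.1 *ᵥ ((CfsgLib.FixedField.fixedSub (barEquiv C)).subtype ∘ y))

variable {C}
variable {g : ↥(Cfsg.GU n F C.q)} (D : BarData C g)

theorem BarData.nondeg : ∀ x, (∀ y, D.B x y = 0) → x = 0 := by
  intro x hx
  by_contra hx0
  have hQ0 : D.Q.1 *ᵥ (φ ∘ x) ≠ 0 := fun h => hx0 <| by
    have h1 := congrArg ((D.Q⁻¹ : GL (Fin n) F).1 *ᵥ ·) h
    simp only [Matrix.mulVec_mulVec, D.Q.inv_mul, Matrix.one_mulVec, Matrix.mulVec_zero] at h1
    funext i
    exact Subtype.ext (congrFun h1 i)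
  obtain ⟨v, hv⟩ := exists_herm_eq C hQ0 1
  obtain ⟨w, hw⟩ : ∃ w, D.Q.1 *ᵥ w = v :=
    ⟨(D.Q⁻¹ : GL (Fin n) F).1 *ᵥ v, by rw [Matrix.mulVec_mulVec, D.Q.mul_inv, Matrix.one_mulVec]⟩
  have hlin : ∀ u : Fin n → F, herm C (D.Q.1 *ᵥ u) (D.Q.1 *ᵥ (φ ∘ x)) = 0 := by
    intro u
    have e : u = ∑ i, u i • (φ ∘ (Pi.single i 1 : Fin n → K)) := by
      funext j
      simp [Pi.single_apply, apply_ite Subtype.val]
    rw [e, Matrix.mulVec_sum]
    simp only [Matrix.mulVec_smul]
    rw [herm, ← Finset.sum_congr rfl fun j _ => rfl]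
    have h0 : ∀ i, herm C (D.Q.1 *ᵥ (φ ∘ (Pi.single i 1 : Fin n → K))) (D.Q.1 *ᵥ (φ ∘ x)) = 0 := by
      intro i
      rw [← conj_herm]
      have h := D.hB x (Pi.single i 1)
      rw [hx, ZeroMemClass.coe_zero] at h
      rw [(mul_eq_zero.1 h.symm).resolve_left D.hd, map_zero]
    simp only [Finset.sum_apply, Pi.smul_apply, smul_eq_mul, Finset.sum_mul]
    rw [Finset.sum_comm]
    refine Finset.sum_eq_zero fun i _ => ?_
    have := h0 i
    rw [herm] at this
    simp only [mul_assoc, ← Finset.mul_sum, this, mul_zero]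
  exact one_ne_zero (hv.symm.trans (hw ▸ hlin w))

/-- A linear equivalence over `K` as an element of `GL_n(K)`. -/
noncomputable def matGL : ((Fin n → K) ≃ₗ[K] (Fin n → K)) →* GL (Fin n) K where
  toFun a := ⟨LinearMap.toMatrix' a.toLinearMap, LinearMap.toMatrix' a.symm.toLinearMap,
    by rw [← LinearMap.toMatrix'_comp, LinearEquiv.comp_coe, LinearEquiv.symm_trans_self]; simp,
    by rw [← LinearMap.toMatrix'_comp, LinearEquiv.comp_coe, LinearEquiv.self_trans_symm]; simp⟩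
  map_one' := Units.ext (by simp)
  map_mul' a b := Units.ext (LinearMap.toMatrix'_comp a.toLinearMap b.toLinearMap)

/-- A linear map of `K^n` on `F^n`. -/
noncomputable def hatGL : ((Fin n → K) ≃ₗ[K] (Fin n → K)) →* GL (Fin n) F :=
  (Matrix.GeneralLinearGroup.map φ).comp matGL

theorem hatGL_mulVec (a : (Fin n → K) ≃ₗ[K] (Fin n → K)) (x : Fin n → K) :
    (hatGL a).1 *ᵥ (φ ∘ x) = φ ∘ (a x) := by
  funext i
  show ((LinearMap.toMatrix' a.toLinearMap).map φ *ᵥ (φ ∘ x)) i = φ (a x i)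
  rw [← RingHom.map_mulVec, ← Matrix.toLin'_apply, Matrix.toLin'_toMatrix']
  rfl

/-- An isometry as a unitary matrix. -/
noncomputable def BarData.Φ : CfsgLib.Forms.isoGroup D.B →* ↥(Cfsg.GU n F C.q) :=
  (((MulAut.conj D.Q).toMonoidHom.comp hatGL).comp (CfsgLib.Forms.isoGroup D.B).subtype).codRestrict _ fun a => by
    set X : GL (Fin n) F := MulAut.conj D.Q (hatGL a.1) with hX
    show X ∈ _
    rw [mem_GU_iff_matrix]
    have hXQ : X.1 * D.Q.1 = D.Q.1 * (hatGL a.1).1 := by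
      rw [← Units.val_mul, hX, MulAut.conj_apply, inv_mul_cancel_right, Units.val_mul]
    have hgram : (X.1 * D.Q.1)ᵀ * (X.1 * D.Q.1).map C.σ = D.Q.1ᵀ * D.Q.1.map C.σ := by
      ext i j
      have e : ∀ (M : Matrix (Fin n) (Fin n) F) i j, (Mᵀ * M.map C.σ) i j =
          herm C (M *ᵥ Pi.single i 1) (M *ᵥ Pi.single j 1) := fun M i j => by
        simp [Matrix.mul_apply, herm]
      have hs : ∀ i, (Pi.single i (1 : F) : Fin n → F) = φ ∘ Pi.single i 1 := fun i => by
        funext k; by_cases hk : k = i <;> simp [hk]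
      rw [e, e, hXQ, ← Matrix.mulVec_mulVec, ← Matrix.mulVec_mulVec, hs, hs, hatGL_mulVec, hatGL_mulVec]
      apply mul_left_cancel₀ D.hd
      rw [← D.hB, ← D.hB]
      exact congrArg φ (a.2 _ _)
    have hQ : IsUnit D.Q.1.det := D.Q.det.isUnit.map (MonoidHom.id F)
    rw [Matrix.transpose_mul, Matrix.map_mul] at hgram
    have hQt : IsUnit D.Q.1ᵀ.det := by rwa [Matrix.det_transpose]
    have hQb : IsUnit (D.Q.1.map C.σ).det := by
      rw [show (D.Q.1.map C.σ).det = C.σ D.Q.1.det from (C.σ.map_det _).symm]; exact hQ.map C.σ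
    have h1 : D.Q.1ᵀ * (X.1ᵀ * X.1.map C.σ) * D.Q.1.map C.σ = D.Q.1ᵀ * 1 * D.Q.1.map C.σ := by
      rw [Matrix.mul_one, ← hgram]; simp only [Matrix.mul_assoc]
    have h2 := congrArg (fun M => D.Q.1ᵀ⁻¹ * M * (D.Q.1.map C.σ)⁻¹) h1
    simpa [Matrix.mul_assoc, Matrix.nonsing_inv_mul_cancel_left _ _ hQt, Matrix.mul_nonsing_inv _ hQb,
      Matrix.mul_nonsing_inv_cancel_right _ _ hQb] using h2

theorem BarData.Φ_val (a : CfsgLib.Forms.isoGroup D.B) : (D.Φ a).1 = D.Q * hatGL a.1 * D.Q⁻¹ := rfl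

/-- The isometries commute with the semilinear involution. -/
theorem BarData.g_map_Φ (a : CfsgLib.Forms.isoGroup D.B) :
    g.1 * mapGL (barEquiv C) (D.Φ a).1 = (D.Φ a).1 * g.1 := by
  have hfix : mapGL (barEquiv C) (hatGL a.1) = hatGL a.1 :=
    Units.ext (Matrix.ext fun i j => bar_coe C _)
  apply Units.ext
  rw [Units.val_mul, Units.val_mul, D.hg, Matrix.smul_mul, Matrix.mul_smul, ← Units.val_mul, ← Units.val_mul]
  congr 2
  rw [D.Φ_val, map_mul, map_mul, hfix, map_inv]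
  group

/-- The unitary matrices commuting with the semilinear involution are isometries. -/
theorem BarData.exists_of_commute {X : ↥(Cfsg.GU n F C.q)}
    (hX : g.1 * mapGL (barEquiv C) X.1 = X.1 * g.1) : ∃ a, D.Φ a = X := by
  classical
  set A : GL (Fin n) F := D.Q⁻¹ * X.1 * D.Q with hA
  have hfix : mapGL (barEquiv C) A = A := by
    have h1 := congrArg Units.val hX
    rw [Units.val_mul, Units.val_mul, D.hg, Matrix.smul_mul, Matrix.mul_smul, ← Units.val_mul, ← Units.val_mul] at h1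
    have h2 := Units.ext (smul_right_injective _ D.hμ h1)
    rw [mul_assoc, ← eq_inv_mul_iff_mul_eq, inv_mul_eq_iff_eq_mul] at h2
    rw [hA, map_mul, map_mul, map_inv, mul_assoc ((mapGL (barEquiv C)) D.Q)⁻¹, h2]
    group
  have hfix' : ∀ i j, C.σ (A.1 i j) = A.1 i j := fun i j =>
    congrFun (congrFun (congrArg (fun N : GL (Fin n) F => N.1) hfix) i) j
  let M : Matrix (Fin n) (Fin n) K := Matrix.of fun i j => ⟨A.1 i j, hfix' i j⟩
  have hMdet : IsUnit M.det := isUnit_iff_ne_zero.2 fun h0 => A.det.ne_zero (by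
    rw [Matrix.GeneralLinearGroup.val_det_apply, show A.1 = (φ).mapMatrix M from rfl, ← RingHom.map_det, h0,
      map_zero])
  let a : (Fin n → K) ≃ₗ[K] (Fin n → K) := Matrix.toLinearEquiv' M (Matrix.invertibleOfIsUnitDet M hMdet)
  have hhat : hatGL a = A := by
    apply Units.ext
    show (LinearMap.toMatrix' a.toLinearMap).map φ = A.1
    rw [show a.toLinearMap = Matrix.toLin' M from rfl, LinearMap.toMatrix'_toLin']
    rfl
  have hiso : a ∈ CfsgLib.Forms.isoGroup D.B := by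
    intro x y
    apply (φ).injective
    show ((D.B (a x) (a y) : K) : F) = ((D.B x y : K) : F)
    rw [D.hB, D.hB, ← hatGL_mulVec, ← hatGL_mulVec, hhat, Matrix.mulVec_mulVec, Matrix.mulVec_mulVec,
      ← Units.val_mul, show D.Q * A = X.1 * D.Q by rw [hA]; group, Units.val_mul, ← Matrix.mulVec_mulVec,
      ← Matrix.mulVec_mulVec]
    congr 1
    have := mem_GU_iff.1 X.2 (D.Q.1 *ᵥ (φ ∘ x)) (D.Q.1 *ᵥ (φ ∘ y))
    rwa [hermForm_eq] at this
  exact ⟨⟨a, hiso⟩, Subtype.ext (by rw [D.Φ_val, hhat, hA]; group)⟩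

theorem BarData.Φ_scalar {a : CfsgLib.Forms.isoGroup D.B} {u : Fˣ}
    (h : (D.Φ a).1 = Matrix.GeneralLinearGroup.scalar (Fin n) u) (hn : 1 ≤ n) :
    (∀ x, a.1 x = x) ∨ ∀ x, a.1 x = -x := by
  have hh : hatGL a.1 = Matrix.GeneralLinearGroup.scalar (Fin n) u := by
    have hc : Matrix.GeneralLinearGroup.scalar (Fin n) u * D.Q = D.Q * Matrix.GeneralLinearGroup.scalar (Fin n) u :=
      (Subgroup.mem_center_iff.1 (by
        rw [Matrix.GeneralLinearGroup.center_eq_range_scalar]; exact ⟨u, rfl⟩) D.Q).symm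
    rw [D.Φ_val, mul_inv_eq_iff_eq_mul, hc] at h
    exact mul_left_cancel h
  obtain ⟨c, hc⟩ : ∃ c : K, ∀ x, a.1 x = c • x := by
    let i₀ : Fin n := ⟨0, hn⟩
    refine ⟨(matGL a.1).1 i₀ i₀, fun x => funext fun i => (φ).injective ?_⟩
    have h1 := congrFun (hatGL_mulVec a.1 x) i
    have h2 : φ ((matGL a.1).1 i₀ i₀) = u := by
      rw [show φ ((matGL a.1).1 i₀ i₀) = (hatGL a.1).1 i₀ i₀ from rfl, hh]
      simp
    rw [hh, Function.comp_apply] at h1
    rw [← h1, Pi.smul_apply, smul_eq_mul, map_mul, h2]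
    simp [Matrix.mulVec_diagonal]
  obtain ⟨x, y, hxy⟩ : ∃ x y, D.B x y ≠ 0 := by
    by_contra h0
    push Not at h0
    exact one_ne_zero (congrFun (D.nondeg (Pi.single ⟨0, hn⟩ 1) (h0 _)) ⟨0, hn⟩ |>.symm.trans (by simp)).symm
  have h1 := a.2 x y
  simp only [hc, map_smul, LinearMap.smul_apply, smul_eq_mul, ← mul_assoc] at h1
  have h2 : c * c = 1 := mul_right_cancel₀ hxy (h1.trans (one_mul _).symm)
  rcases mul_self_eq_one_iff.1 h2 with rfl | rfl
  · exact Or.inl fun x => by rw [hc, one_smul]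
  · exact Or.inr fun x => by rw [hc, neg_one_smul]

theorem hatGL_split (a : (Fin n → K) ≃ₗ[K] (Fin n → K)) (θ : F) (y₁ y₂ : Fin n → K) :
    (hatGL a).1 *ᵥ (φ ∘ y₁ + θ • (φ ∘ y₂)) = φ ∘ (a y₁) + θ • (φ ∘ (a y₂)) := by
  rw [Matrix.mulVec_add, Matrix.mulVec_smul, hatGL_mulVec, hatGL_mulVec]

/-- An isometry of determinant one as an element of `SU`. -/
noncomputable def BarData.lift (a : CfsgLib.Forms.isoGroup D.B)
    (ha : (LinearMap.toMatrix' a.1.toLinearMap).det = 1) : ↥(Cfsg.SU n F C.q) :=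
  ⟨⟨(D.Φ a).1.1, by
    have h1 : (hatGL a.1).1.det = 1 := by
      rw [show (hatGL a.1).1 = (φ).mapMatrix (LinearMap.toMatrix' a.1.toLinearMap) from rfl, ← RingHom.map_det,
        ha, map_one]
    rw [D.Φ_val, Units.val_mul, Units.val_mul, Matrix.det_mul_comm, ← Matrix.mul_assoc, D.Q.inv_mul,
      Matrix.one_mul, h1]⟩, mem_SU_iff'.2 (mem_GU_iff.1 (D.Φ a).2)⟩

theorem BarData.suToGU_lift (a : CfsgLib.Forms.isoGroup D.B)
    (ha : (LinearMap.toMatrix' a.1.toLinearMap).det = 1) : suToGU (D.lift a ha) = D.Φ a :=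
  Subtype.ext (Units.ext rfl)

/-- The action of the isometries commutes with the involution. -/
theorem BarData.commute_Φ (a : CfsgLib.Forms.isoGroup D.B) :
    Commute (innDiagHom (D.Φ a)) (semiAut g (barEquiv C)) := by
  have h1 : innDiagHom (D.Φ a) = semiAut (D.Φ a) 1 := by
    rw [semiAut, map_one, mul_one]; rfl
  rw [Commute, SemiconjBy, h1, semiAut_mul, semiAut_mul, one_mul, mul_one]
  congr 1
  refine Subtype.ext ?_
  show (D.Φ a).1 * mapGL (1 : F ≃+* F) g.1 = g.1 * mapGL (barEquiv C) (D.Φ a).1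
  rw [D.g_map_Φ, show mapGL (1 : F ≃+* F) g.1 = g.1 from Units.ext (Matrix.ext fun i j => rfl)]

/-- Automorphisms of odd order centralising the fixed points are trivial: the semilinear map
preserves every line of `Q K^n`. -/
theorem BarData.scalar_of_lines (hn : 3 ≤ n) {h : ↥(Cfsg.GU n F C.q)} {τ : F ≃+* F}
    (key : ∀ x : Fin n → K, x ≠ 0 → ∃ t : F,
      (D.Q⁻¹ : GL (Fin n) F).1 *ᵥ (h.1.1 *ᵥ (τ ∘ (D.Q.1 *ᵥ (φ ∘ x)))) = t • (φ ∘ x)) :
    (∀ c, barEquiv C c = c → τ c = c) ∧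
      (τ = 1 → ∃ u : Fˣ, u ∈ normOne F C.q ∧ h.1 = Matrix.GeneralLinearGroup.scalar (Fin n) u) := by
  set N : Matrix (Fin n) (Fin n) F := (D.Q⁻¹ : GL (Fin n) F).1 * h.1.1 * D.Q.1.map τ with hN
  have hNdet : N.det ≠ 0 := by
    rw [hN, Matrix.det_mul, Matrix.det_mul, det_map_field]
    exact mul_ne_zero (mul_ne_zero (D.Q⁻¹).det.ne_zero h.1.det.ne_zero) (by simpa using D.Q.det.ne_zero)
  have hrel : ∀ x : Fin n → K, x ≠ 0 → ∃ t : F, N *ᵥ (τ ∘ (φ ∘ x)) = t • (φ ∘ x) := by
    intro x hx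
    obtain ⟨t, ht⟩ := key x hx
    refine ⟨t, ?_⟩
    rw [← ht, hN, ← Matrix.mulVec_mulVec, ← Matrix.mulVec_mulVec, map_mulVec]
  classical
  have hsingle : ∀ i, (τ ∘ (φ ∘ (Pi.single i 1 : Fin n → K))) = Pi.single i 1 := fun i => by
    funext k; by_cases hk : k = i <;> simp [hk]
  choose t ht using fun i => hrel (Pi.single i 1) (by simp)
  have hent : ∀ r i, N r i = if r = i then t i else 0 := by
    intro r i
    have h1 := congrFun (ht i) r
    rw [hsingle, Matrix.mulVec_single_one] at h1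
    by_cases hri : r = i <;> simpa [hri] using h1
  have ht0 : ∀ i, t i ≠ 0 := fun i h0 => hNdet (Matrix.det_eq_zero_of_row_eq_zero i fun j => by
    rw [hent]
    split_ifs with hij
    · rw [← hij, h0]
    · rfl)
  have hdiag : N = Matrix.diagonal t := Matrix.ext fun r i => by
    by_cases hri : r = i <;> simp [hent, hri]
  have hpair : ∀ i j, i ≠ j → ∀ c : K, t j * τ (c : F) = t i * (c : F) := by
    intro i j hij c
    have hx : (Pi.single i 1 + c • Pi.single j 1 : Fin n → K) ≠ 0 := fun h0 => by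
      simpa [hij] using congrFun h0 i
    obtain ⟨s, hs⟩ := hrel _ hx
    have ei := congrFun hs i
    have ej := congrFun hs j
    rw [hdiag, Matrix.mulVec_diagonal] at ei ej
    simp [hij, hij.symm] at ei ej
    rw [ei]
    linear_combination ej
  obtain ⟨o₁, o₂, h12⟩ : ∃ a b : Fin n, a ≠ b := ⟨⟨0, by omega⟩, ⟨1, by omega⟩, by simp⟩
  have hconst : ∀ i, t i = t o₁ := by
    intro i
    by_cases hi : i = o₁
    · rw [hi]
    simpa using hpair o₁ i (Ne.symm hi) 1
  refine ⟨fun c hc => ?_, ?_⟩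
  · have := hpair o₁ o₂ h12 ⟨c, hc⟩
    rw [hconst o₂] at this
    exact mul_left_cancel₀ (ht0 o₁) this
  rintro rfl
  refine ⟨Units.mk0 _ (ht0 o₁), ?_⟩
  have hNs : N = (Matrix.GeneralLinearGroup.scalar (Fin n) (Units.mk0 _ (ht0 o₁))).1 := by
    rw [hdiag]
    ext i j
    by_cases hij : i = j <;> simp [hij, hconst j]
  have hh : h.1 = Matrix.GeneralLinearGroup.scalar (Fin n) (Units.mk0 _ (ht0 o₁)) := by
    have h1 : D.Q⁻¹ * h.1 * D.Q = Matrix.GeneralLinearGroup.scalar (Fin n) (Units.mk0 _ (ht0 o₁)) := by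
      apply Units.ext
      rw [← hNs, hN, show D.Q.1.map (1 : F ≃+* F) = D.Q.1 from Matrix.ext fun i j => rfl]
      rfl
    have hc : Matrix.GeneralLinearGroup.scalar (Fin n) (Units.mk0 _ (ht0 o₁)) * D.Q⁻¹ =
        D.Q⁻¹ * Matrix.GeneralLinearGroup.scalar (Fin n) (Units.mk0 _ (ht0 o₁)) :=
      (Subgroup.mem_center_iff.1 (by
        rw [Matrix.GeneralLinearGroup.center_eq_range_scalar]; exact ⟨_, rfl⟩) D.Q⁻¹).symm
    rw [← eq_mul_inv_iff_mul_eq, hc] at h1
    exact mul_left_cancel h1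
  refine ⟨?_, hh⟩
  have h1 := (mem_GU_iff_matrix C).1 h.2
  rw [hh, ← mul_one (Matrix.GeneralLinearGroup.scalar (Fin n) _), scalar_mul_gram] at h1
  have h3 := congrFun (congrFun h1 o₁) o₁
  simp at h3
  exact mem_normOne.2 (Units.ext (by
    rw [Units.val_pow_eq_pow_val, Units.val_one, pow_succ', ← C.pow, Units.val_mk0]; exact h3))

theorem not_three_two (C : ConjField F) (h2 : (2 : F) ≠ 0) : ¬ (n = 3 ∧ C.q = 2) := fun h => h2 (by
  have h4 : ((4 : ℕ) : F) = 0 := by
    rw [show 4 = Fintype.card F by rw [C.card, h.2]; rfl]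
    exact FiniteField.cast_card_eq_zero F
  have : (2 : F) * 2 = 0 := by exact_mod_cast h4
  exact mul_self_eq_zero.1 this)

set_option maxHeartbeats 1000000 in
/-- The fixed points of an involution of field type have no normal subgroup of odd order. -/
theorem BarData.fixed_odd_eq_bot (hn : 3 ≤ n) (h2 : (2 : F) ≠ 0)
    (hform : (∀ x y, D.B x y = D.B y x) ∨ D.B.IsAlt)
    (hns : ¬ Group.IsSolvable (Cfsg.PSU n F C.q)) [IsSimpleGroup (Cfsg.PSU n F C.q)] :
    ∀ N : Subgroup (Cfsg.PSU n F C.q),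
      N ≤ MonoidHom.eqLocus (semiAut g (barEquiv C)).toMonoidHom (MonoidHom.id _) →
      (∀ x ∈ MonoidHom.eqLocus (semiAut g (barEquiv C)).toMonoidHom (MonoidHom.id _), ∀ y ∈ N, x * y * x⁻¹ ∈ N) →
      (Nat.card N).Coprime 2 → N = ⊥ := by
  classical
  have : Fact (Nat.Prime 2) := ⟨Nat.prime_two⟩
  have : Finite (Cfsg.PSU n F C.q) := Quotient.finite _
  have : Finite (MulAut (Cfsg.PSU n F C.q)) := finite_mulAut
  let _instK : Fintype (CfsgLib.FixedField.fixedSub (barEquiv C)) := Fintype.ofFinite _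
  have : Nonempty (Fin n) := ⟨⟨0, by omega⟩⟩
  have hq3 := not_three_two C h2 (n := n)
  have h2K : (2 : K) ≠ 0 := fun h => h2 (by have := congrArg φ h; rwa [map_ofNat, map_zero] at this)
  have hdim : Module.finrank K (Fin n → K) = n := Module.finrank_fin_fun K
  set β := semiAut g (barEquiv C) with hβ
  set E := MonoidHom.eqLocus β.toMonoidHom (MonoidHom.id (Cfsg.PSU n F C.q))
  intro N hN hNn hNc
  -- the odd core of the fixed points is stable under the isometries
  set O := (Cfsg.pPrimeCore 2 ↥E).map E.subtype with hO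
  have hNO : N ≤ O := by
    have hn' : (N.subgroupOf E).Normal := ⟨fun a ha b => hNn b.1 b.2 a.1 ha⟩
    have hc' : (Nat.card (N.subgroupOf E)).Coprime 2 := by
      rwa [Nat.card_congr (Subgroup.subgroupOfEquivOfLe hN).toEquiv]
    intro x hx
    exact ⟨⟨x, hN hx⟩, CfsgLib.LocalEven50.le_pPrimeCore hn' hc' hx, rfl⟩
  suffices hOb : O = ⊥ from le_bot_iff.1 (hOb ▸ hNO)
  have hinv : ∀ y : MulAut (Cfsg.PSU n F C.q), Commute y β → ∀ k ∈ O, y k ∈ O := by
    rintro y hy _ ⟨k, hk, rfl⟩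
    have hy' : Commute y⁻¹ β := hy.inv_left
    let f : ↥E ≃* ↥E :=
      { toFun := fun x => ⟨y x.1, CfsgLib.AutPSL.fixed_of_commute hy x.2⟩
        invFun := fun x => ⟨(y⁻¹) x.1, CfsgLib.AutPSL.fixed_of_commute hy' x.2⟩
        left_inv := fun x => Subtype.ext (by simp [MulAut.inv_def])
        right_inv := fun x => Subtype.ext (by simp [MulAut.inv_def])
        map_mul' := fun a b => Subtype.ext (map_mul y a.1 b.1) }
    have h1 : (Cfsg.pPrimeCore 2 ↥E).map f.toMonoidHom ≤ Cfsg.pPrimeCore 2 ↥E :=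
      CfsgLib.LocalEven50.le_pPrimeCore
        ((CfsgLib.LocalEven50.pPrimeCore_normal 2).map _ f.surjective)
        (by rw [Subgroup.card_map_of_injective f.injective]; exact CfsgLib.LocalEven50.pPrimeCore_coprime 2)
    exact ⟨f k, h1 (Subgroup.mem_map_of_mem _ hk), rfl⟩
  let π : CfsgLib.Forms.isoGroup D.B →* MulAut (Cfsg.PSU n F C.q) := innDiagHom.comp D.Φ
  have hinj := CfsgLib.AutPSL.conj_injective_of_not_solvable hns
  set P₀ : Subgroup (CfsgLib.Forms.isoGroup D.B) := (O.map MulAut.conj).comap π with hP₀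
  set P := P₀.map (CfsgLib.Forms.isoGroup D.B).subtype with hP
  have hiso : ∀ x ∈ P, ∀ u v, D.B (x u) (x v) = D.B u v := by
    rintro _ ⟨a, -, rfl⟩; exact a.2
  have hnorm : ∀ b : (Fin n → K) ≃ₗ[K] (Fin n → K), (∀ u v, D.B (b u) (b v) = D.B u v) →
      ∀ x ∈ P, b * x * b⁻¹ ∈ P := by
    rintro b hb _ ⟨a, ha, rfl⟩
    obtain ⟨k, hk, hka⟩ := ha
    refine ⟨⟨b, hb⟩ * a * ⟨b, hb⟩⁻¹, ⟨π ⟨b, hb⟩ k, hinv _ (D.commute_Φ _) k hk, ?_⟩, rfl⟩
    rw [map_mul, map_mul, map_inv, ← hka]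
    ext1 z
    simp [MulAut.mul_apply, MulAut.inv_def]
  have hodd : ∀ x ∈ P, ∃ m : ℕ, Odd m ∧ ((∀ u, (x ^ m) u = u) ∨ ∀ u, (x ^ m) u = -u) := by
    rintro _ ⟨a, ⟨k, hk, hka⟩, rfl⟩
    refine ⟨Nat.card O, Nat.coprime_two_right.1 ?_, ?_⟩
    · rw [hO, Subgroup.card_map_of_injective E.subtype_injective]
      exact CfsgLib.LocalEven50.pPrimeCore_coprime 2
    have hk1 : k ^ Nat.card O = 1 := congrArg Subtype.val (pow_card_eq_one' (x := (⟨k, hk⟩ : O)))
    have h1 : π (a ^ Nat.card O) = 1 := by rw [map_pow, ← hka, ← map_pow, hk1, map_one]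
    have h1' : conjSU (D.Φ (a ^ Nat.card O)) = 1 :=
      (map_eq_one_iff _ (toPSUAut_injective C.card hn hq3)).1 h1
    obtain ⟨u, -, hu⟩ := (conjSU_eq_one_iff C.card hn).1 h1'
    exact D.Φ_scalar hu (by omega)
  have htriv : ∀ x ∈ P, (∀ u, x u = u) ∨ ∀ u, x u = -u := by
    intro x hx
    rcases hform with hs | hA
    · exact orth_odd_normal_trivial hs h2K D.nondeg (by rw [hdim]; exact hn) hnorm hodd hiso hx
    · obtain ⟨j, b, -, -, -⟩ := CfsgLib.Forms.exists_symplectic_basis_nondeg D.B hA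
        ⟨D.nondeg, fun u hu => D.nondeg u fun v => CfsgLib.Forms.alt_symm hA _ _ (hu v)⟩
      have hj := Module.finrank_eq_card_basis b
      simp at hj
      exact symp_odd_normal_trivial hA h2K D.nondeg (j := j) (by omega) (by rw [hdim]; omega) hnorm hodd hiso hx
  rw [eq_bot_iff]
  intro k hk
  obtain ⟨s, rfl⟩ := QuotientGroup.mk_surjective k
  have hke : β (QuotientGroup.mk s) = QuotientGroup.mk s := by
    obtain ⟨e, -, he⟩ := hk; rw [← he]; exact e.2
  rw [hβ, semiAut, toPSUAut_mk, QuotientGroup.eq, MulAut.mul_apply] at hke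
  set s' := conjSU g (fieldSU (barEquiv C) s) with hs'
  obtain ⟨r, hr⟩ := CfsgLib.Forms4.exists_scalar_of_mem_center C.card (by omega) hke
  -- `t = r • s ^ 2` commutes with the semilinear involution
  have hrn : r * C.σ r = 1 := by
    have h1 := mem_SU_iff'.1 (s'⁻¹ * s).2 (Pi.single ⟨0, by omega⟩ 1) (Pi.single ⟨0, by omega⟩ 1)
    rw [hr, hermForm_eq, Matrix.smul_mulVec, Matrix.one_mulVec, herm_smul_left, herm_smul_right] at h1
    simp [herm, Pi.single_apply, apply_ite C.σ] at h1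
    exact h1
  have hrn' : C.σ r ^ (C.q + 1) = 1 := by
    rw [pow_succ', ← C.pow, C.invol, mul_comm, hrn]
  have hr0 : C.σ r ≠ 0 := right_ne_zero_of_mul_eq_one hrn
  let z : ↥(Cfsg.GU n F C.q) :=
    ⟨_, scalar_mem_GU C.card (u := Units.mk0 _ hr0) (mem_normOne.2 (Units.ext (by simpa using hrn')))⟩
  have hgs : g.1.1 * s.1.1.map C.σ = C.σ r • (s.1.1 * g.1.1) := by
    have h1 : s = s' * (s'⁻¹ * s) := by group
    have h3 := congrArg (fun x : ↥(Cfsg.SU n F C.q) => x.1.1) h1
    simp only [Subgroup.coe_mul, Matrix.SpecialLinearGroup.coe_mul, hs', conjSU_coe, fieldSU_coe] at h3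
    simp only [Subgroup.coe_mul, Matrix.SpecialLinearGroup.coe_mul] at hr
    rw [hr, Matrix.mul_smul, Matrix.mul_one] at h3
    have h4 : s.1.1 * g.1.1 = r • (g.1.1 * s.1.1.map C.σ) := by
      conv_lhs => rw [h3]
      rw [Matrix.smul_mul, Matrix.mul_assoc _ _ g.1.1, g.1.inv_mul, Matrix.mul_one]
      rfl
    rw [h4, smul_smul, mul_comm (C.σ r), hrn, one_smul]
  obtain ⟨a, ha⟩ := D.exists_of_commute (X := z * suToGU (s * s)) (by
    apply Units.ext
    show g.1.1 * (((z.1 * (suToGU (s * s)).1 : GL (Fin n) F)).1.map C.σ) =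
      (z.1 * (suToGU (s * s)).1 : GL (Fin n) F).1 * g.1.1
    rw [Units.val_mul, suToGU_val, Subgroup.coe_mul, Matrix.SpecialLinearGroup.coe_mul]
    have hz : z.1.1 = C.σ r • (1 : Matrix (Fin n) (Fin n) F) := by simp [z, Matrix.smul_one_eq_diagonal]
    rw [hz, Matrix.smul_mul, Matrix.one_mul,
      show (C.σ r • (s.1.1 * s.1.1)).map C.σ = r • (s.1.1.map C.σ * s.1.1.map C.σ) by
        rw [← Matrix.map_mul]; ext i j; simp [C.invol, Matrix.mul_apply],
      Matrix.mul_smul, ← Matrix.mul_assoc, hgs, Matrix.smul_mul, Matrix.mul_assoc s.1.1, hgs, Matrix.mul_smul,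
      smul_smul, smul_smul, Matrix.smul_mul, Matrix.mul_assoc]
    congr 1
    linear_combination C.σ r * hrn)
  have hπ : π a = MulAut.conj ((QuotientGroup.mk s : Cfsg.PSU n F C.q) ^ 2) := by
    show toPSUAut (conjSU (D.Φ a)) = _
    have hz1 : conjSU z = 1 := (conjSU_eq_one_iff C.card hn).2
      ⟨Units.mk0 _ hr0, mem_normOne.2 (Units.ext (by simpa using hrn')), rfl⟩
    rw [ha, map_mul conjSU, hz1, one_mul, conjSU_suToGU, toPSUAut_conj, QuotientGroup.mk_mul, pow_two]
  have hmem : a.1 ∈ P := ⟨a, ⟨_, O.pow_mem hk 2, hπ.symm⟩, rfl⟩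
  have hπ1 : π a = 1 := by
    show toPSUAut (conjSU (D.Φ a)) = 1
    have hcase : ∃ u : Fˣ, (D.Φ a).1 = Matrix.GeneralLinearGroup.scalar (Fin n) u := by
      rcases htriv _ hmem with h | h
      · refine ⟨1, ?_⟩
        rw [map_one, show a = 1 from Subtype.ext (LinearEquiv.ext h), map_one]
        rfl
      · refine ⟨-1, ?_⟩
        have h1 : hatGL a.1 = Matrix.GeneralLinearGroup.scalar (Fin n) (-1 : Fˣ) := by
          apply Units.ext
          ext i j
          show φ (a.1 (Pi.single j 1) i) = _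
          rw [h]
          by_cases hij : i = j <;> simp [hij]
        rw [D.Φ_val, h1, mul_inv_eq_iff_eq_mul]
        exact Subgroup.mem_center_iff.1 (by
          rw [Matrix.GeneralLinearGroup.center_eq_range_scalar]; exact ⟨_, rfl⟩) D.Q
    obtain ⟨u, hu⟩ := hcase
    have hu' : u ∈ normOne F C.q := by
      have h1 := (mem_GU_iff_matrix C).1 (D.Φ a).2
      rw [hu, ← mul_one (Matrix.GeneralLinearGroup.scalar (Fin n) _), scalar_mul_gram] at h1
      have h3 := congrFun (congrFun h1 ⟨0, by omega⟩) ⟨0, by omega⟩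
      simp at h3
      exact mem_normOne.2 (Units.ext (by
        rw [Units.val_pow_eq_pow_val, Units.val_one, pow_succ', ← C.pow]; exact h3))
    rw [(conjSU_eq_one_iff C.card hn).2 ⟨u, hu', hu⟩, map_one]
  have hk2 : (QuotientGroup.mk s : Cfsg.PSU n F C.q) ^ 2 = 1 := hinj (by rw [← hπ, hπ1, map_one])
  refine Subgroup.mem_bot.2 (CfsgLib.AutPSL.eq_one_of_pow_mem_coprime (p := 2) (k := 1) (W := O) ?_ hk (by rwa [pow_one]))
  rw [hO, Subgroup.card_map_of_injective E.subtype_injective]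
  exact CfsgLib.LocalEven50.pPrimeCore_coprime 2
set_option maxHeartbeats 1000000 in
/-- The centraliser of the fixed points of an involution of field type is a `2`-group. -/
theorem BarData.centralizer_pow (hn : 3 ≤ n) (h2 : (2 : F) ≠ 0)
    (hform : (∀ x y, D.B x y = D.B y x) ∨ D.B.IsAlt) :
    ∀ y : MulAut (Cfsg.PSU n F C.q),
      (∀ x ∈ MonoidHom.eqLocus (semiAut g (barEquiv C)).toMonoidHom (MonoidHom.id _), y x = x) →
      ∃ k : ℕ, y ^ 2 ^ k = 1 := by
  classical
  have : Fact (Nat.Prime 2) := ⟨Nat.prime_two⟩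
  have : Finite (Cfsg.PSU n F C.q) := Quotient.finite _
  have : Finite (MulAut (Cfsg.PSU n F C.q)) := finite_mulAut
  let _instK : Fintype (CfsgLib.FixedField.fixedSub (barEquiv C)) := Fintype.ofFinite _
  have : Nonempty (Fin n) := ⟨⟨0, by omega⟩⟩
  have hq3 := not_three_two C h2 (n := n)
  have h2K : (2 : K) ≠ 0 := fun h => h2 (by have := congrArg φ h; rwa [map_ofNat, map_zero] at this)
  have hdim : Module.finrank K (Fin n → K) = n := Module.finrank_fin_fun K
  set β := semiAut g (barEquiv C) with hβ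
  set E := MonoidHom.eqLocus β.toMonoidHom (MonoidHom.id (Cfsg.PSU n F C.q))
  intro y hy
  let S : Subgroup (MulAut (Cfsg.PSU n F C.q)) :=
    { carrier := {y | ∀ x ∈ E, y x = x}
      one_mem' := fun x _ => rfl
      mul_mem' := fun {a b} ha hb x hx => by rw [MulAut.mul_apply, hb x hx, ha x hx]
      inv_mem' := fun {a} ha x hx => by rw [MulAut.inv_def, MulEquiv.symm_apply_eq, ha x hx] }
  refine CfsgLib.AutPSL.pow_eq_one_of_coprime S (fun y hy hyodd => ?_) (g := y) hy
  obtain ⟨h, τ, rfl⟩ := exists_semiAut C.card hn hq3 y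
  set ψ := conjSU h * fieldSU τ with hψ
  set m := orderOf (semiAut h τ) with hm
  have hmodd : Odd m := Nat.coprime_two_right.1 hyodd
  have hψm : ψ ^ m = 1 := toPSUAut_injective C.card hn hq3 (by
    rw [map_pow, map_one]; exact pow_orderOf_eq_one _)
  -- the relation with the lifted isometries
  have hEa : ∀ a ha, (QuotientGroup.mk (D.lift a ha) : Cfsg.PSU n F C.q) ∈ E := by
    intro a ha
    show β _ = _
    rw [hβ, semiAut, MonoidHom.id_apply]
    refine (toPSUAut_mk _ _).trans (congrArg QuotientGroup.mk (Subtype.ext (Subtype.ext ?_)))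
    rw [MulAut.mul_apply, conjSU_coe, fieldSU_coe]
    have h1 := congrArg Units.val (D.g_map_Φ a)
    rw [Units.val_mul, Units.val_mul] at h1
    show g.1.1 * (D.Φ a).1.1.map (barEquiv C) * _ = (D.Φ a).1.1
    rw [show g.1.1 * (D.Φ a).1.1.map (barEquiv C) = (D.Φ a).1.1 * g.1.1 from h1, Matrix.mul_assoc,
      g.1.mul_inv, Matrix.mul_one]
  set f : (Fin n → K) → (Fin n → F) := fun x =>
    (D.Q⁻¹ : GL (Fin n) F).1 *ᵥ (h.1.1 *ᵥ (τ ∘ (D.Q.1 *ᵥ (φ ∘ x)))) with hf
  have fadd : ∀ x x', f (x + x') = f x + f x' := fun x x' => by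
    have h1 : φ ∘ (x + x') = φ ∘ x + φ ∘ x' := funext fun i => map_add φ _ _
    have h3 : ∀ u w : Fin n → F, τ ∘ (u + w) = τ ∘ u + τ ∘ w := fun u w => funext fun i => map_add τ _ _
    simp only [hf, h1, h3, Matrix.mulVec_add]
  have f0 : ∀ x, f x = 0 → x = 0 := by
    intro x hx
    simp only [hf] at hx
    have h1 := congrArg ((D.Q.1) *ᵥ ·) hx
    simp only [Matrix.mulVec_mulVec, ← Matrix.mul_assoc, D.Q.mul_inv, Matrix.one_mul, Matrix.mulVec_zero] at h1
    have h3 := congrArg ((h.1⁻¹ : GL (Fin n) F).1 *ᵥ ·) h1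
    simp only [Matrix.mulVec_mulVec, h.1.inv_mul, Matrix.one_mulVec, Matrix.mulVec_zero] at h3
    have h4 : D.Q.1 *ᵥ (φ ∘ x) = 0 := funext fun i => τ.injective (by
      rw [show τ ((D.Q.1 *ᵥ (φ ∘ x)) i) = 0 from congrFun h3 i]; exact (map_zero τ).symm)
    have h5 := congrArg ((D.Q⁻¹ : GL (Fin n) F).1 *ᵥ ·) h4
    simp only [Matrix.mulVec_mulVec, D.Q.inv_mul, Matrix.one_mulVec, Matrix.mulVec_zero] at h5
    exact funext fun i => Subtype.ext (congrFun h5 i)
  have hrel : ∀ a ha, ∃ r : F, r ≠ 0 ∧ (ψ (D.lift a ha)).1.1 = r • (D.lift a ha).1.1 ∧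
      ∀ x, r • ((hatGL a.1).1 *ᵥ f x) = f (a.1 x) := by
    intro a ha
    have e := hy _ (hEa a ha)
    rw [semiAut, toPSUAut_mk, QuotientGroup.eq] at e
    obtain ⟨r, hr⟩ := CfsgLib.Forms4.exists_scalar_of_mem_center C.card (by omega) e
    have hr0 : r ≠ 0 := by
      intro h0
      have h1 := (((ψ (D.lift a ha))⁻¹ * D.lift a ha)).1.2
      rw [show (((ψ (D.lift a ha))⁻¹ * D.lift a ha)).1.1 = r • 1 from hr, h0, zero_smul,
        Matrix.det_zero] at h1
      exact zero_ne_one h1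
    have h1 : D.lift a ha = ψ (D.lift a ha) * ((ψ (D.lift a ha))⁻¹ * D.lift a ha) := by group
    have h3 := congrArg (fun x : ↥(Cfsg.SU n F C.q) => x.1.1) h1
    rw [Subgroup.coe_mul, Matrix.SpecialLinearGroup.coe_mul,
      show (((ψ (D.lift a ha))⁻¹ * D.lift a ha)).1.1 = r • 1 from hr, Matrix.mul_smul, Matrix.mul_one] at h3
    have h4 : (ψ (D.lift a ha)).1.1 = r⁻¹ • (D.lift a ha).1.1 := by
      rw [h3, smul_smul, inv_mul_cancel₀ hr0, one_smul]
    refine ⟨r⁻¹, inv_ne_zero hr0, h4, fun x => ?_⟩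
    rw [hψ, MulAut.mul_apply, conjSU_coe, fieldSU_coe] at h4
    have h5 := congrArg (fun M : Matrix (Fin n) (Fin n) F => M *ᵥ (h.1.1 *ᵥ (τ ∘ (D.Q.1 *ᵥ (φ ∘ x))))) h4
    simp only [← Matrix.mulVec_mulVec] at h5
    rw [Matrix.mulVec_mulVec (τ ∘ (D.Q.1 *ᵥ (φ ∘ x))) (h.1⁻¹ : GL (Fin n) F).1 h.1.1, h.1.inv_mul,
      Matrix.one_mulVec, map_mulVec, show (D.lift a ha).1.1 = D.Q.1 * (hatGL a.1).1 * (D.Q⁻¹ : GL (Fin n) F).1
        from rfl, ← Matrix.mulVec_mulVec (D.Q.1 *ᵥ (φ ∘ x)), ← Matrix.mulVec_mulVec,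
      Matrix.mulVec_mulVec (φ ∘ x) (D.Q⁻¹ : GL (Fin n) F).1 D.Q.1, D.Q.inv_mul, Matrix.one_mulVec, hatGL_mulVec,
      Matrix.smul_mulVec] at h5
    simp only [hf]
    rw [h5, Matrix.mulVec_smul, ← Matrix.mulVec_mulVec, ← Matrix.mulVec_mulVec, Matrix.mulVec_mulVec _ (D.Q⁻¹ : GL (Fin n) F).1 D.Q.1,
      D.Q.inv_mul, Matrix.one_mulVec]
  obtain ⟨θ, hθ, hθ0⟩ := C.exists_skew_ne
  have hθ' := C.skew_eq hθ
  have hlines : ∀ x : Fin n → K, x ≠ 0 → ∃ t : F, f x = t • (φ ∘ x) := by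
    intro x hx
    obtain ⟨y₁, y₂, hy12⟩ := exists_split C hθ' hθ0 h2 (f x)
    have hconcl : (∃ c : K, y₁ = c • x) → (∃ c : K, y₂ = c • x) → ∃ t : F, f x = t • (φ ∘ x) := by
      rintro ⟨c₁, rfl⟩ ⟨c₂, rfl⟩
      refine ⟨(c₁ : F) + θ * c₂, ?_⟩
      rw [hy12]
      funext i
      simp [add_mul, mul_assoc]
    rcases hform with hs | hA
    · have hplane : ∀ u v, D.B u u ≠ 0 → D.B v v ≠ 0 → D.B u v = 0 → (∃ a b : K, x = a • u + b • v) →
          (∃ a b : K, y₁ = a • u + b • v) ∧ ∃ a b : K, y₂ = a • u + b • v := by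
        intro u v hu hv huv hxp
        let a : CfsgLib.Forms.isoGroup D.B :=
          ⟨ClassicalCore.refl hu, ClassicalCore.refl_iso hs hu⟩ * ⟨ClassicalCore.refl hv, ClassicalCore.refl_iso hs hv⟩
        have hdet : (LinearMap.toMatrix' a.1.toLinearMap).det = 1 := by
          show (LinearMap.toMatrix' ((ClassicalCore.refl hu).toLinearMap.comp (ClassicalCore.refl hv).toLinearMap)).det = 1
          rw [LinearMap.toMatrix'_comp, Matrix.det_mul, det_refl, det_refl]; norm_num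
        obtain ⟨r, hr0, hrmat, hr⟩ := hrel a hdet
        have ha2 : a * a = 1 := by
          have hc : (ClassicalCore.refl hu * ClassicalCore.refl hv : (Fin n → K) ≃ₗ[K] (Fin n → K)) = ClassicalCore.refl hv * ClassicalCore.refl hu :=
            LinearEquiv.ext fun z => by
              rw [refl_mul_refl_apply hu hv huv, refl_mul_refl_apply hv hu (by rw [hs, huv])]; abel
          apply Subtype.ext
          show ClassicalCore.refl hu * ClassicalCore.refl hv * (ClassicalCore.refl hu * ClassicalCore.refl hv) = 1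
          have e : ∀ {w : Fin n → K} (hw : D.B w w ≠ 0), ClassicalCore.refl hw * ClassicalCore.refl hw = 1 :=
            fun hw => by nth_rewrite 1 [← refl_inv hw]; exact inv_mul_cancel _
          conv_lhs => arg 2; rw [hc]
          rw [mul_assoc, ← mul_assoc (ClassicalCore.refl hv), e, one_mul, e]
        have hs2 : D.lift a hdet * D.lift a hdet = 1 := by
          apply Subtype.ext
          apply Subtype.ext
          show (D.Φ a).1.1 * (D.Φ a).1.1 = 1
          rw [← Units.val_mul, ← Subgroup.coe_mul, ← map_mul, ha2, map_one]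
          rfl
        -- the sign is trivial as `ψ` has odd order
        have hr2 : r * r = 1 := by
          have h1 := congrArg (fun x : ↥(Cfsg.SU n F C.q) => x.1.1) (congrArg ψ hs2)
          rw [map_mul, map_one, Subgroup.coe_mul, Matrix.SpecialLinearGroup.coe_mul, hrmat, Matrix.smul_mul,
            Matrix.mul_smul, smul_smul, ← Matrix.SpecialLinearGroup.coe_mul, ← Subgroup.coe_mul, hs2] at h1
          have h3 := congrFun (congrFun h1 ⟨0, by omega⟩) ⟨0, by omega⟩
          simpa using h3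
        have hr1 : r = 1 := by
          have hpow : ∀ k : ℕ, ((ψ ^ k) (D.lift a hdet)).1.1 = r ^ k • (D.lift a hdet).1.1 := by
            intro k
            induction k with
            | zero => simp
            | succ k ih =>
              rw [pow_succ', MulAut.mul_apply, hψ, MulAut.mul_apply, conjSU_coe, fieldSU_coe, ih]
              have hτr : τ r = r := by
                rcases mul_self_eq_one_iff.1 hr2 with h | h <;> simp [h]
              rw [show (r ^ k • (D.lift a hdet).1.1).map τ = r ^ k • (D.lift a hdet).1.1.map τ by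
                ext i j; simp [map_pow, hτr], Matrix.mul_smul, Matrix.smul_mul,
                show h.1.1 * (D.lift a hdet).1.1.map τ * (h.1⁻¹ : GL (Fin n) F).1 = r • (D.lift a hdet).1.1 by
                  rw [← hrmat, hψ, MulAut.mul_apply, conjSU_coe, fieldSU_coe], smul_smul]
              rw [pow_succ]
          have h1 := hpow m
          rw [hψm, MulAut.one_apply] at h1
          obtain ⟨k, hk⟩ := hmodd
          rw [show r ^ m = r by rw [hk, pow_succ, pow_mul, pow_two, hr2, one_pow, one_mul]] at h1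
          by_contra hne
          have h3 : (D.lift a hdet).1.1 = 0 := by
            have h4 : (1 - r) • (D.lift a hdet).1.1 = 0 := by rw [sub_smul, one_smul, ← h1, sub_self]
            exact (smul_eq_zero.1 h4).resolve_left (sub_ne_zero.2 (Ne.symm hne))
          have h5 := (D.lift a hdet).1.2
          rw [h3, Matrix.det_zero] at h5
          exact zero_ne_one h5
        have hax : a.1 x = -x := (neg_iff_mem_plane hs h2K hu hv huv x).2 hxp
        have h1 := hr x
        have hneg : f (-x) = -f x := by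
          have := fadd x (-x)
          rw [add_neg_cancel] at this
          have h0 : f 0 = 0 := by simpa using fadd 0 0
          rw [h0] at this
          exact eq_neg_of_add_eq_zero_right this.symm
        rw [hr1, one_smul, hax, hneg, hy12, hatGL_split, show -(φ ∘ y₁ + θ • (φ ∘ y₂)) =
          φ ∘ (-y₁) + θ • (φ ∘ (-y₂)) by funext i; simp; ring] at h1
        obtain ⟨e1, e2⟩ := split_unique C hθ' hθ0 h2 h1
        exact ⟨(neg_iff_mem_plane hs h2K hu hv huv y₁).1 e1, (neg_iff_mem_plane hs h2K hu hv huv y₂).1 e2⟩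
      exact hconcl
        (exists_smul_of_planes hs h2K D.nondeg (by rw [hdim]; exact hn) hx
          fun u v hu hv huv hp => (hplane u v hu hv huv hp).1)
        (exists_smul_of_planes hs h2K D.nondeg (by rw [hdim]; exact hn) hx
          fun u v hu hv huv hp => (hplane u v hu hv huv hp).2)
    · let a : CfsgLib.Forms.isoGroup D.B := ⟨transv hA x, transv_iso hA x⟩
      obtain ⟨r, hr0, -, hr⟩ := hrel a (det_transv hA x)
      have hax : a.1 x = x := by
        show transv hA x x = x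
        rw [transv_apply, hA x, zero_smul, add_zero]
      have h1 := hr x
      rw [hax] at h1
      have hfx : f x ≠ 0 := fun h0 => hx (f0 x h0)
      have hsq : (hatGL a.1).1 *ᵥ ((hatGL a.1).1 *ᵥ f x) = (2 : F) • ((hatGL a.1).1 *ᵥ f x) - f x := by
        have e : ∀ y : Fin n → K, a.1 (a.1 y) = a.1 y + a.1 y - y := fun y => by
          show transv hA x (transv hA x y) = transv hA x y + transv hA x y - y
          simp only [transv_apply, map_add, map_smul, hA x]
          module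
        rw [hy12, hatGL_split, hatGL_split, e, e]
        funext i
        simp
        ring
      have hA1 : (hatGL a.1).1 *ᵥ f x = r⁻¹ • f x := by
        conv_rhs => rw [← h1, smul_smul, inv_mul_cancel₀ hr0, one_smul]
      rw [hA1, Matrix.mulVec_smul, hA1, smul_smul, smul_smul] at hsq
      have h3 : (r⁻¹ - 1) ^ 2 • f x = 0 := by
        rw [show (r⁻¹ - 1) ^ 2 = r⁻¹ * r⁻¹ - 2 * r⁻¹ + 1 by ring, add_smul, sub_smul, one_smul, hsq]
        abel
      have hr1 : r = 1 := inv_eq_one.1 (sub_eq_zero.1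
        (pow_eq_zero_iff two_ne_zero |>.1 ((smul_eq_zero.1 h3).resolve_right hfx)))
      obtain ⟨v₀, hv₀⟩ : ∃ v, D.B v x ≠ 0 := by
        by_contra h0
        push Not at h0
        exact hx (D.nondeg x fun v => CfsgLib.Forms.alt_symm hA _ _ (h0 v))
      set v := (D.B v₀ x)⁻¹ • v₀ with hv
      have hav : a.1 v = v + x := by
        show transv hA x v = v + x
        rw [transv_apply, hv, map_smul, LinearMap.smul_apply, smul_eq_mul, inv_mul_cancel₀ hv₀, one_smul]
      obtain ⟨w₁, w₂, hw⟩ := exists_split C hθ' hθ0 h2 (f v)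
      have h4 := hr v
      rw [hr1, one_smul, hav, fadd, hw, hatGL_split] at h4
      have h5 : f x = (φ ∘ ((D.B w₁ x) • x)) + θ • (φ ∘ ((D.B w₂ x) • x)) := by
        funext i
        have := congrFun h4 i
        simp [a, transv_apply] at this ⊢
        linear_combination -this
      rw [hy12] at h5
      obtain ⟨e1, e2⟩ := split_unique C hθ' hθ0 h2 h5
      exact hconcl ⟨_, e1⟩ ⟨_, e2⟩
  obtain ⟨hτ, hh⟩ := D.scalar_of_lines hn (h := h) (τ := τ) hlines
  obtain ⟨k, hk⟩ := mem_zpowers_of_fix hτ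
  have hτ2 : τ ^ 2 = 1 := by
    rw [← hk, ← zpow_natCast, ← _root_.zpow_mul, mul_comm, _root_.zpow_mul, zpow_natCast,
      show barEquiv C ^ 2 = 1 by rw [← orderOf_barEquiv C]; exact pow_orderOf_eq_one _, _root_.one_zpow]
  obtain ⟨gal, -, -, hgal⟩ := exists_galHom C.card hn hq3
  have hτm : τ ^ m = 1 := by rw [← hgal h τ, ← map_pow, hm, pow_orderOf_eq_one, map_one]
  have hτ1 : τ = 1 := by
    obtain ⟨j, hj⟩ := hmodd
    rw [hj, pow_succ, pow_mul, hτ2, one_pow, one_mul] at hτm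
    exact hτm
  obtain ⟨u, hu, hhu⟩ := hh hτ1
  rw [semiAut, (conjSU_eq_one_iff C.card hn).2 ⟨u, hu, hhu⟩, hτ1, map_one, one_mul, map_one]

/-- **Local balance at an involution of field type.** -/
theorem BarData.core_iff (hn : 3 ≤ n) (h2 : (2 : F) ≠ 0)
    (A : Subgroup (MulAut (Cfsg.PSU n F C.q))) (hinn : ∀ k : Cfsg.PSU n F C.q, MulAut.conj k ∈ A)
    (hform : (∀ x y, D.B x y = D.B y x) ∨ D.B.IsAlt) (hord : orderOf (semiAut g (barEquiv C)) = 2)
    (hns : ¬ Group.IsSolvable (Cfsg.PSU n F C.q)) [IsSimpleGroup (Cfsg.PSU n F C.q)] :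
    Cfsg.pPrimeCore 2 ↥(A ⊓ Subgroup.centralizer {semiAut g (barEquiv C)}) ≠ ⊥ ↔
      Nat.Coprime 2 (Nat.card ↥(MonoidHom.eqLocus (semiAut g (barEquiv C)).toMonoidHom
        (MonoidHom.id (Cfsg.PSU n F C.q)))) := by
  have : Fact (Nat.Prime 2) := ⟨Nat.prime_two⟩
  have : Finite (Cfsg.PSU n F C.q) := Quotient.finite _
  refine CfsgLib.AutPSL.core_iff_of_fixed hns A hinn hord fun _ =>
    ⟨MonoidHom.eqLocus (semiAut g (barEquiv C)).toMonoidHom (MonoidHom.id _), fun x hx => hx,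
      fun e he x hx => Subgroup.mul_mem _ (Subgroup.mul_mem _ he hx) (Subgroup.inv_mem _ he),
      D.fixed_odd_eq_bot hn h2 hform hns, fun y _ => D.centralizer_pow hn h2 hform y⟩

end CfsgLib.AutPSU
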