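import Cfsg.Agent.AutPSU.GU
import Cfsg.Agent.AutPSL.ClassSplit

/-!
# The order and shape of the automorphism group of `PSU_n(q)`
-/

set_option autoImplicit false
set_option linter.unusedSectionVars false

namespace CfsgLib.AutPSU

open Matrix

variable {F : Type*} [Field F] [Fintype F] {n q : ℕ}

theorem semiAut_mul (g g' : ↥(Cfsg.GU n F q)) (σ σ' : F ≃+* F) :
    semiAut g σ * semiAut g' σ' = semiAut (g * mapGU σ g') (σ * σ') := by
  rw [semiAut, semiAut, semiAut, ← map_mul toPSUAut]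
  congr 1
  rw [map_mul conjSU, map_mul fieldSU, mul_assoc, ← mul_assoc (fieldSU σ), fieldSU_mul_conjSU]
  group

theorem semiAut_unique (hF : Fintype.card F = q ^ 2) (hn : 3 ≤ n) (hs : ¬ (n = 3 ∧ q = 2))
    {g g' : ↥(Cfsg.GU n F q)} {σ σ' : F ≃+* F} (h : semiAut g σ = semiAut g' σ') :
    σ = σ' ∧ toPSUAut (conjSU g) = toPSUAut (conjSU g') := by
  have h' : conjSU g * fieldSU σ = conjSU g' * fieldSU σ' := toPSUAut_injective hF hn hs h
  have h1 : conjSU (g'⁻¹ * g) * fieldSU (σ * σ'⁻¹) = 1 := by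
    rw [map_mul conjSU, map_inv conjSU, map_mul fieldSU, map_inv fieldSU,
      show (conjSU g')⁻¹ * conjSU g * (fieldSU σ * (fieldSU σ')⁻¹) =
        (conjSU g')⁻¹ * (conjSU g * fieldSU σ) * (fieldSU σ')⁻¹ by group, h']
    group
  have hσ : σ = σ' := mul_inv_eq_one.1 (semilinear_faithful hF hn h1).1
  subst hσ
  exact ⟨rfl, congrArg toPSUAut (mul_right_cancel h')⟩

theorem conj_injective (hF : Fintype.card F = q ^ 2) (hn : 3 ≤ n) (hs : ¬ (n = 3 ∧ q = 2)) :
    Function.Injective (MulAut.conj : Cfsg.PSU n F q →* MulAut (Cfsg.PSU n F q)) := by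
  rw [injective_iff_map_eq_one]
  intro x hx
  obtain ⟨A, rfl⟩ := QuotientGroup.mk_surjective x
  rw [← toPSUAut_conj, map_eq_one_iff _ (toPSUAut_injective hF hn hs)] at hx
  rw [QuotientGroup.eq_one_iff, Subgroup.mem_center_iff]
  intro B
  have := DFunLike.congr_fun hx B
  rw [MulAut.conj_apply, MulAut.one_apply, mul_inv_eq_iff_eq_mul] at this
  exact this.symm

theorem finite_mulAut : Finite (MulAut (Cfsg.PSU n F q)) := by
  classical
  haveI : Finite (Cfsg.PSU n F q) := Quotient.finite _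
  exact Finite.of_injective (fun a : MulAut (Cfsg.PSU n F q) => (a : Cfsg.PSU n F q → Cfsg.PSU n F q))
    DFunLike.coe_injective

theorem innDiagHom_ker_map (hF : Fintype.card F = q ^ 2) (hn : 3 ≤ n) (hs : ¬ (n = 3 ∧ q = 2)) :
    (innDiagHom (F := F) (n := n) (q := q)).ker.map (detGU hF) =
      (powMonoidHom n : normOne F q →* normOne F q).range := by
  ext c
  constructor
  · rintro ⟨g, hg, rfl⟩
    obtain ⟨u, hu, hgu⟩ := (conjSU_eq_one_iff hF hn).1 ((map_eq_one_iff _ (toPSUAut_injective hF hn hs)).1 hg)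
    refine ⟨⟨u, hu⟩, ?_⟩
    rw [show g = ⟨_, scalar_mem_GU hF hu⟩ from Subtype.ext hgu, detGU_scalar hF ⟨u, hu⟩]
    rfl
  · rintro ⟨u, rfl⟩
    refine ⟨⟨_, scalar_mem_GU hF u.2⟩, ?_, by rw [detGU_scalar hF u]; rfl⟩
    show toPSUAut (conjSU _) = 1
    rw [(conjSU_eq_one_iff hF hn).2 ⟨u.1, u.2, rfl⟩, map_one]

theorem card_inndiagPSU (hF : Fintype.card F = q ^ 2) (hn : 3 ≤ n) (hs : ¬ (n = 3 ∧ q = 2)) :
    Nat.card ↥(Cfsg.inndiagPSU n F q) = Nat.gcd n (q + 1) * Nat.card (Cfsg.PSU n F q) := by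
  classical
  haveI := finite_mulAut (F := F) (n := n) (q := q)
  set φ := innDiagHom (F := F) (n := n) (q := q)
  set S := (suToGU (F := F) (n := n) (q := q)).range
  have hS : S.map φ = Cfsg.Inn (Cfsg.PSU n F q) := inn_eq_map.symm
  have hinn : Nat.card (S.map φ) = Nat.card (Cfsg.PSU n F q) := by
    rw [hS]
    exact (Nat.card_congr (MonoidHom.ofInjective (conj_injective (F := F) hF hn hs)).toEquiv).symm
  have hidx : (S ⊔ φ.ker).index = Nat.gcd n (q + 1) := by
    rw [CfsgLib.AutPSL.index_eq_map_index (detGU hF) (detGU_surjective hF (by omega)) _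
      (by rw [detGU_ker hF]; exact le_sup_left), Subgroup.map_sup,
      (Subgroup.map_eq_bot_iff S).2 (detGU_ker hF).ge, bot_sup_eq, innDiagHom_ker_map hF hn hs,
      IsCyclic.index_powMonoidHom_range, card_normOne hF, Nat.gcd_comm]
  have h1 := (S.map φ).card_mul_index
  rw [Subgroup.index_map, hinn, hidx] at h1
  have h2 := φ.range.card_mul_index
  rw [← h1, ← mul_assoc] at h2
  rw [inndiagPSU_eq, Nat.eq_of_mul_eq_mul_right
    (Nat.pos_of_ne_zero φ.range.index_ne_zero_of_finite) h2, mul_comm]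

theorem card_aut_psu (hF : Fintype.card F = q ^ 2) (hn : 3 ≤ n) (hs : ¬ (n = 3 ∧ q = 2)) :
    Nat.card (MulAut (Cfsg.PSU n F q)) =
      Nat.gcd n (q + 1) * Nat.card (F ≃+* F) * Nat.card (Cfsg.PSU n F q) := by
  classical
  let Φ : ↥(Cfsg.inndiagPSU n F q) × (F ≃+* F) → MulAut (Cfsg.PSU n F q) :=
    fun x => x.1.1 * toPSUAut (fieldSU x.2)
  have hΦ : Function.Bijective Φ := by
    constructor
    · rintro ⟨a, σ⟩ ⟨a', σ'⟩ h
      obtain ⟨g, hg⟩ := (mem_inndiagPSU_iff a.1).1 a.2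
      obtain ⟨g', hg'⟩ := (mem_inndiagPSU_iff a'.1).1 a'.2
      obtain ⟨rfl, e⟩ := semiAut_unique hF hn hs (g := g) (g' := g') (σ := σ) (σ' := σ') (by
        rw [semiAut_eq_mul, semiAut_eq_mul, ← hg, ← hg']; exact h)
      exact Prod.ext (Subtype.ext (by rw [hg, hg', e])) rfl
    · intro β
      obtain ⟨g, σ, rfl⟩ := exists_semiAut hF hn hs β
      exact ⟨(⟨_, (mem_inndiagPSU_iff _).2 ⟨g, rfl⟩⟩, σ), (semiAut_eq_mul g σ).symm⟩
  rw [← Nat.card_eq_of_bijective Φ hΦ, Nat.card_prod, card_inndiagPSU hF hn hs]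
  ring

/-- The field component of an automorphism. -/
theorem exists_galHom (hF : Fintype.card F = q ^ 2) (hn : 3 ≤ n) (hs : ¬ (n = 3 ∧ q = 2)) :
    ∃ π : MulAut (Cfsg.PSU n F q) →* (F ≃+* F), Function.Surjective π ∧ π.ker = Cfsg.inndiagPSU n F q ∧
      ∀ g σ, π (semiAut g σ) = σ := by
  choose gf sf hsf using exists_semiAut hF hn hs
  have huniq : ∀ g σ, sf (semiAut g σ) = σ := fun g σ =>
    ((semiAut_unique hF hn hs (hsf (semiAut g σ))).1).symm
  let π : MulAut (Cfsg.PSU n F q) →* (F ≃+* F) := MonoidHom.mk' sf fun a b => by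
    conv_lhs => rw [hsf a, hsf b, semiAut_mul]
    exact huniq _ _
  have h1 : semiAut (1 : ↥(Cfsg.GU n F q)) (1 : F ≃+* F) = 1 := by
    rw [semiAut, map_one, map_one, one_mul, map_one]
  refine ⟨π, fun σ => ⟨semiAut 1 σ, huniq 1 σ⟩, ?_, huniq⟩
  ext β
  rw [MonoidHom.mem_ker, mem_inndiagPSU_iff]
  constructor
  · intro h
    refine ⟨gf β, ?_⟩
    conv_lhs => rw [hsf β, show sf β = 1 from h]
    rw [semiAut, map_one, mul_one]
  · rintro ⟨g, rfl⟩
    have h2 : toPSUAut (conjSU g) = semiAut g (1 : F ≃+* F) := by rw [semiAut, map_one, mul_one]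
    rw [h2]
    exact huniq g 1

end CfsgLib.AutPSU
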