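import Cfsg.Agent.AutPSU.Descent
import Cfsg.Agent.AutPSL.Transport

/-!
# Field automorphisms of odd prime order of `PSU_n(q)`
-/

set_option autoImplicit false
set_option linter.unusedSectionVars false

namespace CfsgLib.AutPSU

open Matrix CfsgLib.RepBounds.Unit
open CfsgLib.AutPSL (mapGL twNorm unitsNorm fixedUnits)

variable {F : Type*} [Field F] [Fintype F] {n q : ℕ}

theorem mapGL_scalar (σ : F ≃+* F) (u : Fˣ) :
    mapGL σ (Matrix.GeneralLinearGroup.scalar (Fin n) u) =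
      Matrix.GeneralLinearGroup.scalar (Fin n) (Units.map (σ : F →* F) u) := by
  apply Units.ext
  ext i j
  by_cases hij : i = j <;> simp [hij]

theorem map_mem_normOne (σ : F ≃+* F) {u : Fˣ} (hu : u ∈ normOne F q) :
    Units.map (σ : F →* F) u ∈ normOne F q := by
  rw [mem_normOne] at hu ⊢
  rw [← map_pow, hu, map_one]

theorem conjSU_scalar (hF : Fintype.card F = q ^ 2) (hn : 3 ≤ n) {u : Fˣ} (hu : u ∈ normOne F q) :
    conjSU (⟨_, scalar_mem_GU hF hu⟩ : ↥(Cfsg.GU n F q)) = 1 :=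
  (conjSU_eq_one_iff hF hn).2 ⟨u, hu, rfl⟩

theorem conjSU_fieldSU_pow (σ : F ≃+* F) (g : ↥(Cfsg.GU n F q)) (k : ℕ) :
    ∃ m : ↥(Cfsg.GU n F q), m.1 = twNorm σ g.1 k ∧
      (conjSU g * fieldSU σ) ^ k = conjSU m * fieldSU (σ ^ k) := by
  induction k with
  | zero => exact ⟨1, rfl, by simp⟩
  | succ k ih =>
    obtain ⟨m, hm, he⟩ := ih
    refine ⟨g * mapGU σ m, ?_, ?_⟩
    · rw [Subgroup.coe_mul, mapGU_val, hm, CfsgLib.AutPSL.twNorm_succ]
    · rw [pow_succ', he, mul_assoc, ← mul_assoc (fieldSU σ), fieldSU_mul_conjSU, pow_succ', map_mul, map_mul]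
      simp only [mul_assoc]

theorem orderOf_field (hF : Fintype.card F = q ^ 2) (hn : 3 ≤ n) (hs : ¬ (n = 3 ∧ q = 2)) (σ : F ≃+* F) :
    orderOf (toPSUAut (fieldSU (n := n) (q := q) σ)) = orderOf σ :=
  orderOf_injective (toPSUAut.comp (fieldSU (n := n) (q := q)))
    ((toPSUAut_injective hF hn hs).comp (fieldSU_injective hF hn)) σ

/-- The inner-diagonal group is normal in the automorphism group. -/
theorem conj_mem_inndiagPSU (hF : Fintype.card F = q ^ 2) (hn : 3 ≤ n) (hs : ¬ (n = 3 ∧ q = 2))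
    (α : MulAut (Cfsg.PSU n F q)) {δ : MulAut (Cfsg.PSU n F q)} (hδ : δ ∈ Cfsg.inndiagPSU n F q) :
    α * δ * α⁻¹ ∈ Cfsg.inndiagPSU n F q := by
  obtain ⟨π, -, hker, -⟩ := exists_galHom hF hn hs
  rw [← hker] at hδ ⊢
  exact π.normal_ker.conj_mem δ hδ α

theorem fieldAutClass_cases {x : MulAut (Cfsg.PSU n F q)} (hx : Cfsg.IsFieldAutClassPSU x) :
    ∃ (α : MulAut (Cfsg.PSU n F q)) (σ : F ≃+* F), Odd (orderOf σ) ∧
      x = α * toPSUAut (fieldSU σ) * α⁻¹ := by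
  obtain ⟨α, φ, σ, -, hodd, hφ, h⟩ := hx
  rw [isFieldAutPSUOf_iff] at hφ
  exact ⟨α⁻¹, σ, hodd, by rw [← hφ, ← h]; group⟩

theorem isConj_field_of_pow_eq_one (hF : Fintype.card F = q ^ 2) (hn : 3 ≤ n) (hs : ¬ (n = 3 ∧ q = 2))
    {σ : F ≃+* F} {r : ℕ} (hr : orderOf σ = r) (hodd : Odd r) (a : ↥(Cfsg.GU n F q))
    (hpow : (toPSUAut (conjSU a * fieldSU σ)) ^ r = 1) :
    ∃ h : ↥(Cfsg.GU n F q), toPSUAut (conjSU a * fieldSU σ) =
      toPSUAut (conjSU h) * toPSUAut (fieldSU σ) * (toPSUAut (conjSU h))⁻¹ := by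
  obtain ⟨m, hm, he⟩ := conjSU_fieldSU_pow σ a r
  rw [← map_pow, map_eq_one_iff _ (toPSUAut_injective hF hn hs), he] at hpow
  obtain ⟨-, c, -, hc⟩ := semilinear_faithful hF hn hpow
  obtain ⟨C, rfl⟩ := exists_conjField q hF
  obtain ⟨u, h, hu, hh, ha⟩ := exists_gu_descent C (by omega) hr hodd (hm ▸ hc)
  refine ⟨⟨h, hh⟩, ?_⟩
  have ha' : a = ⟨_, scalar_mem_GU hF hu⟩ *
      ((⟨h, hh⟩ : ↥(Cfsg.GU n F C.q)) * (mapGU σ ⟨h, hh⟩)⁻¹) :=
    Subtype.ext (by rw [Subgroup.coe_mul, Subgroup.coe_mul, Subgroup.coe_inv, mapGU_val, ha])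
  rw [← map_mul, ← map_inv, ← map_mul, ha', map_mul conjSU, conjSU_scalar hF hn hu, one_mul,
    map_mul conjSU, ← map_inv (mapGU σ), mul_assoc, ← fieldSU_mul_conjSU, map_inv, mul_assoc]

theorem commute_field_iff (hF : Fintype.card F = q ^ 2) (hn : 3 ≤ n) (hs : ¬ (n = 3 ∧ q = 2))
    {σ : F ≃+* F} {r : ℕ} (hr : orderOf σ = r) (hodd : Odd r) (a : ↥(Cfsg.GU n F q)) :
    toPSUAut (conjSU a) * toPSUAut (fieldSU σ) = toPSUAut (fieldSU σ) * toPSUAut (conjSU a) ↔
      ∃ (u : Fˣ) (g₀ : GL (Fin n) F), u ∈ normOne F q ∧ g₀ ∈ Cfsg.GU n F q ∧ mapGL σ g₀ = g₀ ∧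
        a.1 = Matrix.GeneralLinearGroup.scalar (Fin n) u * g₀ := by
  rw [← map_mul, ← map_mul, (toPSUAut_injective hF hn hs).eq_iff, fieldSU_mul_conjSU, mul_left_inj]
  constructor
  · intro h
    obtain ⟨w, -, hw⟩ := (conjSU_eq_one_iff hF hn (g := mapGU σ a * a⁻¹)).1 (by
      rw [map_mul, ← h, map_inv, mul_inv_cancel])
    haveI : Nonempty (Fin n) := ⟨⟨0, by omega⟩⟩
    obtain ⟨u, g₀, hg₀, ha⟩ := CfsgLib.AutPSp.exists_fixed_of_map_eq hr hodd.pos (g := a.1) (a := w) (by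
      rw [← mul_inv_eq_iff_eq_mul]
      exact hw)
    obtain ⟨C, rfl⟩ := exists_conjField q hF
    -- the scalar can be moved to norm one
    set k : F := ((u : F) * C.σ u)⁻¹ with hk
    have hnu : (u : F) * C.σ u ≠ 0 := mul_ne_zero u.ne_zero ((map_ne_zero C.σ).2 u.ne_zero)
    have hg : g₀.1ᵀ * g₀.1.map C.σ = k • (1 : Matrix (Fin n) (Fin n) F) := by
      have h1 := (mem_GU_iff_matrix C).1 a.2
      rw [ha, scalar_mul_gram] at h1
      rw [← h1, hk, inv_smul_smul₀ hnu]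
    have hkσ : σ k = k := by
      have h1 : (g₀.1ᵀ * g₀.1.map C.σ).map σ = g₀.1ᵀ * g₀.1.map C.σ := by
        have h0 : g₀.1.map σ = g₀.1 := congrArg Units.val hg₀
        rw [Matrix.map_mul, Matrix.transpose_map,
          show (g₀.1.map C.σ).map σ = (g₀.1.map σ).map C.σ from Matrix.ext fun i j => conj_field C σ _, h0]
      rw [hg] at h1
      simpa using congrFun (congrFun h1 ⟨0, by omega⟩) ⟨0, by omega⟩
    have hkb : C.σ k = k := by rw [hk, map_inv₀, map_mul, C.invol, mul_comm]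
    have hne : (barFixed C σ : _ →+* _) ≠ RingHom.id _ := fun h =>
      barFixed_ne_one C hr hodd (RingEquiv.ext fun x => RingHom.congr_fun h x)
    obtain ⟨⟨e, heσ⟩, he⟩ := CfsgLib.Forms.exists_mul_involution_eq
      (σ := (barFixed C σ : CfsgLib.FixedField.fixedSub σ →+* CfsgLib.FixedField.fixedSub σ)) hne
      (fun x => Subtype.ext (C.invol x.1)) (c := ⟨k, hkσ⟩) (Subtype.ext hkb)
    have he' : e * C.σ e = k := congrArg Subtype.val he
    have he0 : e ≠ 0 := fun h0 => inv_ne_zero hnu (by rw [← hk, ← he', h0, zero_mul])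
    set E : Fˣ := Units.mk0 e he0
    have hEfix : Units.map (σ : F →* F) E = E := Units.ext heσ
    refine ⟨u * E, Matrix.GeneralLinearGroup.scalar (Fin n) E⁻¹ * g₀, ?_, ?_, ?_, ?_⟩
    · refine mem_normOne.2 (Units.ext ?_)
      rw [Units.val_pow_eq_pow_val, Units.val_mul, Units.val_one, pow_succ', ← C.pow, map_mul]
      show (u : F) * e * (C.σ u * C.σ e) = 1
      rw [show (u : F) * e * (C.σ u * C.σ e) = ((u : F) * C.σ u) * (e * C.σ e) by ring, he', hk,
        mul_inv_cancel₀ hnu]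
    · rw [mem_GU_iff_matrix, scalar_mul_gram, hg, smul_smul, Units.val_inv_eq_inv_val, map_inv₀,
        ← mul_inv, show (E : F) = e from rfl, he',
        inv_mul_cancel₀ (inv_ne_zero hnu : k ≠ 0), one_smul]
    · rw [map_mul, mapGL_scalar, map_inv, hEfix, hg₀]
    · rw [ha, ← mul_assoc, ← map_mul, mul_inv_cancel_right]
  · rintro ⟨u, g₀, hu, hb, hg₀, ha⟩
    have ha' : a = ⟨_, scalar_mem_GU hF hu⟩ * ⟨g₀, hb⟩ := Subtype.ext ha
    have hfix : mapGU σ ⟨g₀, hb⟩ = ⟨g₀, hb⟩ := Subtype.ext hg₀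
    have hsc : conjSU (mapGU σ (⟨_, scalar_mem_GU hF hu⟩ : ↥(Cfsg.GU n F q))) = 1 :=
      (conjSU_eq_one_iff hF hn).2 ⟨_, map_mem_normOne σ hu, mapGL_scalar σ u⟩
    rw [ha', map_mul, map_mul, map_mul, hsc, hfix, conjSU_scalar hF hn hu]

theorem splitClassCount_field (hF : Fintype.card F = q ^ 2) (hn : 3 ≤ n) (hs : ¬ (n = 3 ∧ q = 2))
    {σ : F ≃+* F} {r : ℕ} (hr : orderOf σ = r) (hodd : Odd r) :
    Cfsg.splitClassCount (Cfsg.inndiagPSU n F q) (Cfsg.Inn (Cfsg.PSU n F q)) (toPSUAut (fieldSU σ)) =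
      ((powMonoidHom n : normOne F q →* normOne F q).range ⊔
        (fixedUnits σ).subgroupOf (normOne F q)).index := by
  have hn1 : 1 ≤ n := by omega
  haveI : ((suToGU (F := F) (n := n) (q := q)).range).Normal := by
    rw [← detGU_ker hF]; infer_instance
  rw [inndiagPSU_eq, inn_eq_map, CfsgLib.AutPSL.splitClassCount_eq_index,
    CfsgLib.AutPSL.index_eq_map_index (detGU hF) (detGU_surjective hF hn1) _
      (by rw [detGU_ker hF]; exact le_sup_left), Subgroup.map_sup, ← detGU_ker hF,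
    (Subgroup.map_eq_bot_iff _).2 le_rfl, bot_sup_eq]
  congr 1
  refine le_antisymm ?_ (sup_le ?_ ?_)
  · rintro _ ⟨a, ha, rfl⟩
    obtain ⟨u, g₀, hu, hb, hg₀, hag⟩ :=
      (commute_field_iff hF hn hs hr hodd a).1 (Subgroup.mem_centralizer_singleton_iff.1 ha)
    rw [show a = ⟨_, scalar_mem_GU hF hu⟩ * (⟨g₀, hb⟩ : ↥(Cfsg.GU n F q)) from Subtype.ext hag, map_mul,
      detGU_scalar hF ⟨u, hu⟩]
    refine Subgroup.mul_mem_sup ⟨_, rfl⟩ (Subgroup.mem_subgroupOf.2 (CfsgLib.AutPSL.mem_fixedUnits.2 ?_))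
    rw [detGU_val, show σ g₀.1.det = (g₀.1.map σ).det from σ.toRingHom.map_det _,
      show g₀.1.map σ = g₀.1 from congrArg Units.val hg₀]
  · rintro _ ⟨u, rfl⟩
    refine ⟨⟨_, scalar_mem_GU hF u.2⟩, Subgroup.mem_centralizer_singleton_iff.2 ?_, detGU_scalar hF u⟩
    exact (commute_field_iff hF hn hs hr hodd _).2 ⟨u, 1, u.2, one_mem _, map_one _, (mul_one _).symm⟩
  · intro c hc
    have hmemd : ∀ i : Fin n, (if i = ⟨0, hn1⟩ then c.1 else (1 : Fˣ)) ∈ normOne F q := fun i => by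
      split_ifs; exacts [c.2, one_mem _]
    refine ⟨⟨_, diag_mem_GU hF _ hmemd⟩, Subgroup.mem_centralizer_singleton_iff.2
      ((commute_field_iff hF hn hs hr hodd _).2 ⟨1, _, one_mem _, diag_mem_GU hF _ hmemd, ?_,
        by rw [map_one, one_mul]⟩), ?_⟩
    · apply Units.ext
      ext i j
      change σ (Matrix.diagonal (fun i : Fin n => (((if i = ⟨0, hn1⟩ then c.1 else (1 : Fˣ)) : Fˣ) : F)) i j) =
        Matrix.diagonal (fun i : Fin n => (((if i = ⟨0, hn1⟩ then c.1 else (1 : Fˣ)) : Fˣ) : F)) i j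
      by_cases hij : i = j
      · subst hij
        simp only [Matrix.diagonal_apply_eq]
        split_ifs
        · exact CfsgLib.AutPSL.mem_fixedUnits.1 (Subgroup.mem_subgroupOf.1 hc)
        · exact map_one σ
      · simp [hij]
    · refine Subtype.ext (Units.ext ?_)
      rw [detGU_val]
      show (Matrix.diagonal fun i : Fin n => ((if i = ⟨0, hn1⟩ then c.1 else 1 : Fˣ) : F)).det = _
      rw [Matrix.det_diagonal, Finset.prod_eq_single (⟨0, hn1⟩ : Fin n) (fun i _ hi => by simp [hi]) (by simp),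
        if_pos rfl]

theorem nonempty_centralizer_field (hF : Fintype.card F = q ^ 2) (hn : 3 ≤ n) (hs : ¬ (n = 3 ∧ q = 2))
    {σ : F ≃+* F} {r : ℕ} (hr : orderOf σ = r) (hodd : Odd r) {F₀ : Type*} [Field F₀] (q₀ : ℕ)
    (e : F₀ →+* F) (he : ∀ x : F, σ x = x ↔ x ∈ Set.range e) (hq₀ : ∀ y : F₀, y ^ q = y ^ q₀) :
    Nonempty (↥(Cfsg.inndiagPSU n F q ⊓ Subgroup.centralizer {toPSUAut (fieldSU σ)}) ≃*
      Cfsg.PGU n F₀ q₀) := by
  have hform : ∀ u v : Fin n → F₀, Cfsg.hermForm n F q (e ∘ u) (e ∘ v) = e (Cfsg.hermForm n F₀ q₀ u v) := by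
    intro u v
    simp only [Cfsg.hermForm, Function.comp_apply, map_sum, map_mul, map_pow, ← hq₀]
  have hmul : ∀ (A : Matrix (Fin n) (Fin n) F₀) (x : Fin n → F₀), A.map e *ᵥ (e ∘ x) = e ∘ (A *ᵥ x) :=
    fun A x => funext fun i => (RingHom.map_mulVec e A x i).symm
  have hsingle : ∀ i, (e ∘ (Pi.single i (1 : F₀) : Fin n → F₀)) = Pi.single i 1 := fun i => by
    funext k; by_cases hk : k = i <;> simp [hk]
  have hmem : ∀ b : ↥(Cfsg.GU n F₀ q₀), Matrix.GeneralLinearGroup.map e b.1 ∈ Cfsg.GU n F q := by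
    intro b
    obtain ⟨C, rfl⟩ := exists_conjField q hF
    rw [mem_GU_iff_matrix]
    ext i j
    have h1 := congrArg e (mem_GU_iff.1 b.2 (Pi.single i 1) (Pi.single j 1))
    rw [← hform, ← hform, ← hmul, ← hmul, hsingle, hsingle, hermForm_eq, Matrix.mulVec_single_one,
      Matrix.mulVec_single_one] at h1
    rw [Matrix.mul_apply, Matrix.one_apply]
    refine (Eq.trans ?_ h1).trans ?_
    · simp [herm]
    · simp [herm, Pi.single_apply, eq_comm]
  let E : ↥(Cfsg.GU n F₀ q₀) →* ↥(Cfsg.GU n F q) :=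
    ((Matrix.GeneralLinearGroup.map e).comp (Cfsg.GU n F₀ q₀).subtype).codRestrict _ hmem
  have hEfix : ∀ b, mapGL σ (E b).1 = (E b).1 := fun b =>
    Units.ext (Matrix.ext fun i j => (he _).2 ⟨b.1.1 i j, rfl⟩)
  let ψ : ↥(Cfsg.GU n F₀ q₀) →*
      ↥(Cfsg.inndiagPSU n F q ⊓ Subgroup.centralizer {toPSUAut (fieldSU (n := n) (q := q) σ)}) :=
    (innDiagHom.comp E).codRestrict _ fun b => ⟨(mem_inndiagPSU_iff _).2 ⟨_, rfl⟩,
      Subgroup.mem_centralizer_singleton_iff.2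
        ((commute_field_iff hF hn hs hr hodd _).2
          ⟨1, (E b).1, one_mem _, (E b).2, hEfix b, by rw [map_one, one_mul]⟩)⟩
  have hsurj : Function.Surjective ψ := by
    rintro ⟨y, hy, hyc⟩
    obtain ⟨a, rfl⟩ := (mem_inndiagPSU_iff _).1 hy
    obtain ⟨u, g₀, hu, hb, hg₀, hag⟩ :=
      (commute_field_iff hF hn hs hr hodd a).1 (Subgroup.mem_centralizer_singleton_iff.1 hyc)
    have hent : ∀ i j, ∃ y, e y = g₀.1 i j := fun i j =>
      (he _).1 (congrArg (fun M : GL (Fin n) F => M.1 i j) hg₀)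
    choose B hB using hent
    have hBmap : (Matrix.of B).map e = g₀.1 := Matrix.ext hB
    have hdet : (Matrix.of B).det ≠ 0 := by
      intro h0
      have := e.map_det (Matrix.of B)
      rw [h0, map_zero, RingHom.mapMatrix_apply, hBmap] at this
      exact g₀.det.ne_zero (by simp [← this])
    have hbmem : Matrix.GeneralLinearGroup.mkOfDetNeZero _ hdet ∈ Cfsg.GU n F₀ q₀ := by
      rw [mem_GU_iff]
      intro x y
      apply e.injective
      show e (Cfsg.hermForm n F₀ q₀ (Matrix.of B *ᵥ x) (Matrix.of B *ᵥ y)) = _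
      rw [← hform, ← hform, ← hmul, ← hmul, hBmap]
      exact mem_GU_iff.1 hb _ _
    refine ⟨⟨_, hbmem⟩, Subtype.ext ?_⟩
    change toPSUAut (conjSU (E ⟨_, hbmem⟩)) = toPSUAut (conjSU a)
    rw [show a = ⟨_, scalar_mem_GU hF hu⟩ * E ⟨_, hbmem⟩ from Subtype.ext
      (hag.trans (congrArg (Matrix.GeneralLinearGroup.scalar (Fin n) u * ·) (Units.ext hBmap.symm))),
      map_mul conjSU, conjSU_scalar hF hn hu, one_mul]
  have hker : ψ.ker = (Cfsg.Geo.scalars (Fin n) F₀).subgroupOf (Cfsg.GU n F₀ q₀) := by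
    rw [show ψ.ker = (innDiagHom.comp E).ker from MonoidHom.ker_codRestrict _ _ _]
    ext b
    rw [MonoidHom.mem_ker, Subgroup.mem_subgroupOf, Cfsg.Geo.mem_scalars_iff]
    change toPSUAut (conjSU (E b)) = 1 ↔ _
    rw [map_eq_one_iff _ (toPSUAut_injective hF hn hs), conjSU_eq_one_iff hF hn]
    constructor
    · rintro ⟨u, -, hu⟩
      have h00 := congrArg (fun M : GL (Fin n) F => M.1 ⟨0, by omega⟩ ⟨0, by omega⟩) hu
      change e (b.1.1 _ _) = _ at h00
      simp at h00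
      have hb0 : b.1.1 ⟨0, by omega⟩ ⟨0, by omega⟩ ≠ 0 := by
        intro h0
        rw [h0, map_zero] at h00
        exact u.ne_zero h00.symm
      refine ⟨Units.mk0 _ hb0, Matrix.ext fun i j => e.injective ?_⟩
      have hij := congrArg (fun M : GL (Fin n) F => M.1 i j) hu
      change e (b.1.1 i j) = _ at hij
      by_cases hij' : i = j
      · subst hij'; simp at hij; simp [hij, h00]
      · simp [hij'] at hij; simp [hij', hij]
    · rintro ⟨u, hu⟩
      have hE : (E b).1 = Matrix.GeneralLinearGroup.scalar (Fin n) (Units.map (e : F₀ →* F) u) :=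
        Units.ext (Matrix.ext fun i j => by
          change e (b.1.1 i j) = _
          by_cases hij' : i = j <;> simp [hu, hij'])
      have hmem' := det_mem_normOne hF (E b)
      refine ⟨_, ?_, hE⟩
      obtain ⟨C, rfl⟩ := exists_conjField q hF
      have h1 := (mem_GU_iff_matrix C).1 (E b).2
      rw [hE, ← mul_one (Matrix.GeneralLinearGroup.scalar (Fin n) _), scalar_mul_gram] at h1
      have h3 := congrFun (congrFun h1 ⟨0, by omega⟩) ⟨0, by omega⟩
      simp at h3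
      exact mem_normOne.2 (Units.ext (by
        rw [Units.val_pow_eq_pow_val, Units.val_one, pow_succ', ← C.pow]; exact h3))
  exact ⟨((QuotientGroup.quotientMulEquivOfEq hker.symm).trans
    (QuotientGroup.quotientKerEquivOfSurjective ψ hsurj)).symm⟩

end CfsgLib.AutPSU
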