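import Cfsg.Agent.AutPSU.Realise
import Cfsg.Agent.AutPSL.Realise
import Cfsg.Agent.Forms4.UnitarySimple

/-!
# The general unitary group acting on `SU` and `PSU`
-/

set_option autoImplicit false
set_option linter.unusedSectionVars false

namespace CfsgLib.AutPSU

open Matrix CfsgLib.RepBounds.Unit
open CfsgLib.AutPSL (mapGL)

variable {F : Type*} [Field F] {n q : ℕ}

theorem map_mem_GU (σ : F ≃+* F) {g : GL (Fin n) F} (hg : g ∈ Cfsg.GU n F q) :
    mapGL σ g ∈ Cfsg.GU n F q :=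
  mem_GU_iff.2 (preserves_map σ (mem_GU_iff.1 hg))

/-- A field automorphism on `GU`. -/
noncomputable def mapGU (σ : F ≃+* F) : ↥(Cfsg.GU n F q) →* ↥(Cfsg.GU n F q) :=
  ((mapGL σ).comp (Cfsg.GU n F q).subtype).codRestrict _ fun g => map_mem_GU σ g.2

theorem mapGU_val (σ : F ≃+* F) (g : ↥(Cfsg.GU n F q)) : (mapGU σ g).1 = mapGL σ g.1 := rfl

theorem fieldSU_mul_conjSU (σ : F ≃+* F) (g : ↥(Cfsg.GU n F q)) :
    fieldSU σ * conjSU g = conjSU (mapGU σ g) * fieldSU σ := by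
  ext1 s
  apply Subtype.ext
  apply Subtype.ext
  change (g.1.1 * s.1.1 * (g.1⁻¹ : GL (Fin n) F).1).map σ =
    (mapGL σ g.1).1 * s.1.1.map σ * ((mapGL σ g.1)⁻¹ : GL (Fin n) F).1
  rw [← map_inv (mapGL σ)]
  change σ.toRingHom.mapMatrix _ = σ.toRingHom.mapMatrix _ * σ.toRingHom.mapMatrix _ * σ.toRingHom.mapMatrix _
  rw [map_mul, map_mul]

/-- The inclusion of `SU` in `GU`. -/
def suToGU : ↥(Cfsg.SU n F q) →* ↥(Cfsg.GU n F q) :=
  ((Matrix.SpecialLinearGroup.toGL).comp (Cfsg.SU n F q).subtype).codRestrict _ fun s =>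
    mem_GU_iff.2 (mem_SU_iff'.1 s.2)

theorem suToGU_val (s : ↥(Cfsg.SU n F q)) : (suToGU s).1.1 = s.1.1 := rfl

theorem conjSU_suToGU (s : ↥(Cfsg.SU n F q)) : conjSU (suToGU s) = MulAut.conj s := by
  ext1 t
  apply Subtype.ext
  apply Subtype.ext
  rfl

/-- The action of `GU` on `PSU`. -/
def innDiagHom : ↥(Cfsg.GU n F q) →* MulAut (Cfsg.PSU n F q) := toPSUAut.comp conjSU

theorem innDiagHom_apply (g : ↥(Cfsg.GU n F q)) : innDiagHom g = toPSUAut (conjSU g) := rfl

theorem inndiagPSU_eq : Cfsg.inndiagPSU n F q = (innDiagHom (F := F) (n := n) (q := q)).range := by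
  ext β
  rw [mem_inndiagPSU_iff, MonoidHom.mem_range]
  exact ⟨fun ⟨g, h⟩ => ⟨g, h.symm⟩, fun ⟨g, h⟩ => ⟨g, h.symm⟩⟩

theorem inn_eq_map :
    Cfsg.Inn (Cfsg.PSU n F q) = (suToGU (F := F) (n := n) (q := q)).range.map innDiagHom := by
  ext β
  constructor
  · rintro ⟨x, rfl⟩
    induction x using QuotientGroup.induction_on with
    | H h => exact ⟨suToGU h, ⟨h, rfl⟩, by rw [innDiagHom_apply, conjSU_suToGU, toPSUAut_conj]⟩
  · rintro ⟨_, ⟨h, rfl⟩, rfl⟩
    exact ⟨QuotientGroup.mk h, by rw [innDiagHom_apply, conjSU_suToGU, toPSUAut_conj]⟩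

variable (F q) in
/-- The elements of norm one. -/
def normOne : Subgroup Fˣ := (powMonoidHom (q + 1) : Fˣ →* Fˣ).ker

theorem mem_normOne {u : Fˣ} : u ∈ normOne F q ↔ u ^ (q + 1) = 1 := Iff.rfl

variable [Fintype F]

theorem card_normOne (hF : Fintype.card F = q ^ 2) : Nat.card (normOne F q) = q + 1 := by
  rw [normOne, IsCyclic.card_powMonoidHom_ker, Nat.card_units, Nat.card_eq_fintype_card, hF]
  refine Nat.gcd_eq_right ⟨q - 1, ?_⟩
  have := CfsgLib.Forms.two_le_q hF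
  obtain ⟨k, rfl⟩ : ∃ k, q = k + 1 := ⟨q - 1, by omega⟩
  rw [Nat.add_sub_cancel, pow_two]
  have : 1 ≤ (k + 1) * (k + 1) := Nat.one_le_iff_ne_zero.2 (by positivity)
  zify [this]
  ring

theorem det_mem_normOne (hF : Fintype.card F = q ^ 2) (g : ↥(Cfsg.GU n F q)) :
    Matrix.GeneralLinearGroup.det g.1 ∈ normOne F q := by
  obtain ⟨C, rfl⟩ := exists_conjField q hF
  rw [mem_normOne]
  apply Units.ext
  rw [Units.val_pow_eq_pow_val, Units.val_one, Matrix.GeneralLinearGroup.val_det_apply, pow_succ', ← C.pow]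
  have h : g.1.1.transpose * g.1.1.map C.σ = 1 := by
    ext i j
    have := mem_GU_iff.1 g.2 (Pi.single i 1) (Pi.single j 1)
    rw [hermForm_eq, Matrix.mulVec_single_one, Matrix.mulVec_single_one] at this
    rw [Matrix.mul_apply, Matrix.one_apply]
    refine (Eq.trans ?_ this).trans ?_
    · simp [herm]
    · simp [herm, Pi.single_apply, eq_comm]
  have := congrArg Matrix.det h
  rwa [Matrix.det_mul, Matrix.det_transpose, Matrix.det_one,
    show (g.1.1.map C.σ).det = C.σ g.1.1.det from (C.σ.map_det _).symm] at this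

/-- The determinant on `GU`. -/
noncomputable def detGU (hF : Fintype.card F = q ^ 2) : ↥(Cfsg.GU n F q) →* normOne F q :=
  (Matrix.GeneralLinearGroup.det.comp (Cfsg.GU n F q).subtype).codRestrict _ (det_mem_normOne hF)

theorem detGU_val (hF : Fintype.card F = q ^ 2) (g : ↥(Cfsg.GU n F q)) :
    ((detGU hF g : Fˣ) : F) = g.1.1.det := rfl

theorem detGU_ker (hF : Fintype.card F = q ^ 2) :
    (detGU (n := n) hF).ker = (suToGU (F := F) (n := n) (q := q)).range := by
  ext g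
  constructor
  · intro h
    have hd : g.1.1.det = 1 := by
      rw [← detGU_val hF, MonoidHom.mem_ker.1 h]; rfl
    exact ⟨⟨⟨g.1.1, hd⟩, mem_SU_iff'.2 (mem_GU_iff.1 g.2)⟩, Subtype.ext (Units.ext rfl)⟩
  · rintro ⟨s, rfl⟩
    exact Subtype.ext (Units.ext s.1.2)

theorem diag_mem_GU (hF : Fintype.card F = q ^ 2) (d : Fin n → Fˣ) (hd : ∀ i, d i ∈ normOne F q) :
    (⟨Matrix.diagonal fun i => (d i : F), Matrix.diagonal fun i => ((d i)⁻¹ : Fˣ),
      by rw [Matrix.diagonal_mul_diagonal]; simp,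
      by rw [Matrix.diagonal_mul_diagonal]; simp⟩ : GL (Fin n) F) ∈ Cfsg.GU n F q := by
  rw [mem_GU_iff]
  intro u v
  refine Finset.sum_congr rfl fun i _ => ?_
  simp only [Matrix.mulVec_diagonal, mul_pow]
  have h := congrArg Units.val (mem_normOne.1 (hd i))
  rw [Units.val_pow_eq_pow_val, Units.val_one, pow_succ'] at h
  linear_combination (u i * (v i) ^ q) * h

theorem detGU_surjective (hF : Fintype.card F = q ^ 2) (hn : 1 ≤ n) :
    Function.Surjective (detGU (n := n) (F := F) hF) := by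
  intro c
  let i₀ : Fin n := ⟨0, hn⟩
  refine ⟨⟨_, diag_mem_GU hF (fun i => if i = i₀ then c.1 else 1)
    (fun i => by split_ifs; exacts [c.2, one_mem _])⟩, Subtype.ext (Units.ext ?_)⟩
  rw [detGU_val]
  show (Matrix.diagonal fun i => ((if i = i₀ then c.1 else 1 : Fˣ) : F)).det = _
  rw [Matrix.det_diagonal, Finset.prod_eq_single i₀ (fun i _ hi => by simp [hi]) (by simp), if_pos rfl]

theorem scalar_mem_GU (hF : Fintype.card F = q ^ 2) {u : Fˣ} (hu : u ∈ normOne F q) :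
    Matrix.GeneralLinearGroup.scalar (Fin n) u ∈ Cfsg.GU n F q := by
  convert diag_mem_GU hF (fun _ : Fin n => u) (fun _ => hu) using 1
  exact Units.ext rfl

theorem detGU_scalar (hF : Fintype.card F = q ^ 2) (u : normOne F q) :
    detGU (n := n) hF ⟨_, scalar_mem_GU hF u.2⟩ = u ^ n := by
  refine Subtype.ext (Units.ext ?_)
  rw [detGU_val]
  simp

/-- A semilinear unitary map acting trivially on `SU` is a linear scalar. -/
theorem semilinear_faithful (hF : Fintype.card F = q ^ 2) (hn : 3 ≤ n) {g : ↥(Cfsg.GU n F q)}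
    {σ : F ≃+* F} (h : conjSU g * fieldSU σ = 1) :
    σ = 1 ∧ ∃ u : Fˣ, u ∈ normOne F q ∧ g.1 = Matrix.GeneralLinearGroup.scalar (Fin n) u := by
  classical
  obtain ⟨C, rfl⟩ := exists_conjField q hF
  have key : ∀ w : Fin n → F, herm C w w = 0 → ∃ t : F, g.1.1 *ᵥ (σ ∘ w) = t • w := by
    intro w hw
    by_cases hw0 : w = 0
    · exact ⟨0, by subst hw0; simp [show (σ ∘ (0 : Fin n → F)) = 0 from funext fun i => by simp]⟩
    obtain ⟨d, hd, hd0⟩ := C.exists_skew_ne
    set T := transvEl C w d hw hd with hT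
    have hTmem : T.1 ∈ Cfsg.SU n F C.q := suG_fin_eq C n ▸ T.2
    have e := congrArg (fun s : ↥(Cfsg.SU n F C.q) => s.1.1)
      (DFunLike.congr_fun h (⟨T.1, hTmem⟩ : ↥(Cfsg.SU n F C.q)))
    simp only [MulAut.mul_apply, MulAut.one_apply, conjSU_coe, fieldSU_coe] at e
    obtain ⟨x, hx⟩ := exists_herm_eq C hw0 1
    have h1 := congrArg (fun A : Matrix (Fin n) (Fin n) F => A *ᵥ (g.1.1 *ᵥ (σ ∘ x))) e
    simp only [← Matrix.mulVec_mulVec] at h1
    rw [Matrix.mulVec_mulVec (σ ∘ x) (g.1⁻¹ : GL (Fin n) F).1 g.1.1, g.1.inv_mul, Matrix.one_mulVec,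
      map_mulVec σ T.1.1 x, show T.1.1 *ᵥ x = app C T x from rfl, isTransv_transvEl C w d hw hd x, hx,
      mul_one, show σ ∘ (x + d • w) = σ ∘ x + σ d • (σ ∘ w) by funext i; simp,
      Matrix.mulVec_add, Matrix.mulVec_smul,
      show T.1.1 *ᵥ (g.1.1 *ᵥ (σ ∘ x)) = app C T (g.1.1 *ᵥ (σ ∘ x)) from rfl,
      isTransv_transvEl C w d hw hd _, add_right_inj] at h1
    refine ⟨(σ d)⁻¹ * (d * herm C (g.1.1 *ᵥ (σ ∘ x)) w), ?_⟩
    rw [mul_smul, ← h1, inv_smul_smul₀ (by simpa using hd0)]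
  set col : Fin n → Fin n → F := fun i => g.1.1 *ᵥ Pi.single i 1 with hcol
  obtain ⟨ζ₀, hζ₀⟩ := C.exists_norm_neg_one
  obtain ⟨c, hc, hc2⟩ := exists_norm_sq_ne C
  have hpairvec : ∀ i j, i ≠ j → ∀ z : F, z * C.σ z = -1 →
      ∃ t : F, col i + σ z • col j = t • (Pi.single i 1 + z • Pi.single j 1 : Fin n → F) := by
    intro i j hij z hz
    obtain ⟨t, ht⟩ := key (Pi.single i 1 + z • Pi.single j 1) (by
      simp only [herm_add_left, herm_add_right, herm_smul_left, herm_smul_right]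
      simp [herm, Pi.single_apply, hij, hij.symm]
      linear_combination hz)
    refine ⟨t, ?_⟩
    rw [← ht, show σ ∘ (Pi.single i 1 + z • Pi.single j 1 : Fin n → F) =
      Pi.single i 1 + σ z • Pi.single j 1 by
        funext k; simp [Pi.single_apply, apply_ite σ], Matrix.mulVec_add, Matrix.mulVec_smul]
  have hζ' : ζ₀ * c * C.σ (ζ₀ * c) = -1 := by rw [map_mul]; linear_combination (c * C.σ c) * hζ₀ + (-1) * hc
  have hζne : σ ζ₀ - σ (ζ₀ * c) ≠ 0 := by
    rw [← map_sub, map_ne_zero_iff σ σ.injective, show ζ₀ - ζ₀ * c = ζ₀ * (1 - c) by ring]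
    exact mul_ne_zero (left_ne_zero_of_mul_eq_one (b := -C.σ ζ₀) (by linear_combination -hζ₀))
      (sub_ne_zero.2 fun h => hc2 (by rw [← h, one_mul]))
  have hsupp : ∀ j k, k ≠ j → col j k = 0 := by
    intro j k hkj
    obtain ⟨i, hij, hik⟩ : ∃ i : Fin n, i ≠ j ∧ i ≠ k := by
      have h2 : ({j, k} : Finset (Fin n)).card < (Finset.univ : Finset (Fin n)).card := by
        rw [Finset.card_univ, Fintype.card_fin]
        exact lt_of_le_of_lt Finset.card_le_two (by omega)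
      obtain ⟨i, -, hi⟩ := Finset.exists_mem_notMem_of_card_lt_card h2
      simp only [Finset.mem_insert, Finset.mem_singleton, not_or] at hi
      exact ⟨i, hi.1, hi.2⟩
    obtain ⟨t, ht⟩ := hpairvec i j hij ζ₀ hζ₀
    obtain ⟨t', ht'⟩ := hpairvec i j hij _ hζ'
    have h1 := congrFun ht k
    have h2 := congrFun ht' k
    simp [hkj, Ne.symm hik] at h1 h2
    have h3 : (σ ζ₀ - σ (ζ₀ * c)) * col j k = 0 := by rw [map_mul σ]; linear_combination h1 - h2
    exact (mul_eq_zero.1 h3).resolve_left hζne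
  set t : Fin n → F := fun i => col i i with ht
  have hmul : ∀ (x : Fin n → F) r, (g.1.1 *ᵥ x) r = t r * x r := by
    intro x r
    rw [Matrix.mulVec, dotProduct, Finset.sum_eq_single r]
    · rw [ht, hcol]; simp
    · intro i _ hi
      have := hsupp i r hi.symm
      rw [hcol] at this
      simp at this
      rw [this, zero_mul]
    · simp
  have ht0 : ∀ r, t r ≠ 0 := by
    intro r h0
    have h1 : g.1.1 *ᵥ (Pi.single r 1) = 0 := funext fun k => by
      rw [hmul]
      by_cases hk : k = r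
      · rw [hk, h0, zero_mul]; rfl
      · simp [hk]
    have h2 := congrArg ((g.1⁻¹ : GL (Fin n) F).1 *ᵥ ·) h1
    simp only [Matrix.mulVec_mulVec, g.1.inv_mul, Matrix.one_mulVec, Matrix.mulVec_zero] at h2
    simpa using congrFun h2 r
  obtain ⟨o₁, o₂, o₃, h12, h13, h23⟩ : ∃ a b c : Fin n, a ≠ b ∧ a ≠ c ∧ b ≠ c :=
    ⟨⟨0, by omega⟩, ⟨1, by omega⟩, ⟨2, by omega⟩, by simp, by simp, by simp⟩
  have hiso : ∀ i j, i ≠ j → t j * σ ζ₀ = t i * ζ₀ := by
    intro i j hij
    obtain ⟨s, hs⟩ := hpairvec i j hij ζ₀ hζ₀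
    have hi := congrFun hs i
    have hj := congrFun hs j
    have h1 : col i j = 0 := hsupp i j hij.symm
    have h2 : col j i = 0 := hsupp j i hij
    simp [hij, hij.symm, h1, h2] at hi hj
    show col j j * σ ζ₀ = col i i * ζ₀
    rw [hi]; linear_combination hj
  have hζ0 : ζ₀ ≠ 0 := fun h0 => by rw [h0, zero_mul] at hζ₀; exact one_ne_zero (neg_eq_zero.1 hζ₀.symm)
  have hσζ : σ ζ₀ = ζ₀ := by
    have a := hiso o₁ o₂ h12
    have b := hiso o₂ o₃ h23
    have d := hiso o₁ o₃ h13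
    have h1 : t o₁ * ζ₀ * (σ ζ₀ - ζ₀) = 0 := by linear_combination ζ₀ * a + σ ζ₀ * b - σ ζ₀ * d
    exact sub_eq_zero.1 ((mul_eq_zero.1 h1).resolve_left (mul_ne_zero (ht0 _) hζ0))
  have hconst : ∀ i, t i = t o₁ := by
    intro i
    by_cases hi : i = o₁
    · rw [hi]
    have := hiso o₁ i (Ne.symm hi)
    rw [hσζ] at this
    exact mul_right_cancel₀ hζ0 this
  have hσ : σ = 1 := by
    refine RingEquiv.ext fun a => ?_
    obtain ⟨b, hb⟩ := CfsgLib.Forms.exists_mul_involution_eq C.ne_id C.invol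
      (c := -1 - a * C.σ a) (by rw [map_sub, map_neg, map_one, map_mul, C.invol, mul_comm (C.σ a)])
    obtain ⟨s, hs⟩ := key (Pi.single o₁ 1 + a • Pi.single o₂ 1 + b • Pi.single o₃ 1) (by
      simp only [herm_add_left, herm_add_right, herm_smul_left, herm_smul_right]
      simp [herm, Pi.single_apply, h12, h13, h23, h12.symm, h13.symm, h23.symm]
      linear_combination hb)
    have h1 := congrFun hs o₁
    have h2 := congrFun hs o₂
    rw [hmul] at h1 h2
    simp [h12, h13, h23, h12.symm, h13.symm, h23.symm, hconst o₂] at h1 h2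
    rw [← h1] at h2
    exact mul_left_cancel₀ (ht0 o₁) h2
  have hgd : g.1.1 = Matrix.diagonal fun _ => t o₁ := by
    refine Matrix.ext_iff_mulVec.2 fun x => funext fun r => ?_
    rw [hmul, Matrix.mulVec_diagonal, hconst]
  refine ⟨hσ, Units.mk0 _ (ht0 o₁), ?_, Units.ext (by rw [hgd]; rfl)⟩
  rw [mem_normOne]
  apply Units.ext
  have h1 := mem_GU_iff.1 g.2 (Pi.single o₁ 1) (Pi.single o₁ 1)
  rw [hermForm_eq, hgd] at h1
  simp [herm, Matrix.mulVec_diagonal, Pi.single_apply, apply_ite C.σ] at h1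
  rw [Units.val_pow_eq_pow_val, Units.val_mk0, Units.val_one, pow_succ', ← C.pow]
  linear_combination h1

theorem fieldSU_injective (hF : Fintype.card F = q ^ 2) (hn : 3 ≤ n) :
    Function.Injective (fieldSU (F := F) (n := n) (q := q)) := by
  rw [injective_iff_map_eq_one]
  intro σ hσ
  exact (semilinear_faithful hF hn (g := 1) (σ := σ) (by rw [map_one, one_mul, hσ])).1

theorem conjSU_eq_one_iff (hF : Fintype.card F = q ^ 2) (hn : 3 ≤ n) {g : ↥(Cfsg.GU n F q)} :
    conjSU g = 1 ↔ ∃ u : Fˣ, u ∈ normOne F q ∧ g.1 = Matrix.GeneralLinearGroup.scalar (Fin n) u := by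
  constructor
  · intro h
    exact (semilinear_faithful hF hn (σ := 1) (by rw [map_one, mul_one, h])).2
  · rintro ⟨u, -, hu⟩
    ext1 s
    apply Subtype.ext
    apply Subtype.ext
    rw [conjSU_coe, hu, MulAut.one_apply]
    have hval : ∀ v : Fˣ, ((Matrix.GeneralLinearGroup.scalar (Fin n) v : GL (Fin n) F)).1 = (v : F) • 1 :=
      fun v => by simp [Matrix.smul_one_eq_diagonal]
    have hu' := hval u
    have hu'' : ((Matrix.GeneralLinearGroup.scalar (Fin n) u)⁻¹ : GL (Fin n) F).1 = ((u⁻¹ : Fˣ) : F) • 1 := by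
      rw [← map_inv]; exact hval u⁻¹
    rw [hu', hu'']
    simp [smul_smul]

theorem commutator_SU_eq_top (hF : Fintype.card F = q ^ 2) (hn : 3 ≤ n) (hs : ¬ (n = 3 ∧ q = 2)) :
    commutator ↥(Cfsg.SU n F q) = ⊤ := by
  obtain ⟨C, rfl⟩ := exists_conjField q hF
  obtain ⟨m, rfl⟩ : ∃ m, n = 2 + (m + 1) := ⟨n - 3, by omega⟩
  let E : suG C (Fin 2 ⊕ Fin (m + 1)) ≃* Cfsg.SU (2 + (m + 1)) F C.q :=
    (reindexIso C finSumFinEquiv).trans (MulEquiv.subgroupCongr (suG_fin_eq C _))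
  have h := CfsgLib.Forms4.commutator_suG_eq_top C (κ := Fin (m + 1)) (by simp; omega)
  have h2 := congrArg (Subgroup.map E.toMonoidHom) h
  rw [Subgroup.map_top_of_surjective _ E.surjective, commutator_def, Subgroup.map_commutator,
    Subgroup.map_top_of_surjective _ E.surjective] at h2
  rw [commutator_def]
  exact h2

theorem toPSUAut_injective (hF : Fintype.card F = q ^ 2) (hn : 3 ≤ n) (hs : ¬ (n = 3 ∧ q = 2)) :
    Function.Injective (toPSUAut (F := F) (n := n) (q := q)) := by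
  rw [injective_iff_map_eq_one]
  intro α hα
  have hz : ∀ s, s⁻¹ * α s ∈ Subgroup.center ↥(Cfsg.SU n F q) := fun s => by
    rw [← QuotientGroup.eq]
    have := DFunLike.congr_fun hα (QuotientGroup.mk s)
    rw [toPSUAut_mk, MulAut.one_apply] at this
    exact this.symm
  let zh : ↥(Cfsg.SU n F q) →* Subgroup.center ↥(Cfsg.SU n F q) :=
    { toFun := fun s => ⟨_, hz s⟩
      map_one' := Subtype.ext (by simp)
      map_mul' := fun s t => Subtype.ext (by
        show (s * t)⁻¹ * α (s * t) = (s⁻¹ * α s) * (t⁻¹ * α t)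
        rw [map_mul, _root_.mul_inv_rev]
        calc t⁻¹ * s⁻¹ * (α s * α t) = t⁻¹ * (s⁻¹ * α s) * α t := by group
          _ = (s⁻¹ * α s) * t⁻¹ * α t := by rw [← Subgroup.mem_center_iff.1 (hz s) t⁻¹]
          _ = _ := by group) }
  have hker : commutator ↥(Cfsg.SU n F q) ≤ zh.ker := by
    rw [commutator_eq_closure, Subgroup.closure_le]
    rintro _ ⟨a, b, rfl⟩
    rw [SetLike.mem_coe, MonoidHom.mem_ker, map_commutatorElement, commutatorElement_eq_one_iff_mul_comm]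
    exact Subtype.ext (Subgroup.mem_center_iff.1 (zh b).2 _)
  refine MulEquiv.ext fun s => ?_
  have := hker (by rw [commutator_SU_eq_top hF hn hs]; exact Subgroup.mem_top s)
  have h1 : s⁻¹ * α s = 1 := congrArg Subtype.val (MonoidHom.mem_ker.1 this)
  rw [MulAut.one_apply]
  exact (inv_mul_eq_one.1 h1).symm

end CfsgLib.AutPSU
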