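import Cfsg.Agent.AutPSU.BarCentralizer

/-!
# Local balance at non-inner-diagonal automorphisms of prime order of `PSU_n(q)`
-/

set_option autoImplicit false
set_option linter.unusedSectionVars false

namespace CfsgLib.AutPSU

open Matrix CfsgLib.RepBounds.Unit
open CfsgLib.AutPSL (mapGL)

variable {F : Type*} [Field F] [Fintype F] {n : ℕ}

/-- An automorphism of prime order outside the inner-diagonal group has a field part of that order. -/
theorem orderOf_field_part {q : ℕ} (hF : Fintype.card F = q ^ 2) (hn : 3 ≤ n) (hs : ¬ (n = 3 ∧ q = 2))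
    {g : ↥(Cfsg.GU n F q)} {σ : F ≃+* F} {p : ℕ} [Fact p.Prime] (hord : orderOf (semiAut g σ) = p)
    (hσ1 : σ ≠ 1) : orderOf σ = p := by
  obtain ⟨gal, -, -, hgal⟩ := exists_galHom hF hn hs
  refine orderOf_eq_prime ?_ hσ1
  rw [← hgal g σ, ← map_pow, ← hord, pow_orderOf_eq_one, map_one]

/-- An involution of field type gives a form over the fixed field. -/
theorem exists_barData (C : ConjField F) (hn : 3 ≤ n) (h2 : (2 : F) ≠ 0) (g : ↥(Cfsg.GU n F C.q))
    (hg : semiAut g (barEquiv C) ^ 2 = 1) :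
    ∃ D : BarData C g, (∀ x y, D.B x y = D.B y x) ∨ D.B.IsAlt := by
  classical
  have hs := not_three_two C h2 (n := n)
  set σ := barEquiv C with hσ
  have hσ2 : σ * σ = 1 := RingEquiv.ext C.invol
  have hinv : ∀ A : GL (Fin n) F, mapGL σ (mapGL σ A) = A := fun A =>
    Units.ext (Matrix.ext fun i j => C.invol _)
  rw [pow_two, semiAut_mul, hσ2, semiAut, map_one, mul_one,
    map_eq_one_iff _ (toPSUAut_injective C.card hn hs)] at hg
  obtain ⟨c, hc1, hc⟩ := (conjSU_eq_one_iff C.card hn).1 hg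
  rw [Subgroup.coe_mul, mapGU_val] at hc
  have hcfix : C.σ (c : F) = c := by
    have h1 := congrArg (mapGL σ) hc
    rw [map_mul, hinv, mapGL_scalar] at h1
    have h3 : mapGL σ g.1 * g.1 = Matrix.GeneralLinearGroup.scalar (Fin n) c := by
      have hcom : g.1⁻¹ * Matrix.GeneralLinearGroup.scalar (Fin n) c =
          Matrix.GeneralLinearGroup.scalar (Fin n) c * g.1⁻¹ :=
        Subgroup.mem_center_iff.1 (by
          rw [Matrix.GeneralLinearGroup.center_eq_range_scalar]; exact ⟨_, rfl⟩) g.1⁻¹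
      rw [show mapGL σ g.1 = g.1⁻¹ * Matrix.GeneralLinearGroup.scalar (Fin n) c by rw [← hc]; group, hcom,
        mul_assoc, inv_mul_cancel, mul_one]
    rw [h3] at h1
    have h4 := congrArg (fun M : GL (Fin n) F => M.1 ⟨0, by omega⟩ ⟨0, by omega⟩) h1
    simp [σ, barEquiv_apply] at h4
    exact h4.symm
  have hcc : (c : F) * c = 1 := by
    have h1 := congrArg Units.val (mem_normOne.1 hc1)
    rwa [Units.val_pow_eq_pow_val, Units.val_one, pow_succ', ← C.pow, hcfix] at h1
  obtain ⟨l, hl⟩ := CfsgLib.Forms.exists_mul_involution_eq C.ne_id C.invol (c := (c : F)) hcfix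
  have hl0 : l ≠ 0 := fun h0 => c.ne_zero (by rw [← hl, h0, zero_mul])
  set M : GL (Fin n) F := Matrix.GeneralLinearGroup.scalar (Fin n) (Units.mk0 l hl0) * g.1 with hM
  have hMv : M.1 = l • g.1.1 := by
    rw [hM, Units.val_mul]
    simp [← Matrix.smul_eq_diagonal_mul]
  have hMM : M * mapGL σ M = 1 := by
    apply Units.ext
    rw [Units.val_mul, hMv, show (mapGL σ M).1 = C.σ l • (mapGL σ g.1).1 by
        rw [show (mapGL σ M).1 = M.1.map C.σ from rfl, hMv, show (mapGL σ g.1).1 = g.1.1.map C.σ from rfl]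
        ext i j; simp,
      Matrix.smul_mul, Matrix.mul_smul, smul_smul, hl, ← Units.val_mul, hc, Units.val_one]
    ext i j
    by_cases hij : i = j <;> simp [hij, hcc, Matrix.one_apply]
  obtain ⟨Q, hQ⟩ := CfsgLib.AutPSL.exists_eq_mul_map_inv (orderOf_barEquiv C) two_pos (g := M) (by
    rw [CfsgLib.AutPSL.twNorm_succ, CfsgLib.AutPSL.twNorm_succ, CfsgLib.AutPSL.twNorm_zero, map_one, mul_one, hMM])
  let v : (Fin n → CfsgLib.FixedField.fixedSub (barEquiv C)) → (Fin n → F) := fun x =>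
    Q.1 *ᵥ ((CfsgLib.FixedField.fixedSub (barEquiv C)).subtype ∘ x)
  have hvfix : ∀ x, M.1 *ᵥ (C.σ ∘ v x) = v x := by
    intro x
    show M.1 *ᵥ (C.σ ∘ (Q.1 *ᵥ _)) = Q.1 *ᵥ _
    rw [show C.σ ∘ (Q.1 *ᵥ ((CfsgLib.FixedField.fixedSub (barEquiv C)).subtype ∘ x)) =
      Q.1.map C.σ *ᵥ ((CfsgLib.FixedField.fixedSub (barEquiv C)).subtype ∘ x) from funext fun i => by
        rw [Function.comp_apply, RingHom.map_mulVec]
        congr 1
        exact funext fun j => bar_coe C _,
      Matrix.mulVec_mulVec, hQ, Units.val_mul, Matrix.mul_assoc,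
      show Q.1.map C.σ = (mapGL σ Q).1 from rfl, ← Units.val_mul (mapGL σ Q)⁻¹, inv_mul_cancel, Units.val_one,
      Matrix.mul_one]
  have hMh : ∀ a b : Fin n → F, herm C (M.1 *ᵥ a) (M.1 *ᵥ b) = c * herm C a b := by
    intro a b
    rw [hMv, Matrix.smul_mulVec, Matrix.smul_mulVec, herm_smul_left, herm_smul_right, ← mul_assoc, hl]
    congr 1
    have := mem_GU_iff.1 g.2 a b
    rwa [hermForm_eq] at this
  have hkey : ∀ x y, herm C (v x) (v y) = c * herm C (v y) (v x) := by
    intro x y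
    conv_lhs => rw [← hvfix x, ← hvfix y, hMh]
    congr 1
    rw [← conj_herm]
    simp [herm, mul_comm, C.invol]
  obtain ⟨δ, hδ, hδ0⟩ := C.exists_skew_ne
  obtain ⟨d, hd0, hd⟩ : ∃ d : F, d ≠ 0 ∧ C.σ d = c * d := by
    rcases mul_self_eq_one_iff.1 hcc with h | h
    · exact ⟨1, one_ne_zero, by rw [map_one, h, mul_one]⟩
    · exact ⟨δ, hδ0, by rw [C.skew_eq hδ, h, neg_one_mul]⟩
  have hfix : ∀ x y, C.σ (d * herm C (v x) (v y)) = d * herm C (v x) (v y) := by
    intro x y
    rw [map_mul, hd, conj_herm, hkey x y]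
    ring
  have vadd : ∀ x x', v (x + x') = v x + v x' := fun x x' => by
    show Q.1 *ᵥ _ = Q.1 *ᵥ _ + Q.1 *ᵥ _
    rw [← Matrix.mulVec_add]
    congr 1
  have vsmul : ∀ (a : CfsgLib.FixedField.fixedSub (barEquiv C)) x, v (a • x) = (a : F) • v x := fun a x => by
    show Q.1 *ᵥ _ = (a : F) • (Q.1 *ᵥ _)
    rw [← Matrix.mulVec_smul]
    congr 1
  let B : LinearMap.BilinForm (CfsgLib.FixedField.fixedSub (barEquiv C))
      (Fin n → CfsgLib.FixedField.fixedSub (barEquiv C)) :=
    LinearMap.mk₂ _ (fun x y => ⟨d * herm C (v x) (v y), hfix x y⟩)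
      (fun x x' y => Subtype.ext (by simp [vadd, herm_add_left, mul_add]))
      (fun a x y => Subtype.ext (by simp [vsmul, herm_smul_left]; ring))
      (fun x y y' => Subtype.ext (by simp [vadd, herm_add_right, mul_add]))
      (fun a x y => Subtype.ext (by simp [vsmul, herm_smul_right, bar_coe C a]; ring))
  refine ⟨⟨Q, l⁻¹, inv_ne_zero hl0, by rw [← hQ, hMv, smul_smul, inv_mul_cancel₀ hl0, one_smul], d, hd0, B,
    fun x y => rfl⟩, ?_⟩
  rcases mul_self_eq_one_iff.1 hcc with h | h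
  · refine Or.inl fun x y => Subtype.ext ?_
    show d * herm C (v x) (v y) = d * herm C (v y) (v x)
    rw [hkey, h, one_mul]
  · refine Or.inr fun x => Subtype.ext ?_
    show d * herm C (v x) (v x) = 0
    have h1 := hkey x x
    rw [h] at h1
    have h3 : (2 : F) * herm C (v x) (v x) = 0 := by linear_combination h1
    rw [(mul_eq_zero.1 h3).resolve_left h2, mul_zero]

end CfsgLib.AutPSU
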