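import Cfsg.Agent.AutPSU.Points

/-!
# Every automorphism of `PSU` is induced by a semilinear unitary map
-/

set_option autoImplicit false
set_option linter.unusedSectionVars false

namespace CfsgLib.AutPSU

open Matrix CfsgLib.RepBounds.Unit

variable {F : Type*} [Field F] [Fintype F] {C : ConjField F} {κ : Type*} [Fintype κ] [DecidableEq κ]
  [Nonempty κ]

local notation "ι" => Fin 2 ⊕ κ
local notation "G" => suG C ι
local notation "ee" => vE C κ
local notation "ff" => vF C κ

theorem eq_zero_of_fixed {x : F} (h : ∀ t : F, t * x - C.σ (t * x) = 0) : x = 0 := by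
  obtain ⟨b, hb⟩ := exists_not_fixed C
  have h1 := h 1
  rw [one_mul] at h1
  have h2 := h b
  rw [map_mul, ← sub_eq_zero.1 h1, ← sub_mul] at h2
  exact (mul_eq_zero.1 h2).resolve_left (sub_ne_zero.2 (Ne.symm hb))

theorem smul_valid {d : F} (hd : d ∈ C.skew) : C.σ d = -d := C.skew_eq hd

variable (p : ℕ) [Fact p.Prime] [CharP F p]

include p in
theorem uniEl_mk_inj {w w' : κ → F} {c c' : F} {hc : c + C.σ c + herm C w w = 0}
    {hc' : c' + C.σ c' + herm C w' w' = 0}
    (h : (QuotientGroup.mk (uniEl C w c hc) : PS C ι) = QuotientGroup.mk (uniEl C w' c' hc')) :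
    w = w' ∧ c = c' := by
  obtain ⟨k, hk⟩ := isPGroup_radE p ⟨_, uniEl_mem_radE hc⟩
  obtain ⟨j, hj⟩ := isPGroup_radE p ⟨_, uniEl_mem_radE hc'⟩
  exact uniEl_inj C (eq_of_mk_eq p (congrArg Subtype.val hk) (congrArg Subtype.val hj) h)

include p in
theorem map_central {β : MulAut (PS C ι)} (hβ : Sends β ee ee) {d : F} (hd : d ∈ C.skew) :
    ∃ d' hd', β (QuotientGroup.mk (uniEl C (0 : κ → F) d (skew_valid C hd))) =
      QuotientGroup.mk (uniEl C (0 : κ → F) d' (skew_valid C hd')) := by
  rcases eq_or_ne d 0 with rfl | hd0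
  · refine ⟨0, C.skew.zero_mem, ?_⟩
    rw [uniEl_zero C, QuotientGroup.mk_one, map_one]
  obtain ⟨-, -, c, g, hc, -, hg, hx⟩ :=
    hβ _ ⟨vE_ne_zero C, herm_vE_vE C, d, _, hd, hd0, isTransv_central C hd, rfl⟩
  exact ⟨c, hc, by rw [hx, hg.unique C (isTransv_central C hc)]⟩

include p in
theorem map_fixLines {β : MulAut (PS C ι)} (he : Sends β ee ee) (hf : Sends β ff ff) {g g' : G}
    (hg : FixLines C g) (h : β (QuotientGroup.mk g) = QuotientGroup.mk g') : FixLines C g' := by
  suffices key : ∀ v, v ≠ 0 → herm C v v = 0 → Sends β v v → (∃ a : F, app C g v = a • v) →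
      ∃ b : F, app C g' v = b • v from
    ⟨key ee (vE_ne_zero C) (herm_vE_vE C) he hg.1, key ff vF_ne_zero (herm_vF_vF C) hf hg.2⟩
  rintro v hv0 hv hs ⟨a, ha⟩
  have ha0 : a ≠ 0 := fun h0 => app_ne_zero g hv0 (by rw [ha, h0, zero_smul])
  obtain ⟨x, hx⟩ := exists_TP hv0 hv
  have h1 : TP C (MulAut.conj (QuotientGroup.mk g : PS C ι) x) v := by
    have := (hx.conj g).smul (inv_ne_zero ha0)
    rwa [ha, inv_smul_smul₀ ha0] at this
  have h2 := hs _ h1
  rw [MulAut.conj_apply, map_mul, map_mul, map_inv, h, ← MulAut.conj_apply] at h2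
  exact line_map p (1 : MulAut (PS C ι)) h2 h2 (by simpa using h2) (by simpa using (hs x hx).conj g')

theorem FixLines.phi_zero {g : G} : phi C g (0 : κ → F) = 0 := by
  simp [phi, actW, inW_zero, app]

/-- Rigidity: an automorphism fixing the Heisenberg quotient, its centre and the point of `f` is
trivial. -/
theorem rigid (h : Nontrivial κ ∨ 3 ≤ C.q) {δ : MulAut (PS C ι)} (hf : Sends δ ff ff)
    (he : Sends δ ee ee)
    (hz : ∀ d (hd : d ∈ C.skew), δ (QuotientGroup.mk (uniEl C (0 : κ → F) d (skew_valid C hd))) =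
      QuotientGroup.mk (uniEl C (0 : κ → F) d (skew_valid C hd)))
    (hw : ∀ (w : κ → F) (c : F) (hc : c + C.σ c + herm C w w = 0), ∃ c' hc',
      δ (QuotientGroup.mk (uniEl C w c hc)) = QuotientGroup.mk (uniEl C w c' hc')) : δ = 1 := by
  obtain ⟨p, hp⟩ := CharP.exists F
  have : Fact p.Prime :=
    ⟨(CharP.char_is_prime_or_zero F p).resolve_right (CharP.char_ne_zero_of_finite F p)⟩
  choose cf hcf hcf' using fun w => hw w _ (uniEl_validity C w)
  let z : (κ → F) → F := fun w => cf w - (-(herm C w w * tA C))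
  have hzs : ∀ w, z w ∈ C.skew := fun w => sub_mem_skew C (hcf w) (uniEl_validity C w)
  have hall : ∀ (w : κ → F) (c : F) (hc : c + C.σ c + herm C w w = 0), ∃ hc',
      δ (QuotientGroup.mk (uniEl C w c hc)) = QuotientGroup.mk (uniEl C w (c + z w) hc') := by
    intro w c hc
    have hc' : (c + z w) + C.σ (c + z w) + herm C w w = 0 := by
      rw [map_add, C.skew_eq (hzs w)]; linear_combination hc
    refine ⟨hc', ?_⟩
    rw [uniEl_eq_mul C hc (uniEl_validity C w) (sub_mem_skew C hc (uniEl_validity C w)),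
      QuotientGroup.mk_mul, map_mul, hcf' w, hz _ (sub_mem_skew C hc (uniEl_validity C w)),
      ← QuotientGroup.mk_mul, uniEl_mul]
    exact congrArg _ (uniEl_congr C _ _ (add_zero w) (by rw [herm_zero_left]; simp only [z]; ring))
  have hadd : ∀ w w', z (w + w') = z w + z w' := by
    intro w w'
    obtain ⟨_, h1⟩ := hall w _ (uniEl_validity C w)
    obtain ⟨_, h2⟩ := hall w' _ (uniEl_validity C w')
    obtain ⟨_, h3⟩ := hall _ _ (uniEl_valid_mul C (uniEl_validity C w) (uniEl_validity C w'))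
    rw [← uniEl_mul C (uniEl_validity C w) (uniEl_validity C w'), QuotientGroup.mk_mul, map_mul, h1, h2,
      ← QuotientGroup.mk_mul, uniEl_mul] at h3
    have := (uniEl_mk_inj p h3).2
    linear_combination -this
  have hequi : ∀ g : G, FixLines C g → ∀ w, z (phi C g w) = normN C g * z w := by
    intro g hg w
    obtain ⟨g', hg'⟩ := QuotientGroup.mk_surjective (δ (QuotientGroup.mk g))
    have hfix := map_fixLines p he hf hg hg'.symm
    obtain ⟨d, hd, hd0⟩ := C.exists_skew_ne
    obtain ⟨_, hgc⟩ := hg.conj_uniEl (skew_valid C hd)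
    obtain ⟨_, hgc'⟩ := hfix.conj_uniEl (skew_valid C hd)
    have hNd : normN C g * d ∈ C.skew := by
      rw [C.mem_skew, map_mul, C.skew_eq hd, normN, map_mul, C.invol]; ring
    rw [uniEl_congr C _ (skew_valid C hNd) FixLines.phi_zero rfl] at hgc
    have h1 := congrArg (fun x : G => δ (QuotientGroup.mk x)) hgc
    simp only [QuotientGroup.mk_mul, QuotientGroup.mk_inv, map_mul, map_inv, ← hg', hz d hd,
      hz _ hNd] at h1
    rw [← QuotientGroup.mk_inv, ← QuotientGroup.mk_mul, ← QuotientGroup.mk_mul, hgc'] at h1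
    have hN : normN C g' = normN C g := mul_right_cancel₀ hd0 (uniEl_mk_inj p h1).2
    obtain ⟨hc3, hgw⟩ := hg.conj_uniEl (uniEl_validity C w)
    obtain ⟨hc1, hdw⟩ := hall w _ (uniEl_validity C w)
    obtain ⟨_, hgw'⟩ := hfix.conj_uniEl hc1
    have h2 := congrArg (fun x : G => δ (QuotientGroup.mk x)) hgw
    obtain ⟨hc2, hdw2⟩ := hall (phi C g w) _ hc3
    simp only [QuotientGroup.mk_mul, QuotientGroup.mk_inv, map_mul, map_inv, ← hg', hdw, hdw2] at h2
    rw [← QuotientGroup.mk_inv, ← QuotientGroup.mk_mul, ← QuotientGroup.mk_mul, hgw'] at h2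
    have h3 := (uniEl_mk_inj p h2).2
    rw [hN] at h3
    linear_combination -h3
  -- the kernel of `z` is everything
  let zh : (κ → F) →+ F := AddMonoidHom.mk' z hadd
  have hzero : ∀ w, z w = 0 := by
    rcases subsingleton_or_nontrivial κ with hκ | hκ
    · obtain ⟨i₀⟩ := ‹Nonempty κ›
      obtain ⟨a, ha⟩ := exists_mult_not_fixed C (h.resolve_left (not_nontrivial κ))
      obtain ⟨w₀, hw₀, hw₀'⟩ : ∃ w₀, w₀ ≠ 0 ∧ z w₀ = 0 := by
        by_contra hne
        push Not at hne
        let f : (κ → F) → C.skew := fun w => ⟨z w, hzs w⟩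
        have hinj : Function.Injective f := fun u v huv => sub_eq_zero.1 (by
          by_contra hne'
          refine hne _ hne' ?_
          show zh (u - v) = 0
          rw [map_sub]
          exact sub_eq_zero.2 (congrArg Subtype.val huv))
        have hle := Nat.card_le_card_of_injective f hinj
        rw [C.card_skew, Nat.card_fun, Nat.card_eq_fintype_card, Nat.card_eq_fintype_card, C.card,
          ← pow_mul] at hle
        have h1 : 1 ≤ Fintype.card κ := Fintype.card_pos
        have h2 : C.q < C.q ^ (2 * Fintype.card κ) := lt_self_pow₀ C.two_le (by omega)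
        omega
      have hscal : ∀ (b : Fˣ) (w : κ → F), phi C (torEl C i₀ b) w = (C.σ (b : F) * C.σ b / b) • w := by
        intro b w
        funext k
        obtain rfl := Subsingleton.elim k i₀
        rw [phi_torEl]
        simp only [Pi.smul_apply, Pi.add_apply, Pi.single_eq_same, smul_eq_mul]
        ring
      have hfix : ∀ r : F, C.σ r = r → z (r • w₀) = 0 := by
        intro r hr
        by_cases hr0 : r = 0
        · subst hr0; rw [zero_smul]; exact map_zero zh
        have := hequi _ (fixLines_torEl i₀ (Units.mk0 r hr0)) w₀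
        rw [hscal, Units.val_mk0, hr, mul_div_cancel_right₀ _ hr0, hw₀', mul_zero] at this
        exact this
      set t := C.σ (a : F) * C.σ a / a with ht
      have hne : t - C.σ t ≠ 0 := sub_ne_zero.2 (Ne.symm ha)
      intro w
      have hw0i : w₀ i₀ ≠ 0 := fun h0 => hw₀ (funext fun k => by rw [Subsingleton.elim k i₀, h0]; rfl)
      set r := w i₀ / w₀ i₀ with hr
      have hwr : w = r • w₀ := funext fun k => by
        rw [Subsingleton.elim k i₀, Pi.smul_apply, smul_eq_mul, hr, div_mul_cancel₀ _ hw0i]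
      set b := (r - C.σ r) / (t - C.σ t) with hb
      have hbb : b * (t - C.σ t) = r - C.σ r := div_mul_cancel₀ _ hne
      have hb' : C.σ b = b := by
        rw [hb, map_div₀, map_sub, map_sub, C.invol, C.invol, ← neg_sub r, ← neg_sub t, neg_div_neg_eq]
      have ha' : C.σ (r - b * t) = r - b * t := by
        rw [map_sub, map_mul, hb']; linear_combination hbb
      have h1 : z (t • (b • w₀)) = 0 := by
        rw [ht, ← hscal, hequi _ (fixLines_torEl i₀ a), hfix b hb', mul_zero]
      rw [hwr, show r • w₀ = (r - b * t) • w₀ + t • (b • w₀) by rw [smul_smul, ← add_smul]; congr 1; ring,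
        hadd, hfix _ ha', h1, add_zero]
    · obtain ⟨c, hc, hc2⟩ := exists_norm_sq_ne C
      have hinv : ∀ (d : suG C κ) w, z (app C d w) = z w := fun d w => by
        rw [← phi_blockHom, hequi _ (fixLines_blockHom d), normN_blockHom, one_mul]
      have hc1 : c - 1 ≠ 0 := fun h => hc2 (by rw [sub_eq_zero.1 h, one_mul])
      intro w
      rw [← Finset.univ_sum_single w]
      show zh _ = 0
      rw [map_sum]
      refine Finset.sum_eq_zero fun i _ => ?_
      obtain ⟨j, hji⟩ := exists_ne i
      have h1 := hinv (diagPair C hji.symm c hc) (Pi.single i (w i / (c - 1)))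
      have h2 : app C (diagPair C hji.symm c hc) (Pi.single i (w i / (c - 1))) =
          Pi.single i (w i / (c - 1)) + Pi.single i (w i) := by
        funext k
        rw [app_diagPair, Pi.add_apply, Pi.single_apply, Pi.single_apply]
        by_cases hk : k = i
        · subst hk; simp [hji.symm]; field_simp; ring
        · simp [hk]
      rw [h2, hadd, add_eq_left] at h1
      exact h1
  -- the fixed subgroup contains the generators
  let K : Subgroup G := (MonoidHom.eqLocus δ.toMonoidHom (MonoidHom.id _)).comap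
    (QuotientGroup.mk' (Subgroup.center G))
  have hK : ∀ g, g ∈ K ↔ δ (QuotientGroup.mk g) = QuotientGroup.mk g := fun g => Iff.rfl
  have hKu : ∀ w c (hc : c + C.σ c + herm C w w = 0), uniEl C w c hc ∈ K := by
    intro w c hc
    obtain ⟨_, h1⟩ := hall w c hc
    rw [hK, h1]
    exact congrArg _ (uniEl_congr C _ _ rfl (by rw [hzero, add_zero]))
  have hKf : ∀ (T : G) (d : F), d ∈ C.skew → IsTransv C T ff d → T ∈ K := by
    intro T d hd hT
    rcases eq_or_ne d 0 with rfl | hd0
    · rw [hT.unique C (fun x => by simp [app_one] : IsTransv C (1 : G) ff 0)]; exact one_mem _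
    obtain ⟨-, -, d', T', hd', -, hT', hx⟩ :=
      hf _ ⟨vF_ne_zero, herm_vF_vF C, d, T, hd, hd0, hT, rfl⟩
    have hinv := C.inv_mem hd
    set u := uniEl C (0 : κ → F) d⁻¹ (skew_valid C hinv) with hu
    obtain ⟨e₀, he₀, he₀0⟩ := C.exists_skew_ne
    have hy : TP C (QuotientGroup.mk (uniEl C (0 : κ → F) e₀ (skew_valid C he₀)) : PS C ι) ee :=
      ⟨vE_ne_zero C, herm_vE_vE C, e₀, _, he₀, he₀0, isTransv_central C he₀, rfl⟩
    set y : PS C ι := QuotientGroup.mk (uniEl C (0 : κ → F) e₀ (skew_valid C he₀)) with hy'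
    have hTe : app C T ee = d • app C u ff := by
      rw [hT ee, herm_vE_vF, hu, app_uniEl_vF, inW_zero, add_zero, mul_one, smul_add, smul_smul,
        mul_inv_cancel₀ hd0, one_smul, add_comm]
    have h1 : TP C (MulAut.conj (QuotientGroup.mk u⁻¹ : PS C ι)
        (MulAut.conj (QuotientGroup.mk T : PS C ι) y)) ff := by
      have := ((hy.conj T).conj u⁻¹).smul (inv_ne_zero hd0)
      rwa [hTe, app_smul, app_inv_app, inv_smul_smul₀ hd0] at this
    have h2 := hf _ h1
    have hu' : δ (QuotientGroup.mk u) = QuotientGroup.mk u := hz _ hinv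
    simp only [MulAut.conj_apply] at h2
    simp only [map_mul, map_inv, hu', hx, hy', hz _ he₀, QuotientGroup.mk_inv] at h2
    rw [← hy'] at h2
    have h3 : TP C (MulAut.conj (QuotientGroup.mk T' : PS C ι) y) (app C u ff) := by
      have := h2.conj u
      simp only [MulAut.conj_apply] at this ⊢
      convert this using 1
      group
    obtain ⟨r, hr⟩ := line_map p (1 : MulAut (PS C ι)) h3 h3 (by simpa using h3)
      (by simpa using hy.conj T')
    rw [hT' ee, herm_vE_vF, mul_one, hu, app_uniEl_vF, inW_zero, add_zero] at hr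
    have h4 := congrArg (fun v => herm C v ee) hr
    have h5 := congrArg (fun v => herm C v ff) hr
    simp only [herm_add_left, herm_smul_left, herm_vE_vE, herm_vF_vE, herm_vE_vF, herm_vF_vF, mul_zero,
      add_zero, zero_add, mul_one] at h4 h5
    have hdd : d' = d := by
      rw [← h4] at h5
      field_simp at h5
      exact h5.symm
    have hTT : T' = T := IsTransv.unique C hT' (by rw [hdd]; exact hT)
    rw [hK, hx, hTT]
  have hKne : ∀ (T : G) (v : ι → F) (d : F), d ∈ C.skew → herm C v v = 0 → herm C v ee ≠ 0 →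
      IsTransv C T v d → T ∈ K := by
    intro T v d hd hv hve hT
    obtain ⟨u, hu, hu'⟩ := CfsgLib.Forms4.exists_translate C hv hve
    obtain ⟨w, c, hc, g', rfl⟩ := exists_eq_uniEl_mul C u hu
    generalize herm C v ee = r at hve hu'
    obtain ⟨b, hb⟩ := (fixLines_blockHom g').2
    have hb1 : b = 1 := by
      have := (fixLines_blockHom g').coef_mul hb
      rw [coefA_blockHom, one_mul] at this
      rw [← C.invol b, this, map_one]
    rw [app_mul, hb, hb1, one_smul] at hu'
    have h1 := hT.conj C (uniEl C w c hc)⁻¹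
    rw [hu', app_smul, app_inv_app, inv_inv] at h1
    have h2 := mul_mem (mul_mem (hKu w c hc) (hKf _ _ (by
      rw [C.mem_skew, map_mul, map_mul, C.invol, C.skew_eq hd]; ring) (IsTransv.smul_vec C h1)))
      (inv_mem (hKu w c hc))
    convert h2 using 1
    group
  have htop : K = ⊤ := by
    have hcond : ¬ (Fintype.card ι = 3 ∧ C.q = 2) := by
      rintro ⟨h1, h2⟩
      rcases h with h | h
      · have := Fintype.one_lt_card_iff_nontrivial.2 h
        simp at h1; omega
      · omega
    rw [eq_top_iff, ← transvs_eq_top C hcond, transvs, Subgroup.closure_le]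
    rintro T ⟨v, d, hv, hd, hT⟩
    rcases eq_or_ne v 0 with rfl | hv0
    · rw [show T = 1 from suG_ext C fun x => by rw [hT x, smul_zero, add_zero, app_one]]
      exact one_mem _
    by_cases hve : herm C v ee = 0
    swap
    · exact hKne T v d hd hv hve hT
    obtain ⟨y, hy, hvy, hey⟩ : ∃ y, herm C y y = 0 ∧ herm C v y ≠ 0 ∧ herm C ee y ≠ 0 := by
      by_cases hvf : herm C v ff = 0
      · have hd' : v = inW (v ∘ Sum.inr) := by
          conv_lhs => rw [decomp C v, hvf, hve, zero_smul, zero_smul, zero_add, zero_add]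
        have hw0 : v ∘ Sum.inr ≠ 0 := fun h0 => hv0 (by rw [hd', h0, inW_zero])
        obtain ⟨w', hw'⟩ := exists_herm_eq C hw0 1
        refine ⟨app C (uniW C w') ff, by rw [herm_app, herm_vF_vF], ?_, ?_⟩
        · rw [uniW, app_uniEl_vF, hd']
          simp only [herm_add_right, herm_smul_right, herm_inW_vF, herm_inW_vE, herm_inW, zero_add,
            mul_zero, add_zero]
          rw [← conj_herm C w', hw', map_one]
          exact one_ne_zero
        · nth_rewrite 1 [← app_uniEl_vE C w' _ (uniEl_validity C w')]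
          rw [uniW, herm_app, herm_vE_vF]
          exact one_ne_zero
      · exact ⟨ff, herm_vF_vF C, hvf, by rw [herm_vE_vF]; exact one_ne_zero⟩
    obtain ⟨e₀, he₀, he₀0⟩ := C.exists_skew_ne
    have hS := hKne _ y e₀ he₀ hy (fun h0 => hey (herm_eq_zero_comm h0)) (isTransv_transvEl C y e₀ hy he₀)
    set S := transvEl C y e₀ hy he₀
    have h1 := hKne _ (app C S v) d hd (by rw [herm_app, hv]) (by
      rw [isTransv_transvEl C y e₀ hy he₀ v, herm_add_left, herm_smul_left, hve, zero_add]
      exact mul_ne_zero (mul_ne_zero he₀0 hvy) fun h0 => hey (herm_eq_zero_comm h0)) (hT.conj C S)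
    have h2 := mul_mem (mul_mem (inv_mem hS) h1) hS
    rwa [show S⁻¹ * (S * T * S⁻¹) * S = T by group] at h2
  refine MulEquiv.ext fun x => ?_
  induction x using QuotientGroup.induction_on with
  | H g => exact (hK g).1 (htop ▸ Subgroup.mem_top g)

/-- An automorphism fixing the points of `e` and `f` is semilinear. -/
theorem exists_semi_of_sends (h : Nontrivial κ ∨ 3 ≤ C.q) (β : MulAut (PS C ι)) (he : Sends β ee ee)
    (hf : Sends β ff ff) :
    ∃ (g : Matrix ι ι F) (hg : IsUnitary C g) (θ : F ≃+* F), β = toPAut C (semiSU C g hg θ) := by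
  obtain ⟨p, hp⟩ := CharP.exists F
  have : Fact p.Prime :=
    ⟨(CharP.char_is_prime_or_zero F p).resolve_right (CharP.char_ne_zero_of_finite F p)⟩
  obtain ⟨he', hf'⟩ : Sends β⁻¹ ee ee ∧ Sends β⁻¹ ff ff :=
    ⟨he.inv p (vE_ne_zero C) (herm_vE_vE C), hf.inv p vF_ne_zero (herm_vF_vF C)⟩
  choose phiB cf hcf hcf' using fun w => exists_uniEl_map p he (uniEl_validity C w)
  have hmap : ∀ (w : κ → F) (c : F) (hc : c + C.σ c + herm C w w = 0), ∃ c' hc',
      β (QuotientGroup.mk (uniEl C w c hc)) = QuotientGroup.mk (uniEl C (phiB w) c' hc') := by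
    intro w c hc
    obtain ⟨d', hd', hd''⟩ := map_central p he (sub_mem_skew C hc (uniEl_validity C w))
    refine ⟨cf w + d', by rw [map_add, C.skew_eq hd']; linear_combination hcf w, ?_⟩
    rw [uniEl_eq_mul C hc (uniEl_validity C w) (sub_mem_skew C hc (uniEl_validity C w)),
      QuotientGroup.mk_mul, map_mul, hcf' w, hd'', ← QuotientGroup.mk_mul, uniEl_mul]
    exact congrArg _ (uniEl_congr C _ _ (add_zero _) (by rw [herm_zero_left]; ring))
  have hadd : ∀ w w', phiB (w + w') = phiB w + phiB w' := by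
    intro w w'
    obtain ⟨_, _, h1⟩ := hmap _ _ (uniEl_valid_mul C (uniEl_validity C w) (uniEl_validity C w'))
    rw [← uniEl_mul C (uniEl_validity C w) (uniEl_validity C w'), QuotientGroup.mk_mul, map_mul, hcf' w,
      hcf' w', ← QuotientGroup.mk_mul, uniEl_mul] at h1
    exact (uniEl_mk_inj p h1).1.symm
  let φ : (κ → F) →+ (κ → F) := AddMonoidHom.mk' phiB hadd
  have hinj : Function.Injective φ := by
    refine (injective_iff_map_eq_zero φ).2 fun w hw => ?_
    have hw' : phiB w = 0 := hw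
    have hcs : cf w ∈ C.skew := by
      have := hcf w
      rw [hw', herm_zero_left, add_zero] at this
      exact this
    obtain ⟨d, hd, hd'⟩ := map_central p he' hcs
    have h1 := congrArg (fun x => β⁻¹ x) (hcf' w)
    simp only [← MulAut.mul_apply, inv_mul_cancel, MulAut.one_apply] at h1
    rw [uniEl_congr C (hcf w) (skew_valid C hcs) hw' rfl, hd'] at h1
    exact (uniEl_mk_inj p h1).1
  have hsurj : Function.Surjective φ := Finite.injective_iff_surjective.1 hinj
  have hequi : ∀ g g' : G, FixLines C g → β (QuotientGroup.mk g) = QuotientGroup.mk g' →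
      FixLines C g' ∧ ∀ w, φ (phi C g w) = phi C g' (φ w) := by
    intro g g' hg hgg'
    have hfix := map_fixLines p he hf hg hgg'
    refine ⟨hfix, fun w => ?_⟩
    obtain ⟨hc3, hgw⟩ := hg.conj_uniEl (uniEl_validity C w)
    obtain ⟨_, hgw'⟩ := hfix.conj_uniEl (hcf w)
    obtain ⟨_, _, h1⟩ := hmap (phi C g w) _ hc3
    rw [← hgw, QuotientGroup.mk_mul, QuotientGroup.mk_mul, QuotientGroup.mk_inv, map_mul, map_mul,
      map_inv, hgg', hcf', ← QuotientGroup.mk_inv, ← QuotientGroup.mk_mul, ← QuotientGroup.mk_mul, hgw'] at h1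
    exact (uniEl_mk_inj p h1).1.symm
  let φe : (κ → F) ≃+ (κ → F) := AddEquiv.ofBijective φ ⟨hinj, hsurj⟩
  have hscalar : ∀ l : F, ∃ m : F, ∀ w, φ (l • w) = m • φ w := by
    intro l
    let T : (κ → F) →+ (κ → F) :=
      φ.comp ((DistribSMul.toAddMonoidHom (κ → F) l).comp φe.symm.toAddMonoidHom)
    obtain ⟨m, hm⟩ := scalar_of_commute C h T (fun g' hg' w => by
      obtain ⟨g, hgg'⟩ := QuotientGroup.mk_surjective (β⁻¹ (QuotientGroup.mk g'))
      have hfix := map_fixLines p he' hf' hg' hgg'.symm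
      have h1 : β (QuotientGroup.mk g) = QuotientGroup.mk g' := by
        rw [hgg', ← MulAut.mul_apply, mul_inv_cancel, MulAut.one_apply]
      obtain ⟨-, h2⟩ := hequi g g' hfix h1
      obtain ⟨v, rfl⟩ := hsurj w
      have h3 : φe.symm (φ v) = v := φe.symm_apply_apply v
      have h4 : φe.symm (phi C g' (φ v)) = phi C g v := by
        rw [← h2]; exact φe.symm_apply_apply _
      show φ (l • φe.symm (phi C g' (φ v))) = phi C g' (φ (l • φe.symm (φ v)))
      rw [h3, h4, ← h2, FixLines.phi_smul])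
    refine ⟨m, fun w => ?_⟩
    have := hm (φ w)
    show φ (l • w) = m • φ w
    rw [← this]
    show _ = φ (l • φe.symm (φ w))
    rw [show φe.symm (φ w) = w from φe.symm_apply_apply w]
  choose th hth using hscalar
  obtain ⟨i₀⟩ := ‹Nonempty κ›
  set w₀ : κ → F := Pi.single i₀ 1 with hw₀
  have hh₀ : herm C w₀ w₀ = 1 := by simp [hw₀, herm, Pi.single_apply]
  have hφ0 : φ w₀ ≠ 0 := fun h0 => one_ne_zero (α := F) (by
    have := hinj (h0.trans (map_zero φ).symm)
    rw [← hh₀, this, herm_zero_left])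
  let thh : F →+* F :=
    { toFun := th
      map_one' := smul_left_injective F hφ0 (show th 1 • φ w₀ = (1 : F) • φ w₀ by
        rw [← hth, one_smul, one_smul])
      map_mul' := fun a b => smul_left_injective F hφ0 (show th (a * b) • φ w₀ = (th a * th b) • φ w₀ by
        rw [← hth, mul_smul, mul_smul, hth, hth])
      map_zero' := smul_left_injective F hφ0 (show th 0 • φ w₀ = (0 : F) • φ w₀ by
        rw [← hth, zero_smul, zero_smul, map_zero])
      map_add' := fun a b => smul_left_injective F hφ0 (show th (a + b) • φ w₀ = (th a + th b) • φ w₀ by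
        rw [← hth, add_smul, add_smul, map_add, hth, hth]) }
  let θ : F ≃+* F := RingEquiv.ofBijective thh ⟨thh.injective, Finite.injective_iff_surjective.1 thh.injective⟩
  have hsemi : ∀ (l : F) w, φ (l • w) = θ l • φ w := hth
  set μ := herm C (φ w₀) (φ w₀) with hμ
  have hcomm : ∀ w w' (hd : herm C w w' - C.σ (herm C w w') ∈ C.skew),
      β (QuotientGroup.mk (uniEl C (0 : κ → F) _ (skew_valid C hd))) =
        QuotientGroup.mk (uniEl C (0 : κ → F) (herm C (φ w) (φ w') - C.σ (herm C (φ w) (φ w')))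
          (skew_valid C (C.sub_mem _))) := by
    intro w w' hd
    have h1 := congrArg (fun x : G => β (QuotientGroup.mk x))
      (uniEl_mul_comm C (uniEl_validity C w) (uniEl_validity C w') hd)
    simp only [QuotientGroup.mk_mul, map_mul, hcf'] at h1
    rw [← QuotientGroup.mk_mul, uniEl_mul_comm C (hcf w) (hcf w') (C.sub_mem _), QuotientGroup.mk_mul,
      QuotientGroup.mk_mul] at h1
    exact (mul_right_cancel h1).symm
  have hform : ∀ w w', herm C (φ w) (φ w') = μ * θ (herm C w w') := by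
    intro w w'
    refine sub_eq_zero.1 (eq_zero_of_fixed (C := C) fun t => ?_)
    obtain ⟨l, rfl⟩ := θ.surjective t
    have h1 := hcomm (l • w) w' (C.sub_mem _)
    have h2 := hcomm ((l * herm C w w') • w₀) w₀ (C.sub_mem _)
    simp only [herm_smul_left, hh₀, mul_one] at h1 h2
    have h3 := (uniEl_mk_inj p (h1.symm.trans h2)).2
    rw [hsemi, hsemi, herm_smul_left, herm_smul_left, ← hμ, map_mul θ] at h3
    simp only [map_mul, map_sub, mul_sub] at h3 ⊢
    linear_combination h3
  have hμ0 : μ ≠ 0 := by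
    intro h0
    refine hφ0 (eq_zero_of_herm C fun v => ?_)
    obtain ⟨u, rfl⟩ := hsurj v
    rw [hform, h0, zero_mul]
  obtain ⟨c, hc⟩ := CfsgLib.Forms.exists_mul_involution_eq C.ne_id C.invol
    (c := μ) (herm_self_fixed C _)
  have hc0 : c ≠ 0 := fun h0 => hμ0 (by rw [← hc, h0, zero_mul])
  have hσc : C.σ c ≠ 0 := (map_ne_zero C.σ).2 hc0
  -- the linear part
  let P : (ι → F) →ₗ[F] (ι → F) :=
    { toFun := fun x => θ (herm C (θ.symm ∘ x) ff) • (C.σ c • ee) +
        θ (herm C (θ.symm ∘ x) ee) • (c⁻¹ • ff) + inW (c⁻¹ • φ ((θ.symm ∘ x) ∘ Sum.inr))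
      map_add' := fun x y => by
        have h : θ.symm ∘ (x + y) = θ.symm ∘ x + θ.symm ∘ y := by funext i; simp
        rw [h, herm_add_left, herm_add_left, map_add, map_add, add_smul, add_smul,
          show (θ.symm ∘ x + θ.symm ∘ y) ∘ Sum.inr =
            (θ.symm ∘ x) ∘ Sum.inr + (θ.symm ∘ y) ∘ Sum.inr from rfl, map_add, smul_add, inW_add]
        abel
      map_smul' := fun r x => by
        have h : θ.symm ∘ (r • x) = θ.symm r • (θ.symm ∘ x) := by funext i; simp
        rw [h, herm_smul_left, herm_smul_left, map_mul, map_mul, θ.apply_symm_apply, mul_smul, mul_smul,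
          show (θ.symm r • (θ.symm ∘ x)) ∘ Sum.inr = θ.symm r • ((θ.symm ∘ x) ∘ Sum.inr) from rfl, hsemi,
          θ.apply_symm_apply, smul_comm c⁻¹ r, inW_smul, RingHom.id_apply, smul_add, smul_add] }
  set g := LinearMap.toMatrix' P with hg'
  set Γ : (ι → F) → ι → F := fun x => g *ᵥ (θ ∘ x) with hΓ'
  have hΓ : ∀ x, Γ x = θ (herm C x ff) • (C.σ c • ee) + θ (herm C x ee) • (c⁻¹ • ff) +
      inW (c⁻¹ • φ (x ∘ Sum.inr)) := by
    intro x
    show g *ᵥ (θ ∘ x) = _
    rw [hg', LinearMap.toMatrix'_mulVec]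
    simp only [P, LinearMap.coe_mk, AddHom.coe_mk]
    rw [show θ.symm ∘ (θ ∘ x) = x by funext i; simp]
  have hherm : ∀ x y, herm C (Γ x) (Γ y) = θ (herm C x y) := by
    intro x y
    have hxy : herm C x y = herm C x ff * C.σ (herm C y ee) + herm C x ee * C.σ (herm C y ff) +
        herm C (x ∘ Sum.inr) (y ∘ Sum.inr) := by
      conv_lhs => rw [decomp C x, decomp C y]
      simp only [herm_add_left, herm_add_right, herm_smul_left, herm_smul_right, herm_vE_vE, herm_vE_vF,
        herm_vF_vE, herm_vF_vF, herm_vE_inW, herm_vF_inW, herm_inW_vE, herm_inW_vF, herm_inW]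
      ring
    rw [hΓ, hΓ, hxy]
    simp only [herm_add_left, herm_add_right, herm_smul_left, herm_smul_right, herm_vE_vE, herm_vE_vF,
      herm_vF_vE, herm_vF_vF, herm_vE_inW, herm_vF_inW, herm_inW_vE, herm_inW_vF, herm_inW, hform,
      map_add, map_mul, map_inv₀, ← conj_field, C.invol, ← hc]
    field_simp
    ring
  have hg : IsUnitary C g := fun u v => by
    have := hherm (θ.symm ∘ u) (θ.symm ∘ v)
    simp only [hΓ', comp_symm] at this
    rw [this, ← herm_map, comp_symm, comp_symm]
  refine ⟨g, hg, θ, ?_⟩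
  set γ := toPAut C (semiSU C g hg θ) with hγ
  have hΓadd : ∀ x y, Γ (x + y) = Γ x + Γ y := fun x y => by
    show g *ᵥ (θ ∘ (x + y)) = _
    rw [show θ ∘ (x + y) = θ ∘ x + θ ∘ y by funext i; simp, Matrix.mulVec_add]
  have hΓsmul : ∀ (r : F) x, Γ (r • x) = θ r • Γ x := fun r x => by
    show g *ᵥ (θ ∘ (r • x)) = _
    rw [show θ ∘ (r • x) = θ r • (θ ∘ x) by funext i; simp, Matrix.mulVec_smul]
  have hΓs : Function.Surjective Γ := fun y => ⟨θ.symm ∘ (g⁻¹ *ᵥ y), by
    show g *ᵥ (θ ∘ (θ.symm ∘ (g⁻¹ *ᵥ y))) = y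
    rw [comp_symm, Matrix.mulVec_mulVec, Matrix.mul_nonsing_inv g hg.isUnit_det, Matrix.one_mulVec]⟩
  have hΓe : Γ ee = C.σ c • ee := by
    rw [hΓ, herm_vE_vF, herm_vE_vE, map_one, map_zero, one_smul, zero_smul, add_zero, vE_inr,
      map_zero, smul_zero, inW_zero, add_zero]
  have hΓf : Γ ff = c⁻¹ • ff := by
    rw [hΓ, herm_vF_vF, herm_vF_vE, map_one, map_zero, one_smul, zero_smul, zero_add,
      show (ff : ι → F) ∘ Sum.inr = 0 from rfl, map_zero, smul_zero, inW_zero, add_zero]
  have hΓW : ∀ w, Γ (inW w) = inW (c⁻¹ • φ w) := fun w => by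
    rw [hΓ, herm_inW_vF, herm_inW_vE, map_zero, zero_smul, zero_smul, zero_add, zero_add, inr_inW]
  have hγu : ∀ (w : κ → F) (d : F) (hd : d + C.σ d + herm C w w = 0), ∃ hd',
      γ (QuotientGroup.mk (uniEl C w d hd)) = QuotientGroup.mk (uniEl C (φ w) (μ * θ d) hd') := by
    intro w d hd
    obtain ⟨hd', h1⟩ := semi_uniEl C Γ θ hΓadd hΓsmul hherm hΓs hΓe _ hΓW hd
      (semiSU C g hg θ (uniEl C w d hd)) (app_semiSU C g hg θ _)
    have hμc : C.σ c * C.σ (C.σ c) = μ := by rw [C.invol, mul_comm, hc]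
    refine ⟨by
      rw [hform, map_mul, herm_self_fixed, ← conj_field]
      have h2 := congrArg θ hd
      rw [map_add, map_add, map_zero] at h2
      linear_combination μ * h2, ?_⟩
    rw [hγ, toPAut_mk, h1]
    exact congrArg _ (uniEl_congr C _ _ (by rw [C.invol, smul_inv_smul₀ hc0]) (by rw [hμc]))
  have hγT : ∀ (v : ι → F) (r : F), r ≠ 0 → Γ v = r • v → Sends γ v v := by
    intro v r hr hv x hx
    obtain ⟨hv0, hvv, d, T, hd, hd0, hT, rfl⟩ := hx
    have h1 : TP C (γ (QuotientGroup.mk T)) (r • v) := by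
      refine ⟨smul_ne_zero hr hv0, by rw [herm_smul_left, herm_smul_right, hvv, mul_zero, mul_zero],
        θ d, semiSU C g hg θ T, ?_, by simpa using hd0, ?_, rfl⟩
      · rw [C.mem_skew, ← conj_field, ← map_add, C.mem_skew.1 hd, map_zero]
      · intro y
        obtain ⟨z, rfl⟩ := hΓs y
        show app C (semiSU C g hg θ T) (g *ᵥ (θ ∘ z)) = _
        rw [app_semiSU]
        show Γ (app C T z) = Γ z + _
        rw [hT z, hΓadd, hΓsmul, map_mul, ← hherm z v, hv]
    have := h1.smul (inv_ne_zero hr)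
    rwa [inv_smul_smul₀ hr] at this
  have hγe : Sends γ ee ee := hγT ee _ hσc hΓe
  have hγf : Sends γ ff ff := hγT ff _ (inv_ne_zero hc0) hΓf
  have hγe' := hγe.inv p (vE_ne_zero C) (herm_vE_vE C)
  have hγf' := hγf.inv p vF_ne_zero (herm_vF_vF C)
  suffices hδ : γ⁻¹ * β = 1 from (inv_mul_eq_one.1 hδ).symm
  refine rigid h (fun x hx => hγf' _ (hf x hx)) (fun x hx => hγe' _ (he x hx)) ?_ ?_
  · intro d hd
    obtain ⟨s, hs⟩ := C.exists_sub_eq hd
    have h1 := hcomm (s • w₀) w₀ (C.sub_mem _)
    simp only [herm_smul_left, hh₀, mul_one, hsemi, ← hμ] at h1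
    obtain ⟨_, h2⟩ := hγu 0 d (skew_valid C hd)
    rw [MulAut.mul_apply, uniEl_congr C (skew_valid C hd) (skew_valid C (C.sub_mem s)) rfl hs.symm, h1,
      ← uniEl_congr C (skew_valid C hd) (skew_valid C (C.sub_mem s)) rfl hs.symm]
    apply γ.injective
    rw [← MulAut.mul_apply, mul_inv_cancel, MulAut.one_apply, h2]
    refine congrArg _ (uniEl_congr C _ _ (map_zero φ).symm ?_)
    rw [← hs, map_mul, herm_self_fixed, map_sub, conj_field]
    ring
  · intro w d hd
    obtain ⟨d', hd', h1⟩ := hmap w d hd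
    have hθ : θ (θ.symm (d' / μ)) = d' / μ := θ.apply_symm_apply _
    have hd'' : θ.symm (d' / μ) + C.σ (θ.symm (d' / μ)) + herm C w w = 0 := by
      apply θ.injective
      have hσμ : C.σ μ = μ := herm_self_fixed C _
      rw [map_add, map_add, map_zero, conj_field, hθ, map_div₀, hσμ]
      have h2 : herm C (φ w) (φ w) = μ * θ (herm C w w) := hform w w
      have h3 : d' + C.σ d' + μ * θ (herm C w w) = 0 := by rw [← h2]; exact hd'
      rw [← add_div, div_add' _ _ _ hμ0, div_eq_zero_iff]
      left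
      linear_combination h3
    obtain ⟨_, h2⟩ := hγu w _ hd''
    refine ⟨_, hd'', ?_⟩
    apply γ.injective
    rw [MulAut.mul_apply, h1, ← MulAut.mul_apply, mul_inv_cancel, MulAut.one_apply, h2]
    exact congrArg _ (uniEl_congr C _ _ rfl (by rw [hθ, mul_div_cancel₀ _ hμ0]))

/-- **Every automorphism of `PSU` is induced by a semilinear unitary map.** -/
theorem exists_induces (h : Nontrivial κ ∨ 3 ≤ C.q) (β : MulAut (PS C ι)) :
    ∃ (g : Matrix ι ι F) (θ : F ≃+* F), IsUnitary C g ∧ Induces C g θ β := by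
  obtain ⟨p, hp⟩ := CharP.exists F
  have : Fact p.Prime :=
    ⟨(CharP.char_is_prime_or_zero F p).resolve_right (CharP.char_ne_zero_of_finite F p)⟩
  obtain ⟨t, he, hf⟩ := exists_normalise p β
  obtain ⟨g, hg, θ, hγ⟩ := exists_semi_of_sends h _ he hf
  exact ⟨_, θ, (isUnitary_coe t⁻¹).mul hg, Induces.of_conj C t (hγ ▸ induces_semiSU C g hg θ)⟩

end CfsgLib.AutPSU
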