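import Cfsg.Agent.Forms4.UnitarySimple

/-!
# Semilinear unitary maps acting on `SU` and on the Heisenberg group
-/

set_option autoImplicit false
set_option linter.unusedSectionVars false

namespace CfsgLib.AutPSU

open Matrix CfsgLib.RepBounds.Unit

variable {F : Type*} [Field F] [Fintype F] (C : ConjField F)

theorem conj_field (θ : F ≃+* F) (a : F) : θ (C.σ a) = C.σ (θ a) := by rw [C.pow, C.pow, map_pow]

theorem conj_eq_zero {a : F} : C.σ a = 0 ↔ a = 0 := map_eq_zero C.σ

section general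

variable {ι : Type*} [Fintype ι]

theorem herm_map (θ : F ≃+* F) (u v : ι → F) : herm C (θ ∘ u) (θ ∘ v) = θ (herm C u v) := by
  simp [herm, conj_field]

variable [DecidableEq ι]

theorem eq_zero_of_herm {u : ι → F} (h : ∀ v, herm C v u = 0) : u = 0 := by
  by_contra hu
  obtain ⟨v, hv⟩ := exists_herm_eq C hu 1
  exact one_ne_zero (hv.symm.trans (h v))

theorem map_mulVec (θ : F ≃+* F) (A : Matrix ι ι F) (x : ι → F) :
    A.map θ *ᵥ (θ ∘ x) = θ ∘ (A *ᵥ x) :=
  funext fun i => (RingHom.map_mulVec θ.toRingHom A x i).symm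

theorem comp_symm (θ : F ≃+* F) (x : ι → F) : θ ∘ (θ.symm ∘ x) = x := by
  funext i; simp

/-- A matrix preserving the Hermitian form. -/
def IsUnitary (g : Matrix ι ι F) : Prop := ∀ u v, herm C (g *ᵥ u) (g *ᵥ v) = herm C u v

variable {C}

theorem IsUnitary.isUnit {g : Matrix ι ι F} (hg : IsUnitary C g) : IsUnit g := by
  rw [← Matrix.mulVec_injective_iff_isUnit]
  intro u v h
  refine sub_eq_zero.1 (eq_zero_of_herm C fun w => ?_)
  rw [← hg w, Matrix.mulVec_sub, sub_eq_zero.2 h, herm_zero_right]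

theorem IsUnitary.isUnit_det {g : Matrix ι ι F} (hg : IsUnitary C g) : IsUnit g.det :=
  (Matrix.isUnit_iff_isUnit_det g).1 hg.isUnit

theorem IsUnitary.mul {g g' : Matrix ι ι F} (hg : IsUnitary C g) (hg' : IsUnitary C g') :
    IsUnitary C (g * g') := fun u v => by
  rw [← Matrix.mulVec_mulVec, ← Matrix.mulVec_mulVec, hg, hg']

theorem IsUnitary.inv {g : Matrix ι ι F} (hg : IsUnitary C g) : IsUnitary C g⁻¹ := fun u v => by
  rw [← hg, Matrix.mulVec_mulVec, Matrix.mulVec_mulVec, Matrix.mul_nonsing_inv g hg.isUnit_det,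
    Matrix.one_mulVec, Matrix.one_mulVec]

theorem IsUnitary.map {g : Matrix ι ι F} (hg : IsUnitary C g) (θ : F ≃+* F) :
    IsUnitary C (g.map θ) := fun u v => by
  rw [← comp_symm θ u, ← comp_symm θ v, map_mulVec, map_mulVec, herm_map, herm_map, hg]

theorem isUnitary_coe (s : suG C ι) : IsUnitary C s.1.1 := s.2

variable (C)

/-- The automorphism of `SU` given by `s ↦ g θ(s) g⁻¹`. -/
noncomputable def semiSU (g : Matrix ι ι F) (hg : IsUnitary C g) (θ : F ≃+* F) :
    MulAut (suG C ι) where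
  toFun s := ⟨⟨g * s.1.1.map θ * g⁻¹, by
      have h : (s.1.1.map θ).det = 1 := by
        rw [show s.1.1.map θ = θ.toRingHom.mapMatrix s.1.1 from rfl, ← RingHom.map_det, s.1.2, map_one]
      rw [Matrix.det_mul, Matrix.det_mul, h, mul_one, ← Matrix.det_mul,
        Matrix.mul_nonsing_inv g hg.isUnit_det, Matrix.det_one]⟩,
    (hg.mul ((isUnitary_coe s).map θ)).mul hg.inv⟩
  invFun s := ⟨⟨(g⁻¹ * s.1.1 * g).map θ.symm, by
      rw [show (g⁻¹ * s.1.1 * g).map θ.symm = θ.symm.toRingHom.mapMatrix (g⁻¹ * s.1.1 * g) from rfl,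
        ← RingHom.map_det, Matrix.det_mul, Matrix.det_mul, s.1.2, mul_one, ← Matrix.det_mul,
        Matrix.nonsing_inv_mul g hg.isUnit_det, Matrix.det_one, map_one]⟩,
    ((hg.inv.mul (isUnitary_coe s)).mul hg).map θ.symm⟩
  left_inv s := by
    refine Subtype.ext (Subtype.ext ?_)
    show (g⁻¹ * (g * s.1.1.map θ * g⁻¹) * g).map θ.symm = s.1.1
    simp only [Matrix.mul_assoc, Matrix.nonsing_inv_mul g hg.isUnit_det, Matrix.mul_one]
    rw [← Matrix.mul_assoc, Matrix.nonsing_inv_mul g hg.isUnit_det, Matrix.one_mul]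
    ext i j; simp
  right_inv s := by
    refine Subtype.ext (Subtype.ext ?_)
    show g * ((g⁻¹ * s.1.1 * g).map θ.symm).map θ * g⁻¹ = s.1.1
    have h : ((g⁻¹ * s.1.1 * g).map θ.symm).map θ = g⁻¹ * s.1.1 * g := by
      ext i j; exact θ.apply_symm_apply _
    rw [h]
    simp only [Matrix.mul_assoc, Matrix.mul_nonsing_inv g hg.isUnit_det, Matrix.mul_one]
    rw [← Matrix.mul_assoc, Matrix.mul_nonsing_inv g hg.isUnit_det, Matrix.one_mul]
  map_mul' s t := by
    refine Subtype.ext (Subtype.ext ?_)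
    show g * (s.1.1 * t.1.1).map θ * g⁻¹ = (g * s.1.1.map θ * g⁻¹) * (g * t.1.1.map θ * g⁻¹)
    rw [Matrix.map_mul]
    simp only [Matrix.mul_assoc]
    rw [← Matrix.mul_assoc g⁻¹ g, Matrix.nonsing_inv_mul g hg.isUnit_det, Matrix.one_mul]

theorem semiSU_val (g : Matrix ι ι F) (hg : IsUnitary C g) (θ : F ≃+* F) (s : suG C ι) :
    (semiSU C g hg θ s).1.1 = g * s.1.1.map θ * g⁻¹ := rfl

theorem app_semiSU (g : Matrix ι ι F) (hg : IsUnitary C g) (θ : F ≃+* F) (s : suG C ι) (x : ι → F) :
    app C (semiSU C g hg θ s) (g *ᵥ (θ ∘ x)) = g *ᵥ (θ ∘ app C s x) := by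
  show (g * s.1.1.map θ * g⁻¹) *ᵥ _ = g *ᵥ (θ ∘ (s.1.1 *ᵥ x))
  rw [Matrix.mulVec_mulVec, Matrix.mul_assoc, Matrix.nonsing_inv_mul g hg.isUnit_det, Matrix.mul_one,
    ← Matrix.mulVec_mulVec, map_mulVec]

/-- The projective group. -/
abbrev PS (ι : Type*) [Fintype ι] [DecidableEq ι] : Type _ := suG C ι ⧸ Subgroup.center (suG C ι)

/-- The automorphism of the projective group induced by one of `SU`. -/
def toPAut : MulAut (suG C ι) →* MulAut (PS C ι) where
  toFun α := QuotientGroup.congr _ _ α (Subgroup.characteristic_iff_map_eq.1 inferInstance α)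
  map_one' := by
    ext1 x
    induction x using QuotientGroup.induction_on
    rfl
  map_mul' α β := by
    ext1 x
    induction x using QuotientGroup.induction_on
    rfl

@[simp] theorem toPAut_mk (α : MulAut (suG C ι)) (s : suG C ι) :
    toPAut C α (QuotientGroup.mk s) = QuotientGroup.mk (α s) := rfl

/-- `β` is induced by the semilinear map `v ↦ g θ(v)`. -/
def Induces (g : Matrix ι ι F) (θ : F ≃+* F) (β : MulAut (PS C ι)) : Prop :=
  ∀ s s' : suG C ι, s'.1.1 * g = g * s.1.1.map θ → β (QuotientGroup.mk s) = QuotientGroup.mk s'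

theorem induces_semiSU (g : Matrix ι ι F) (hg : IsUnitary C g) (θ : F ≃+* F) :
    Induces C g θ (toPAut C (semiSU C g hg θ)) := by
  intro s s' hs
  rw [toPAut_mk]
  congr 1
  refine Subtype.ext (Subtype.ext ?_)
  rw [semiSU_val, ← hs, Matrix.mul_assoc, Matrix.mul_nonsing_inv g hg.isUnit_det, Matrix.mul_one]

theorem Induces.of_conj {g : Matrix ι ι F} {θ : F ≃+* F} {β : MulAut (PS C ι)} (t : suG C ι)
    (h : Induces C g θ (MulAut.conj (QuotientGroup.mk t : PS C ι) * β)) :
    Induces C (t⁻¹.1.1 * g) θ β := by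
  intro s s' hs
  have h1 : t.1.1 * t⁻¹.1.1 = 1 := congrArg (fun x : suG C ι => x.1.1) (mul_inv_cancel t)
  have := h s (t * s' * t⁻¹) (by
    show t.1.1 * s'.1.1 * t⁻¹.1.1 * g = g * s.1.1.map θ
    rw [Matrix.mul_assoc (t.1.1 * s'.1.1), Matrix.mul_assoc t.1.1, hs, ← Matrix.mul_assoc t.1.1,
      ← Matrix.mul_assoc t.1.1 t⁻¹.1.1, h1, Matrix.one_mul])
  rw [MulAut.mul_apply, MulAut.conj_apply, QuotientGroup.mk_mul, QuotientGroup.mk_mul, QuotientGroup.mk_inv] at this
  exact mul_left_cancel (mul_right_cancel this)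

theorem IsTransv.mul {g g' : suG C ι} {v : ι → F} {c c' : F} (hv : herm C v v = 0) (h : IsTransv C g v c)
    (h' : IsTransv C g' v c') : IsTransv C (g * g') v (c + c') := fun x => by
  rw [app_mul, h', app_add, app_smul, h x, h v, hv, mul_zero, zero_smul, add_zero]
  module

theorem IsTransv.one_zero (v : ι → F) : IsTransv C (1 : suG C ι) v 0 := fun x => by simp [app_one]

theorem IsTransv.pow {g : suG C ι} {v : ι → F} {c : F} (hv : herm C v v = 0) (h : IsTransv C g v c) :
    ∀ n : ℕ, IsTransv C (g ^ n) v ((n : F) * c)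
  | 0 => by rw [pow_zero, Nat.cast_zero, zero_mul]; exact IsTransv.one_zero C v
  | n + 1 => by
    rw [pow_succ, Nat.cast_succ, add_mul, one_mul]
    exact IsTransv.mul C hv (IsTransv.pow hv h n) h

theorem IsTransv.pow_char {g : suG C ι} {v : ι → F} {c : F} (p : ℕ) [CharP F p]
    (hv : herm C v v = 0) (h : IsTransv C g v c) : g ^ p = 1 := by
  have h1 := IsTransv.pow C hv h p
  rw [CharP.cast_eq_zero, zero_mul] at h1
  exact h1.unique C (IsTransv.one_zero C v)

theorem line_of_isTransv {g : suG C ι} {v w : ι → F} {c d : F} (hc : c ≠ 0) (hv : v ≠ 0)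
    (h : IsTransv C g v c) (h' : IsTransv C g w d) : ∃ r : F, v = r • w := by
  obtain ⟨x, hx⟩ := exists_herm_eq C hv 1
  have h1 := (h x).symm.trans (h' x)
  rw [add_right_inj, hx, mul_one] at h1
  exact ⟨c⁻¹ * (d * herm C x w), by rw [mul_smul, ← h1, inv_smul_smul₀ hc]⟩

theorem IsTransv.ne_one {g : suG C ι} {v : ι → F} {c : F} (hc : c ≠ 0) (hv : v ≠ 0)
    (h : IsTransv C g v c) : g ≠ 1 := by
  rintro rfl
  obtain ⟨r, hr⟩ := line_of_isTransv C hc hv h (IsTransv.one_zero C 0)
  exact hv (by rw [hr, smul_zero])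

theorem IsTransv.smul_vec {g : suG C ι} {v : ι → F} {c r : F} (h : IsTransv C g (r • v) c) :
    IsTransv C g v (c * r * C.σ r) := fun x => by
  rw [h x, herm_smul_right, smul_smul]
  congr 2
  ring

end general

section split

variable {κ : Type*} [Fintype κ] [DecidableEq κ]

local notation "ι" => Fin 2 ⊕ κ
local notation "G" => suG C ι
local notation "ee" => vE C κ
local notation "ff" => vF C κ

omit [DecidableEq κ] in
theorem inr_inW (w : κ → F) : (inW w : ι → F) ∘ Sum.inr = w := rfl

omit [DecidableEq κ] in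
theorem inW_injective : Function.Injective (inW (F := F) (κ := κ)) := fun a b h => by
  rw [← inr_inW a, h, inr_inW]

omit [DecidableEq κ] in
theorem vE_inr : (ee : ι → F) ∘ Sum.inr = 0 := rfl

theorem vE_ne_zero : (ee : ι → F) ≠ 0 := fun h => by
  have := herm_vE_vF C (κ := κ)
  rw [h, herm_zero_left] at this
  exact zero_ne_one this

theorem uniEl_inj {w w' : κ → F} {c c' : F} {hc : c + C.σ c + herm C w w = 0}
    {hc' : c' + C.σ c' + herm C w' w' = 0} (h : uniEl C w c hc = uniEl C w' c' hc') :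
    w = w' ∧ c = c' := by
  have h1 := congrArg (fun g => app C g ff) h
  simp only [app_uniEl_vF, add_assoc, add_right_inj] at h1
  constructor
  · funext j
    simpa [inW, vE] using congrFun h1 (Sum.inr j)
  · have := congrArg (fun z => herm C z ff) h1
    simpa [herm_add_left, herm_inW_vF, herm_smul_left, herm_vE_vF] using this

theorem uniEl_validity (w : κ → F) :
    -(herm C w w * tA C) + C.σ (-(herm C w w * tA C)) + herm C w w = 0 := by
  rw [map_neg, map_mul, herm_self_fixed]
  linear_combination (-herm C w w) * tA_spec C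

/-- A Heisenberg element over a given `w`. -/
noncomputable def uniW (w : κ → F) : G := uniEl C w _ (uniEl_validity C w)

theorem uniEl_eq_mul {w : κ → F} {c c₀ : F} (hc : c + C.σ c + herm C w w = 0)
    (hc₀ : c₀ + C.σ c₀ + herm C w w = 0) (hd : c - c₀ ∈ C.skew) :
    uniEl C w c hc = uniEl C w c₀ hc₀ * uniEl C 0 (c - c₀) (skew_valid C hd) := by
  rw [uniEl_mul]
  exact uniEl_congr C _ _ (add_zero w).symm (by rw [herm_zero_left]; ring)

theorem sub_mem_skew {w : κ → F} {c c₀ : F} (hc : c + C.σ c + herm C w w = 0)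
    (hc₀ : c₀ + C.σ c₀ + herm C w w = 0) : c - c₀ ∈ C.skew := by
  rw [C.mem_skew, map_sub]; linear_combination hc - hc₀

/-- The commutator form. -/
theorem uniEl_mul_comm {w w' : κ → F} {c c' : F} (hc : c + C.σ c + herm C w w = 0)
    (hc' : c' + C.σ c' + herm C w' w' = 0) (hd : herm C w w' - C.σ (herm C w w') ∈ C.skew) :
    uniEl C w c hc * uniEl C w' c' hc' =
      uniEl C 0 (herm C w w' - C.σ (herm C w w')) (skew_valid C hd) *
        (uniEl C w' c' hc' * uniEl C w c hc) := by
  rw [uniEl_mul, uniEl_mul, uniEl_mul]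
  refine uniEl_congr C _ _ ?_ ?_
  · rw [zero_add, add_comm]
  · rw [conj_herm, herm_zero_right]; ring

theorem uniEl_conj_uniEl {w w' : κ → F} {c c' : F} (hc : c + C.σ c + herm C w w = 0)
    (hc' : c' + C.σ c' + herm C w' w' = 0) :
    ∃ hd, uniEl C w c hc * uniEl C w' c' hc' * (uniEl C w c hc)⁻¹ =
      uniEl C w' (c' + (herm C w w' - C.σ (herm C w w'))) hd := by
  have hd : (c' + (herm C w w' - C.σ (herm C w w'))) +
      C.σ (c' + (herm C w w' - C.σ (herm C w w'))) + herm C w' w' = 0 := by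
    rw [map_add, map_sub, C.invol]; linear_combination hc'
  refine ⟨hd, ?_⟩
  rw [uniEl_mul_comm C hc hc' (C.sub_mem _), mul_assoc, mul_inv_cancel_right, uniEl_mul]
  exact uniEl_congr C _ _ (zero_add _) (by rw [herm_zero_right]; ring)

/-- How a semilinear unitary map fixing the line of `e` moves a Heisenberg element. -/
theorem semi_uniEl (Γ : (ι → F) → ι → F) (θ : F ≃+* F) (hadd : ∀ x y, Γ (x + y) = Γ x + Γ y)
    (hsmul : ∀ (r : F) x, Γ (r • x) = θ r • Γ x)
    (hherm : ∀ x y, herm C (Γ x) (Γ y) = θ (herm C x y)) (hsurj : Function.Surjective Γ) {a : F}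
    (he : Γ ee = a • ee) (D : (κ → F) → κ → F) (hW : ∀ w, Γ (inW w) = inW (D w))
    {w : κ → F} {c : F} (hc : c + C.σ c + herm C w w = 0) (s : G)
    (hs : ∀ x, app C s (Γ x) = Γ (app C (uniEl C w c hc) x)) :
    ∃ hc', s = uniEl C (C.σ a • D w) (a * C.σ a * θ c) hc' := by
  have hww : herm C (D w) (D w) = θ (herm C w w) := by
    rw [← herm_inW C (D w) (D w), ← hW, hherm, herm_inW]
  have hc' : a * C.σ a * θ c + C.σ (a * C.σ a * θ c) + herm C (C.σ a • D w) (C.σ a • D w) = 0 := by
    rw [herm_smul_left, herm_smul_right, hww, C.invol, map_mul, map_mul, C.invol, ← conj_field]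
    have h := congrArg θ hc
    rw [map_add, map_add, map_zero] at h
    linear_combination (a * C.σ a) * h
  refine ⟨hc', suG_ext C fun y => ?_⟩
  obtain ⟨x, rfl⟩ := hsurj y
  have h1 : θ (herm C x ee) = C.σ a * herm C (Γ x) ee := by
    rw [← hherm, he, herm_smul_right]
  have h2 : θ (herm C x (inW w)) = herm C (Γ x) (inW (D w)) := by rw [← hherm, hW]
  rw [hs, app_uniEl, app_uniEl, sub_eq_add_neg, ← neg_smul, hadd, hadd, hsmul, hsmul, hadd, hsmul, map_neg,
    hW, he, h1, h2, inW_smul, herm_smul_right, C.invol]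
  module

/-- `g` fixes the lines of `e` and `f`. -/
def FixLines (g : G) : Prop :=
  (∃ a : F, app C g ee = a • ee) ∧ ∃ b : F, app C g ff = b • ff

/-- The multiplier of `g` on `e`. -/
noncomputable def coefA (g : G) : F := herm C (app C g ee) ff

/-- The norm of the multiplier. -/
noncomputable def normN (g : G) : F := coefA C g * C.σ (coefA C g)

/-- The action of `g` on the complement. -/
def actW (g : G) (w : κ → F) : κ → F := app C g (inW w) ∘ Sum.inr

/-- The action on the Heisenberg quotient. -/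
noncomputable def phi (g : G) (w : κ → F) : κ → F := C.σ (coefA C g) • actW C g w

variable {C}

theorem FixLines.app_vE {g : G} (h : FixLines C g) : app C g ee = coefA C g • ee := by
  obtain ⟨a, ha⟩ := h.1
  rw [coefA, ha, herm_smul_left, herm_vE_vF, mul_one]

theorem FixLines.coef_mul {g : G} (h : FixLines C g) {b : F} (hb : app C g ff = b • ff) :
    coefA C g * C.σ b = 1 := by
  have := herm_app C g ee ff
  rwa [h.app_vE, hb, herm_smul_left, herm_smul_right, herm_vE_vF, mul_one] at this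

theorem FixLines.coef_ne_zero {g : G} (h : FixLines C g) : coefA C g ≠ 0 := by
  obtain ⟨b, hb⟩ := h.2
  exact left_ne_zero_of_mul_eq_one (h.coef_mul hb)

theorem FixLines.normN_ne_zero {g : G} (h : FixLines C g) : normN C g ≠ 0 :=
  mul_ne_zero h.coef_ne_zero ((map_ne_zero C.σ).2 h.coef_ne_zero)

theorem FixLines.app_inW {g : G} (h : FixLines C g) (w : κ → F) :
    app C g (inW w) = inW (actW C g w) := by
  obtain ⟨b, hb⟩ := h.2
  have hb0 : b ≠ 0 := fun h0 => by
    have := h.coef_mul hb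
    rw [h0, map_zero, mul_zero] at this
    exact zero_ne_one this
  have h1 : herm C (app C g (inW w)) ee = 0 := by
    have := herm_app C g (inW w) ee
    rw [h.app_vE, herm_smul_right, herm_inW_vE] at this
    exact (mul_eq_zero.1 this).resolve_left ((map_ne_zero C.σ).2 h.coef_ne_zero)
  have h2 : herm C (app C g (inW w)) ff = 0 := by
    have := herm_app C g (inW w) ff
    rw [hb, herm_smul_right, herm_inW_vF] at this
    exact (mul_eq_zero.1 this).resolve_left ((map_ne_zero C.σ).2 hb0)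
  conv_lhs => rw [decomp C (app C g (inW w)), h1, h2, zero_smul, zero_smul, zero_add, zero_add]
  rfl

theorem FixLines.conj_uniEl {g : G} (h : FixLines C g) {w : κ → F} {c : F}
    (hc : c + C.σ c + herm C w w = 0) :
    ∃ hc', g * uniEl C w c hc * g⁻¹ = uniEl C (phi C g w) (normN C g * c) hc' :=
  semi_uniEl C (app C g) (RingEquiv.refl F) (app_add C g) (fun r x => app_smul C g r x)
    (fun x y => herm_app C g x y) (fun y => ⟨app C g⁻¹ y, app_app_inv C g y⟩) h.app_vE (actW C g)
    h.app_inW hc _ fun x => by rw [app_mul, app_mul, app_inv_app]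

theorem FixLines.phi_add {g : G} (w w' : κ → F) : phi C g (w + w') = phi C g w + phi C g w' := by
  rw [phi, phi, phi, ← smul_add, actW, actW, actW, inW_add, app_add]
  rfl

theorem FixLines.phi_smul {g : G} (r : F) (w : κ → F) : phi C g (r • w) = r • phi C g w := by
  rw [phi, phi, smul_comm, actW, actW, inW_smul, app_smul]
  rfl

theorem fixLines_blockHom (d : suG C κ) : FixLines C (blockHom C κ d) :=
  ⟨⟨1, by rw [app_blockHom, one_smul]; ext (i | i) <;> simp [vE, app]⟩,
    ⟨1, by rw [app_blockHom, one_smul]; ext (i | i) <;> simp [vF, app]⟩⟩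

theorem app_blockHom_vE (d : suG C κ) : app C (blockHom C κ d) ee = ee := by
  rw [app_blockHom]; ext (i | i) <;> simp [vE, app]

theorem coefA_blockHom (d : suG C κ) : coefA C (blockHom C κ d) = 1 := by
  rw [coefA, app_blockHom_vE, herm_vE_vF]

theorem normN_blockHom (d : suG C κ) : normN C (blockHom C κ d) = 1 := by
  rw [normN, coefA_blockHom, map_one, mul_one]

theorem phi_blockHom (d : suG C κ) (w : κ → F) : phi C (blockHom C κ d) w = app C d w := by
  rw [phi, coefA_blockHom, map_one, one_smul, actW, app_blockHom]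
  rfl

theorem app_torEl_vF (i : κ) (a : Fˣ) : app C (torEl C i a) ff = (C.σ (a : F))⁻¹ • ff := by
  show torMat C i a *ᵥ ff = _
  rw [torMat_mulVec, herm_vF_vF, herm_vF_vE, herm_vF_inW]
  simp only [mul_one, mul_zero, zero_smul, add_zero, sub_smul, one_smul]
  abel

theorem fixLines_torEl (i : κ) (a : Fˣ) : FixLines C (torEl C i a) :=
  ⟨⟨_, app_torEl_vE C i a⟩, ⟨_, app_torEl_vF i a⟩⟩

theorem coefA_torEl (i : κ) (a : Fˣ) : coefA C (torEl C i a) = a := by
  rw [coefA, app_torEl_vE, herm_smul_left, herm_vE_vF, mul_one]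

theorem phi_torEl (i : κ) (a : Fˣ) (w : κ → F) :
    phi C (torEl C i a) w = C.σ (a : F) • (w + ((C.σ a / a - 1) * w i) • Pi.single i (1 : F)) := by
  rw [phi, coefA_torEl, actW]
  congr 1
  show (torMat C i a *ᵥ inW w) ∘ Sum.inr = _
  rw [torMat_mulVec, herm_inW_vF, herm_inW_vE, herm_inW]
  funext j
  simp [inW, vE, vF, herm, Pi.single_apply]

/-- Central elements are scalar. -/
theorem center_scalar {z : G} (hz : z ∈ Subgroup.center G) : ∃ a : F, ∀ x, app C z x = a • x := by
  have hcomm : ∀ g, z * g * z⁻¹ = g := fun g => by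
    rw [← Subgroup.mem_center_iff.1 hz g, mul_inv_cancel_right]
  obtain ⟨d, hd, hd0⟩ := C.exists_skew_ne
  have hline : ∀ v : ι → F, herm C v v = 0 → v ≠ 0 → ∃ a : F, app C z v = a • v := fun v hv hv0 =>
    line_of_isTransv C hd0 (fun h => hv0 (by rw [← app_inv_app C z v, h]; simp [app]))
      (hcomm (transvEl C v d hv hd) ▸ (isTransv_transvEl C v d hv hd).conj C z)
      (isTransv_transvEl C v d hv hd)
  have hz' : FixLines C z := ⟨hline ee (herm_vE_vE C) (vE_ne_zero C),
    hline ff (herm_vF_vF C) fun h => by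
      have := herm_vE_vF C (κ := κ)
      rw [h, herm_zero_right] at this
      exact zero_ne_one this⟩
  have hN : normN C z = 1 := by
    obtain ⟨hc', h⟩ := hz'.conj_uniEl (skew_valid C hd (κ := κ))
    rw [hcomm] at h
    have := (uniEl_inj C h).2
    exact (mul_left_eq_self₀.1 this.symm).resolve_right hd0
  set a := coefA C z with ha
  have hW : ∀ w, actW C z w = a • w := fun w => by
    obtain ⟨hc', h⟩ := hz'.conj_uniEl (uniEl_validity C w)
    rw [hcomm] at h
    conv_rhs => rw [(uniEl_inj C h).1, phi, smul_smul, ← ha]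
    rw [show a * C.σ a = 1 from hN, one_smul]
  obtain ⟨b, hb⟩ := hz'.2
  have hab : b = a := by
    have h1 := congrArg C.σ (hz'.coef_mul hb)
    rw [map_mul, C.invol, map_one] at h1
    have h2 : a * C.σ a = 1 := hN
    calc b = (a * C.σ a) * b := by rw [h2, one_mul]
      _ = a := by rw [mul_assoc, h1, mul_one]
  refine ⟨a, fun x => ?_⟩
  rw [decomp C x, app_add, app_add, app_smul, app_smul, hz'.app_vE, hb, hab, hz'.app_inW, hW, inW_smul,
    smul_add, smul_add]
  module

theorem eq_one_of_center_pow (p : ℕ) [Fact p.Prime] [CharP F p] {z : G} (hz : z ∈ Subgroup.center G)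
    {k : ℕ} (hk : z ^ p ^ k = 1) : z = 1 := by
  obtain ⟨a, ha⟩ := center_scalar hz
  have h : ∀ n : ℕ, app C (z ^ n) ee = a ^ n • ee := by
    intro n
    induction n with
    | zero => rw [pow_zero, app_one, pow_zero, one_smul]
    | succ n ih => rw [pow_succ, app_mul, ha, app_smul, ih, smul_smul, pow_succ, mul_comm]
  have h1 := congrArg (fun w => herm C w ff) (h (p ^ k))
  simp only [hk, app_one, herm_smul_left, herm_vE_vF, mul_one] at h1
  have ha1 : a = 1 := iterateFrobenius_inj F p k (by simp [iterateFrobenius_def, ← h1])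
  exact suG_ext C fun x => by rw [ha, ha1, one_smul, app_one]

/-- `p`-elements lift uniquely. -/
theorem eq_of_mk_eq (p : ℕ) [Fact p.Prime] [CharP F p] {x y : G} {k j : ℕ} (hx : x ^ p ^ k = 1)
    (hy : y ^ p ^ j = 1) (h : (QuotientGroup.mk x : PS C ι) = QuotientGroup.mk y) : x = y := by
  have hz : x⁻¹ * y ∈ Subgroup.center G := QuotientGroup.eq.1 h
  have hc : Commute x⁻¹ (x⁻¹ * y) := Subgroup.mem_center_iff.1 hz _
  have hpow : (x⁻¹ * y) ^ p ^ (k + j) = 1 := by
    have hxy : Commute x⁻¹ y := by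
      have := ((Commute.refl x⁻¹).inv_right).mul_right hc
      rwa [inv_inv, mul_inv_cancel_left] at this
    rw [hxy.mul_pow, inv_pow, pow_add, pow_mul, hx, one_pow, inv_one, one_mul, mul_comm, pow_mul, hy,
      one_pow]
  exact inv_mul_eq_one.1 (eq_one_of_center_pow p hz hpow)

end split

end CfsgLib.AutPSU
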