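import Cfsg.Agent.AutPSU.SylowCenter
import Cfsg.Agent.AutPSU.Torus

/-!
# The action of an automorphism of `PSU` on isotropic points
-/

set_option autoImplicit false
set_option linter.unusedSectionVars false

namespace CfsgLib.AutPSU

open Matrix CfsgLib.RepBounds.Unit

variable {F : Type*} [Field F] [Fintype F] {C : ConjField F} {κ : Type*} [Fintype κ] [DecidableEq κ]
  [Nonempty κ]

local notation "ι" => Fin 2 ⊕ κ
local notation "G" => suG C ι
local notation "ee" => vE C κ
local notation "ff" => vF C κ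

theorem app_ne_zero (g : G) {v : ι → F} (hv : v ≠ 0) : app C g v ≠ 0 := fun h =>
  hv (by rw [← app_inv_app C g v, h]; simp [app])

theorem vF_ne_zero : (ff : ι → F) ≠ 0 := fun h => by
  have := herm_vE_vF C (κ := κ)
  rw [h, herm_zero_right] at this
  exact zero_ne_one this

theorem TP.smul {x : PS C ι} {v : ι → F} (h : TP C x v) {r : F} (hr : r ≠ 0) : TP C x (r • v) := by
  obtain ⟨hv0, hv, c, g, hc, hc0, hg, rfl⟩ := h
  refine ⟨smul_ne_zero hr hv0, by rw [herm_smul_left, herm_smul_right, hv, mul_zero, mul_zero],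
    c * (r⁻¹ * C.σ r⁻¹), g, ?_, mul_ne_zero hc0 (mul_ne_zero (inv_ne_zero hr)
      ((map_ne_zero C.σ).2 (inv_ne_zero hr))), ?_, rfl⟩
  · rw [C.mem_skew, map_mul, map_mul, C.invol, C.skew_eq hc]; ring
  · rw [← mul_assoc]
    refine IsTransv.smul_vec C ?_
    rwa [inv_smul_smul₀ hr]

theorem herm_eq_zero_comm {v w : ι → F} (h : herm C v w = 0) : herm C w v = 0 := by
  rw [← conj_herm C v w, h, map_zero]

theorem commute_TP_iff (p : ℕ) [Fact p.Prime] [CharP F p] {x y : PS C ι} {v w : ι → F} (hx : TP C x v)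
    (hy : TP C y w) : Commute x y ↔ herm C v w = 0 := by
  obtain ⟨hv0, hv, c, g, hc, hc0, hg, rfl⟩ := hx
  obtain ⟨hw0, hw, d, g', hd, hd0, hg', rfl⟩ := hy
  have hp : g ^ p ^ 1 = 1 := by rw [pow_one]; exact IsTransv.pow_char C p hv hg
  have hp' : (g' * g * g'⁻¹) ^ p ^ 1 = 1 := by rw [conj_pow, hp, mul_one, mul_inv_cancel]
  constructor
  · intro h
    have h1 : g' * g * g'⁻¹ = g := eq_of_mk_eq p hp' hp (by
      rw [QuotientGroup.mk_mul, QuotientGroup.mk_mul, QuotientGroup.mk_inv, ← h.eq, mul_inv_cancel_right])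
    rw [mul_inv_eq_iff_eq_mul] at h1
    by_contra hne
    have h2 := congrArg (fun z => app C z w) h1
    simp only [app_mul, hg' w, hw, mul_zero, zero_smul, add_zero] at h2
    rw [hg w, app_add, app_smul, hg' w, hw, mul_zero, zero_smul, add_zero, hg' v, smul_add, smul_smul,
      ← add_assoc, add_eq_left, smul_eq_zero] at h2
    refine h2.elim (mul_ne_zero (mul_ne_zero hc0 ?_) (mul_ne_zero hd0 hne)) hw0
    exact fun h => hne (herm_eq_zero_comm h)
  · intro h
    have h1 : g * g' = g' * g := suG_ext C fun z => by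
      rw [app_mul, app_mul, hg' z, hg z, app_add, app_smul, app_add, app_smul, hg z, hg w, hg' z, hg' v,
        h, herm_eq_zero_comm h, mul_zero, mul_zero, zero_smul, zero_smul, add_zero, add_zero]
      abel
    exact congrArg (QuotientGroup.mk' (Subgroup.center G)) h1

/-- An isotropic vector is determined up to a factor by the isotropic vectors orthogonal to it. -/
theorem line_of_perp {v w : ι → F} (hv0 : v ≠ 0) (hv : herm C v v = 0) (hw : herm C w w = 0)
    (h : ∀ y, y ≠ 0 → herm C y y = 0 → herm C y v = 0 → herm C y w = 0) : ∃ r : F, w = r • v := by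
  obtain ⟨t, -, ht⟩ := exists_to_vE C hv hv0
  set z := app C t w with hz
  have hz0 : herm C z z = 0 := by rw [hz, herm_app, hw]
  have h' : ∀ y, y ≠ 0 → herm C y y = 0 → herm C y ee = 0 → herm C y z = 0 := by
    intro y hy0 hy hye
    have := h (app C t⁻¹ y) (app_ne_zero _ hy0) (by rw [herm_app, hy])
      (by rw [herm_app_left, ht, hye])
    rwa [herm_app_left] at this
  have hze : herm C z ee = 0 := herm_eq_zero_comm (h' ee (vE_ne_zero C) (herm_vE_vE C) (herm_vE_vE C))
  set u := z ∘ Sum.inr with hu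
  have hd : z = herm C z ff • ee + inW u := by
    conv_lhs => rw [decomp C z, hze, zero_smul, add_zero]
  by_cases hu0 : u = 0
  · refine ⟨herm C z ff, ?_⟩
    rw [hu0, inW_zero, add_zero] at hd
    calc w = app C t⁻¹ z := by rw [hz, app_inv_app]
      _ = _ := by conv_lhs => rw [hd, app_smul, ← ht, app_inv_app]
  exfalso
  obtain ⟨w', hw'⟩ := exists_herm_eq C hu0 1
  have huu : herm C u u = 0 := by
    rw [hd] at hz0
    simpa [herm_add_left, herm_add_right, herm_smul_left, herm_smul_right, herm_vE_vE, herm_vE_inW,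
      herm_inW_vE, herm_inW] using hz0
  obtain ⟨τ, hτ⟩ := C.exists_trace_one
  set s := -(herm C w' w' * τ) with hs
  have hwr : herm C u w' = 1 := by rw [← conj_herm C w' u, hw', map_one]
  have h1 : herm C (inW (w' + s • u)) z = 1 := by
    rw [hd, herm_add_right, herm_smul_right, herm_inW_vE, mul_zero, zero_add, herm_inW, herm_add_left,
      herm_smul_left, huu, mul_zero, add_zero, hw']
  refine one_ne_zero (h1.symm.trans (h' _ (fun h0 => by
    rw [h0, herm_zero_left] at h1; exact zero_ne_one h1) ?_ (herm_inW_vE C _)))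
  simp only [herm_inW, herm_add_left, herm_add_right, herm_smul_left, herm_smul_right, huu, hw', hwr]
  rw [hs, map_neg, map_mul, herm_self_fixed]
  linear_combination (-herm C w' w') * hτ

/-- `β` sends the transvections at `v` to transvections at `w`. -/
def Sends (β : MulAut (PS C ι)) (v w : ι → F) : Prop := ∀ x, TP C x v → TP C (β x) w

theorem line_map (p : ℕ) [Fact p.Prime] [CharP F p] (β : MulAut (PS C ι)) {x x' : PS C ι} {v w w' : ι → F}
    (hx : TP C x v) (hx' : TP C x' v) (hw : TP C (β x) w) (hw' : TP C (β x') w') :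
    ∃ r : F, w' = r • w := by
  refine line_of_perp hw.1 hw.2.1 hw'.2.1 fun y hy0 hy hyw => ?_
  obtain ⟨z, hz⟩ := exists_TP hy0 hy
  obtain ⟨u, hu⟩ := exists_TP_map p β.symm hz
  have hc := ((commute_TP_iff p hz hw).2 hyw).map β.symm
  rw [MulEquiv.symm_apply_apply] at hc
  have h2 := ((commute_TP_iff p hu hx').2 ((commute_TP_iff p hu hx).1 hc)).map β
  rw [MulEquiv.apply_symm_apply] at h2
  exact (commute_TP_iff p hz hw').1 h2

theorem exists_sends (p : ℕ) [Fact p.Prime] [CharP F p] (β : MulAut (PS C ι)) {v : ι → F} (hv0 : v ≠ 0)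
    (hv : herm C v v = 0) : ∃ w, w ≠ 0 ∧ herm C w w = 0 ∧ Sends β v w := by
  obtain ⟨x, hx⟩ := exists_TP hv0 hv
  obtain ⟨w, hw⟩ := exists_TP_map p β hx
  refine ⟨w, hw.1, hw.2.1, fun x' hx' => ?_⟩
  obtain ⟨w', hw'⟩ := exists_TP_map p β hx'
  obtain ⟨r, hr⟩ := line_map p β hx hx' hw hw'
  have hr0 : r ≠ 0 := fun h0 => hw'.1 (by rw [hr, h0, zero_smul])
  have := hw'.smul (inv_ne_zero hr0)
  rwa [hr, inv_smul_smul₀ hr0] at this

theorem Sends.herm_iff (p : ℕ) [Fact p.Prime] [CharP F p] {β : MulAut (PS C ι)} {v w v' w' : ι → F}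
    (h : Sends β v w) (h' : Sends β v' w') (hv0 : v ≠ 0) (hv : herm C v v = 0) (hv0' : v' ≠ 0)
    (hv' : herm C v' v' = 0) : herm C w w' = 0 ↔ herm C v v' = 0 := by
  obtain ⟨x, hx⟩ := exists_TP hv0 hv
  obtain ⟨y, hy⟩ := exists_TP hv0' hv'
  rw [← commute_TP_iff p hx hy, ← commute_TP_iff p (h x hx) (h' y hy)]
  exact ⟨fun hc => by simpa using hc.map β.symm, fun hc => hc.map β⟩

theorem Sends.inv (p : ℕ) [Fact p.Prime] [CharP F p] {β : MulAut (PS C ι)} {v : ι → F} (h : Sends β v v)
    (hv0 : v ≠ 0) (hv : herm C v v = 0) : Sends β⁻¹ v v := by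
  obtain ⟨u, hu0, hu, hs⟩ := exists_sends p β⁻¹ hv0 hv
  obtain ⟨x, hx⟩ := exists_TP hv0 hv
  have h1 := hs _ (h x hx)
  rw [← MulAut.mul_apply, inv_mul_cancel, MulAut.one_apply] at h1
  obtain ⟨r, hr⟩ := line_map p (1 : MulAut (PS C ι)) hx hx (w := u) (w' := v) (by simpa using h1) (by simpa using hx)
  intro y hy
  rw [hr]
  exact (hs y hy).smul (fun h0 => hv0 (by rw [hr, h0, zero_smul]))

theorem Sends.conj {β : MulAut (PS C ι)} {v w : ι → F} (h : Sends β v w) (t : G) :
    Sends (MulAut.conj (QuotientGroup.mk t : PS C ι) * β) v (app C t w) := fun x hx =>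
  (h x hx).conj t

/-- Some inner automorphism brings `β` to fix the points of `e` and `f`. -/
theorem exists_normalise (p : ℕ) [Fact p.Prime] [CharP F p] (β : MulAut (PS C ι)) :
    ∃ t : G, Sends (MulAut.conj (QuotientGroup.mk t : PS C ι) * β) ee ee ∧
      Sends (MulAut.conj (QuotientGroup.mk t : PS C ι) * β) ff ff := by
  obtain ⟨v, hv0, hv, hs⟩ := exists_sends p β (vE_ne_zero C (κ := κ)) (herm_vE_vE C)
  obtain ⟨w, hw0, hw, hs'⟩ := exists_sends p β (vF_ne_zero (C := C) (κ := κ)) (herm_vF_vF C)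
  obtain ⟨t, -, ht⟩ := exists_to_vE C hv hv0
  have hne : herm C (app C t w) ee ≠ 0 := by
    rw [← ht, herm_app, Ne, hs'.herm_iff p hs (vF_ne_zero (C := C)) (herm_vF_vF C) (vE_ne_zero C)
      (herm_vE_vE C), herm_vF_vE]
    exact one_ne_zero
  obtain ⟨u, hu, hu'⟩ := CfsgLib.Forms4.exists_translate C (by rw [herm_app, hw]) hne
  refine ⟨u⁻¹ * t, fun x hx => ?_, fun x hx => ?_⟩
  · have := hs.conj (u⁻¹ * t) x hx
    rwa [app_mul, ht, show app C u⁻¹ ee = ee by conv_lhs => rw [← hu, app_inv_app]] at this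
  · generalize herm C (app C t w) ee = r at hu' hne
    have := (hs'.conj (u⁻¹ * t) x hx).smul (inv_ne_zero hne)
    rwa [app_mul, ← app_smul, hu', smul_smul, inv_mul_cancel₀ hne, one_smul, app_inv_app] at this

variable (C κ) in
/-- The `p`-elements in every Sylow subgroup centralising all transvections at `e`. -/
def radP (p : ℕ) : Set (PS C ι) :=
  {x | ∀ P : Sylow p (PS C ι), (∀ y, TP C y ee → y ∈ (P : Subgroup (PS C ι)) ∧
    ∀ z ∈ (P : Subgroup (PS C ι)), z * y = y * z) → x ∈ (P : Subgroup (PS C ι))}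

theorem mem_radP_iff (p : ℕ) [Fact p.Prime] [CharP F p] (x : PS C ι) :
    x ∈ radP C κ p ↔ ∃ g ∈ radE C κ, x = QuotientGroup.mk g := by
  classical
  have hpow : ∀ (S : Sylow p G) (A : G), A ∈ (S : Subgroup G) → ∃ k, A ^ p ^ k = 1 := fun S A hA => by
    obtain ⟨k, hk⟩ := S.2 ⟨A, hA⟩
    exact ⟨k, congrArg Subtype.val hk⟩
  have hπ := QuotientGroup.mk'_surjective (Subgroup.center G)
  constructor
  · intro hx
    obtain ⟨S0⟩ : Nonempty (Sylow p G) := inferInstance
    obtain ⟨t, ht⟩ := exists_conj_fix S0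
    let S1 := S0.mapSurjective (f := (MulAut.conj t).toMonoidHom) (MulAut.conj t).surjective
    have hS1 : ∀ g ∈ (S1 : Subgroup G), app C g ee = ee := by
      rintro g hg
      simp only [S1, Sylow.coe_mapSurjective, Subgroup.mem_map] at hg
      obtain ⟨g0, hg0, rfl⟩ := hg
      exact ht g0 hg0
    have hmem : ∀ S : Sylow p G, (∀ g ∈ (S : Subgroup G), app C g ee = ee) →
        ∃ g ∈ (S : Subgroup G), x = QuotientGroup.mk g := by
      intro S hS
      have h := hx (S.mapSurjective hπ) (fun y hy => by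
        obtain ⟨-, -, c, g, hc, -, hg, rfl⟩ := hy
        obtain ⟨h1, h2⟩ := transv_mem_sylow S hS hc hg
        rw [Sylow.coe_mapSurjective]
        refine ⟨Subgroup.mem_map_of_mem _ h1, ?_⟩
        rintro _ ⟨A, hA, rfl⟩
        exact congrArg (QuotientGroup.mk' (Subgroup.center G)) (h2 A hA))
      rw [Sylow.coe_mapSurjective, Subgroup.mem_map] at h
      obtain ⟨g, hg, rfl⟩ := h
      exact ⟨g, hg, rfl⟩
    obtain ⟨g, hg, rfl⟩ := hmem S1 hS1
    refine ⟨g, ?_, rfl⟩
    obtain ⟨w, c, hc, d, rfl⟩ := exists_eq_uniEl_mul C g (hS1 g hg)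
    have hall : ∀ S : Sylow p G, (∀ g ∈ (S : Subgroup G), app C g ee = ee) →
        blockHom C κ d ∈ (S : Subgroup G) := by
      intro S hS
      obtain ⟨g', hg', hgg'⟩ := hmem S hS
      obtain ⟨k, hk⟩ := hpow S1 _ hg
      obtain ⟨j, hj⟩ := hpow S _ hg'
      rw [← eq_of_mk_eq p hk hj hgg'] at hg'
      exact (Subgroup.mul_mem_cancel_left _ (radE_le_sylow S hS (uniEl_mem_radE hc))).1 hg'
    let N : Subgroup (suG C κ) :=
      { carrier := {y | ∀ S : Sylow p G, (∀ g ∈ (S : Subgroup G), app C g ee = ee) →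
          blockHom C κ y ∈ (S : Subgroup G)}
        one_mem' := fun S _ => by rw [map_one]; exact one_mem _
        mul_mem' := fun ha hb S hS => by rw [map_mul]; exact mul_mem (ha S hS) (hb S hS)
        inv_mem' := fun ha S hS => by rw [map_inv]; exact inv_mem (ha S hS) }
    have hNn : N.Normal := ⟨fun n hn y S hS => by
      let S' := S.mapSurjective (f := (MulAut.conj (blockHom C κ y)⁻¹).toMonoidHom)
        (MulAut.conj _).surjective
      have h := hn S' (by
        rintro g hg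
        simp only [S', Sylow.coe_mapSurjective, Subgroup.mem_map] at hg
        obtain ⟨g0, hg0, rfl⟩ := hg
        show app C ((blockHom C κ y)⁻¹ * g0 * (blockHom C κ y)⁻¹⁻¹) ee = ee
        rw [app_mul, app_mul, inv_inv, app_blockHom_vE, hS g0 hg0, ← map_inv, app_blockHom_vE])
      simp only [S', Sylow.coe_mapSurjective, Subgroup.mem_map] at h
      obtain ⟨g0, hg0, hg0'⟩ := h
      have : g0 = blockHom C κ (y * n * y⁻¹) := by
        rw [map_mul, map_mul, map_inv, ← hg0']
        show g0 = blockHom C κ y * ((blockHom C κ y)⁻¹ * g0 * (blockHom C κ y)⁻¹⁻¹) * (blockHom C κ y)⁻¹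
        group
      rwa [← this]⟩
    have hNp : IsPGroup p N :=
      S1.2.of_injective (((blockHom C κ).comp N.subtype).codRestrict (S1 : Subgroup G) fun n => n.2 S1 hS1)
        fun a b hab => Subtype.ext (blockHom_injective C (congrArg Subtype.val hab))
    have hd : d ∈ N := hall
    rw [normal_pgroup_eq_bot C N hNp, Subgroup.mem_bot] at hd
    rw [hd, map_one, mul_one]
    exact uniEl_mem_radE hc
  · rintro ⟨g, hg, rfl⟩ P hP
    obtain ⟨S, rfl⟩ := Sylow.mapSurjective_surjective hπ p P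
    obtain ⟨d, hd, hd0⟩ := C.exists_skew_ne
    have hT := isTransv_transvEl C ee d (herm_vE_vE C) hd
    obtain ⟨h1, h2⟩ := hP _ ⟨vE_ne_zero C, herm_vE_vE C, d, _, hd, hd0, hT, rfl⟩
    have hS : ∀ A ∈ (S : Subgroup G), app C A ee = ee := by
      intro A hA
      obtain ⟨k, hk⟩ := hpow S A hA
      have hTp := IsTransv.pow_char C p (herm_vE_vE C) hT
      refine fix_of_commute hd0 hT (mul_inv_eq_iff_eq_mul.1 (eq_of_mk_eq p (k := 1) (j := 1)
        (by rw [pow_one, conj_pow, hTp, mul_one, mul_inv_cancel]) (by rw [pow_one, hTp]) ?_)) hk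
      have h3 := h2 (QuotientGroup.mk' _ A)
        (by rw [Sylow.coe_mapSurjective]; exact Subgroup.mem_map_of_mem _ hA)
      simp only [QuotientGroup.mk'_apply] at h3
      rw [QuotientGroup.mk_mul, QuotientGroup.mk_mul, QuotientGroup.mk_inv, h3, mul_inv_cancel_right]
    rw [Sylow.coe_mapSurjective]
    exact Subgroup.mem_map_of_mem _ (radE_le_sylow S hS hg)

/-- An automorphism fixing the point of `e` preserves the Heisenberg group. -/
theorem exists_uniEl_map (p : ℕ) [Fact p.Prime] [CharP F p] {β : MulAut (PS C ι)} (hβ : Sends β ee ee)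
    {w : κ → F} {c : F} (hc : c + C.σ c + herm C w w = 0) :
    ∃ w' c' hc', β (QuotientGroup.mk (uniEl C w c hc)) = QuotientGroup.mk (uniEl C w' c' hc') := by
  classical
  have hβ' := hβ.inv p (vE_ne_zero C) (herm_vE_vE C)
  have h : β (QuotientGroup.mk (uniEl C w c hc)) ∈ radP C κ p := by
    intro P hP
    let P' := P.mapSurjective (f := (β⁻¹ : MulAut (PS C ι)).toMonoidHom) (β⁻¹ : MulAut (PS C ι)).surjective
    have h1 := (mem_radP_iff p _).2 ⟨_, uniEl_mem_radE hc, rfl⟩ P' (fun y hy => by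
      obtain ⟨h2, h3⟩ := hP _ (hβ y hy)
      simp only [P', Sylow.coe_mapSurjective]
      refine ⟨Subgroup.mem_map.2 ⟨_, h2, MulEquiv.symm_apply_apply β y⟩, ?_⟩
      rintro _ ⟨z, hz, rfl⟩
      have h4 := congrArg β.symm (h3 z hz)
      rw [map_mul, map_mul, MulEquiv.symm_apply_apply] at h4
      exact h4)
    simp only [P', Sylow.coe_mapSurjective, Subgroup.mem_map] at h1
    obtain ⟨z, hz, hz'⟩ := h1
    rw [← hz']
    show β (β.symm z) ∈ _
    rwa [MulEquiv.apply_symm_apply]
  obtain ⟨g, ⟨w', c', hc', rfl⟩, hg⟩ := (mem_radP_iff p _).1 h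
  exact ⟨w', c', hc', hg⟩

end CfsgLib.AutPSU
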