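import Cfsg.Prelude.Def_LieTypeDatum
import Cfsg.Agent.AutPSU.Main

/-!
# The automorphisms of `PSU_n(q)` on the standard carrier
-/

set_option autoImplicit false
set_option linter.unusedSectionVars false

namespace CfsgLib.AutPSU

open Matrix CfsgLib.RepBounds.Unit

variable {F : Type*} [Field F] {n q : ℕ}

theorem mem_GU_iff {g : GL (Fin n) F} : g ∈ Cfsg.GU n F q ↔
    ∀ u v, Cfsg.hermForm n F q (g.1 *ᵥ u) (g.1 *ᵥ v) = Cfsg.hermForm n F q u v := Iff.rfl

theorem mem_SU_iff' {s : Matrix.SpecialLinearGroup (Fin n) F} : s ∈ Cfsg.SU n F q ↔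
    ∀ u v, Cfsg.hermForm n F q (s.1 *ᵥ u) (s.1 *ᵥ v) = Cfsg.hermForm n F q u v := Iff.rfl

theorem hermForm_map_field (σ : F ≃+* F) (u v : Fin n → F) :
    Cfsg.hermForm n F q (σ ∘ u) (σ ∘ v) = σ (Cfsg.hermForm n F q u v) := by
  simp [Cfsg.hermForm]

theorem preserves_map (σ : F ≃+* F) {A : Matrix (Fin n) (Fin n) F}
    (hA : ∀ u v, Cfsg.hermForm n F q (A *ᵥ u) (A *ᵥ v) = Cfsg.hermForm n F q u v) (u v : Fin n → F) :
    Cfsg.hermForm n F q (A.map σ *ᵥ u) (A.map σ *ᵥ v) = Cfsg.hermForm n F q u v := by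
  have h : ∀ x : Fin n → F, A.map σ *ᵥ (σ ∘ x) = σ ∘ (A *ᵥ x) := fun x =>
    funext fun i => (RingHom.map_mulVec σ.toRingHom A x i).symm
  have h' : ∀ x : Fin n → F, σ ∘ (σ.symm ∘ x) = x := fun x => by funext i; simp
  rw [← h' u, ← h' v, h, h, hermForm_map_field, hermForm_map_field, hA]

theorem det_map_field (σ : F ≃+* F) (A : Matrix (Fin n) (Fin n) F) : (A.map σ).det = σ A.det :=
  (σ.toRingHom.map_det A).symm

theorem map_mem_SU (σ : F ≃+* F) (s : ↥(Cfsg.SU n F q)) :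
    (⟨s.1.1.map σ, by rw [det_map_field, s.1.2, map_one]⟩ : Matrix.SpecialLinearGroup (Fin n) F) ∈
      Cfsg.SU n F q :=
  mem_SU_iff'.2 (preserves_map σ s.2)

/-- A field automorphism applied entrywise, on `SU`. -/
def fieldSU : (F ≃+* F) →* MulAut ↥(Cfsg.SU n F q) where
  toFun σ :=
    { toFun := fun s => ⟨_, map_mem_SU σ s⟩
      invFun := fun s => ⟨_, map_mem_SU σ.symm s⟩
      left_inv := fun s => Subtype.ext (Subtype.ext (by ext i j; exact σ.symm_apply_apply _))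
      right_inv := fun s => Subtype.ext (Subtype.ext (by ext i j; exact σ.apply_symm_apply _))
      map_mul' := fun s t => Subtype.ext (Subtype.ext (σ.toRingHom.mapMatrix.map_mul s.1.1 t.1.1)) }
  map_one' := by ext1 s; apply Subtype.ext; apply Subtype.ext; ext i j; rfl
  map_mul' σ τ := by ext1 s; apply Subtype.ext; apply Subtype.ext; ext i j; rfl

@[simp] theorem fieldSU_coe (σ : F ≃+* F) (s : ↥(Cfsg.SU n F q)) :
    (fieldSU σ s).1.1 = s.1.1.map σ := rfl

theorem conj_mem_SU (g : ↥(Cfsg.GU n F q)) (s : ↥(Cfsg.SU n F q)) :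
    (⟨g.1.1 * s.1.1 * (g.1⁻¹ : GL (Fin n) F).1, by
      rw [Matrix.det_mul_comm, ← Matrix.mul_assoc, g.1.inv_mul, Matrix.one_mul, s.1.2]⟩ :
      Matrix.SpecialLinearGroup (Fin n) F) ∈ Cfsg.SU n F q := by
  refine mem_SU_iff'.2 fun u v => ?_
  show Cfsg.hermForm n F q ((g.1.1 * s.1.1 * (g.1⁻¹ : GL (Fin n) F).1) *ᵥ u) _ = _
  rw [← Matrix.mulVec_mulVec, ← Matrix.mulVec_mulVec, ← Matrix.mulVec_mulVec, ← Matrix.mulVec_mulVec,
    mem_GU_iff.1 g.2, mem_SU_iff'.1 s.2, mem_GU_iff.1 (inv_mem g.2)]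

/-- Conjugation by a unitary matrix on `SU`. -/
def conjSU : ↥(Cfsg.GU n F q) →* MulAut ↥(Cfsg.SU n F q) where
  toFun g :=
    { toFun := fun s => ⟨_, conj_mem_SU g s⟩
      invFun := fun s => ⟨_, conj_mem_SU g⁻¹ s⟩
      left_inv := fun s => by apply Subtype.ext; apply Subtype.ext; simp [mul_assoc]
      right_inv := fun s => by apply Subtype.ext; apply Subtype.ext; simp [mul_assoc]
      map_mul' := fun s t => by
        apply Subtype.ext; apply Subtype.ext
        show _ = (g.1.1 * s.1.1 * (g.1⁻¹ : GL (Fin n) F).1) * (g.1.1 * t.1.1 * (g.1⁻¹ : GL (Fin n) F).1)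
        simp [mul_assoc] }
  map_one' := by ext1 s; apply Subtype.ext; apply Subtype.ext; simp
  map_mul' g h := by ext1 s; apply Subtype.ext; apply Subtype.ext; simp [mul_assoc]

@[simp] theorem conjSU_coe (g : ↥(Cfsg.GU n F q)) (s : ↥(Cfsg.SU n F q)) :
    (conjSU g s).1.1 = g.1.1 * s.1.1 * (g.1⁻¹ : GL (Fin n) F).1 := rfl

/-- The automorphism of `PSU` induced by one of `SU`. -/
def toPSUAut : MulAut ↥(Cfsg.SU n F q) →* MulAut (Cfsg.PSU n F q) where
  toFun α := QuotientGroup.congr _ _ α (Subgroup.characteristic_iff_map_eq.1 inferInstance α)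
  map_one' := by
    ext1 x
    induction x using QuotientGroup.induction_on
    rfl
  map_mul' α β := by
    ext1 x
    induction x using QuotientGroup.induction_on
    rfl

@[simp] theorem toPSUAut_mk (α : MulAut ↥(Cfsg.SU n F q)) (s : ↥(Cfsg.SU n F q)) :
    toPSUAut α (QuotientGroup.mk s) = QuotientGroup.mk (α s) := rfl

theorem toPSUAut_conj (h : ↥(Cfsg.SU n F q)) :
    toPSUAut (MulAut.conj h) = MulAut.conj (QuotientGroup.mk h : Cfsg.PSU n F q) := by
  ext1 x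
  induction x using QuotientGroup.induction_on
  rfl

theorem eq_toPSUAut_iff (β : MulAut (Cfsg.PSU n F q)) (α : MulAut ↥(Cfsg.SU n F q)) :
    (∀ s s' : ↥(Cfsg.SU n F q), s'.1.1 = (α s).1.1 → β (QuotientGroup.mk s) = QuotientGroup.mk s') ↔
      β = toPSUAut α := by
  constructor
  · intro h
    ext1 x
    induction x using QuotientGroup.induction_on with
    | H s => exact h s (α s) rfl
  · rintro rfl s s' hs
    rw [show s' = α s from Subtype.ext (Subtype.ext hs), toPSUAut_mk]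

/-- The automorphism induced by a unitary matrix and a field automorphism. -/
def semiAut (g : ↥(Cfsg.GU n F q)) (σ : F ≃+* F) : MulAut (Cfsg.PSU n F q) :=
  toPSUAut (conjSU g * fieldSU σ)

theorem isInducedBySemilinearPSU_iff {g : GL (Fin n) F} (hg : g ∈ Cfsg.GU n F q) (σ : F ≃+* F)
    (β : MulAut (Cfsg.PSU n F q)) :
    Cfsg.IsInducedBySemilinearPSU g σ β ↔ β = semiAut ⟨g, hg⟩ σ := by
  rw [semiAut, ← eq_toPSUAut_iff]
  exact forall₂_congr fun s s' => Iff.rfl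

theorem isFieldAutPSUOf_iff (σ : F ≃+* F) (β : MulAut (Cfsg.PSU n F q)) :
    Cfsg.IsFieldAutPSUOf σ β ↔ β = toPSUAut (fieldSU σ) := by
  rw [← eq_toPSUAut_iff]
  exact forall₂_congr fun s s' => Iff.rfl

theorem isInnerDiagonalAutPSU_iff (β : MulAut (Cfsg.PSU n F q)) :
    Cfsg.IsInnerDiagonalAutPSU β ↔ ∃ g : ↥(Cfsg.GU n F q), β = toPSUAut (conjSU g) := by
  constructor
  · rintro ⟨g, hg, h⟩
    exact ⟨⟨g, hg⟩, (eq_toPSUAut_iff β _).1 h⟩
  · rintro ⟨⟨g, hg⟩, hβ⟩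
    exact ⟨g, hg, (eq_toPSUAut_iff β _).2 hβ⟩

theorem semiAut_eq_mul (g : ↥(Cfsg.GU n F q)) (σ : F ≃+* F) :
    semiAut g σ = toPSUAut (conjSU g) * toPSUAut (fieldSU σ) := map_mul toPSUAut _ _

/-- The inner-diagonal group is the image of `GU`. -/
theorem mem_inndiagPSU_iff (β : MulAut (Cfsg.PSU n F q)) :
    β ∈ Cfsg.inndiagPSU n F q ↔ ∃ g : ↥(Cfsg.GU n F q), β = toPSUAut (conjSU g) := by
  rw [← isInnerDiagonalAutPSU_iff]
  constructor
  · intro h
    have hle : Cfsg.inndiagPSU n F q ≤ ((toPSUAut (n := n) (F := F) (q := q)).comp conjSU).range := by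
      rw [Cfsg.inndiagPSU, Cfsg.autSubgroupOf, Subgroup.closure_le]
      intro x hx
      obtain ⟨g, hg⟩ := (isInnerDiagonalAutPSU_iff x).1 hx
      exact ⟨g, hg.symm⟩
    obtain ⟨g, hg⟩ := hle h
    exact (isInnerDiagonalAutPSU_iff β).2 ⟨g, hg.symm⟩
  · exact fun h => Subgroup.subset_closure h

variable [Fintype F]

/-- Renaming coordinates, as an isomorphism. -/
noncomputable def reindexIso (C : ConjField F) {ι κ : Type*} [Fintype ι] [DecidableEq ι] [Fintype κ]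
    [DecidableEq κ] (e : ι ≃ κ) : suG C ι ≃* suG C κ :=
  MonoidHom.toMulEquiv (reindexHom C e) (reindexHom C e.symm)
    (MonoidHom.ext fun g => suG_ext C fun x => by
      rw [MonoidHom.comp_apply, app_reindexHom, app_reindexHom]; simp [Function.comp_def])
    (MonoidHom.ext fun g => suG_ext C fun x => by
      rw [MonoidHom.comp_apply, app_reindexHom, app_reindexHom]; simp [Function.comp_def])

theorem map_center_iso {G H : Type*} [Group G] [Group H] (e : G ≃* H) :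
    (Subgroup.center G).map e.toMonoidHom = Subgroup.center H := by
  ext x
  simp only [Subgroup.mem_map, Subgroup.mem_center_iff]
  constructor
  · rintro ⟨y, hy, rfl⟩ g
    obtain ⟨g, rfl⟩ := e.surjective g
    exact (map_mul e g y).symm.trans ((congrArg e (hy g)).trans (map_mul e y g))
  · exact fun hx => ⟨e.symm x, fun g => e.injective (by simpa using hx (e g)), by simp⟩

theorem submatrix_mulVec' {ι κ : Type*} [Fintype ι] [Fintype κ] (e : ι ≃ κ) (A : Matrix ι ι F)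
    (u : κ → F) : A.submatrix e.symm e.symm *ᵥ u = (A *ᵥ (u ∘ e)) ∘ e.symm := by
  rw [Matrix.submatrix_mulVec_equiv]; rfl

/-- Every automorphism of `PSU_n(q)` is induced by a semilinear unitary map. -/
theorem exists_semiAut (hF : Fintype.card F = q ^ 2) (hn : 3 ≤ n) (hs : ¬ (n = 3 ∧ q = 2))
    (β : MulAut (Cfsg.PSU n F q)) : ∃ (g : ↥(Cfsg.GU n F q)) (σ : F ≃+* F), β = semiAut g σ := by
  obtain ⟨C, rfl⟩ := exists_conjField q hF
  obtain ⟨m, rfl⟩ : ∃ m, n = 2 + (m + 1) := ⟨n - 3, by omega⟩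
  let e : Fin 2 ⊕ Fin (m + 1) ≃ Fin (2 + (m + 1)) := finSumFinEquiv
  let E : suG C (Fin 2 ⊕ Fin (m + 1)) ≃* Cfsg.SU (2 + (m + 1)) F C.q :=
    (reindexIso C e).trans (MulEquiv.subgroupCongr (suG_fin_eq C _))
  have hEval : ∀ s, (E s).1.1 = s.1.1.submatrix e.symm e.symm := fun s => rfl
  let E' : PS C (Fin 2 ⊕ Fin (m + 1)) ≃* Cfsg.PSU (2 + (m + 1)) F C.q :=
    QuotientGroup.congr _ _ E (map_center_iso E)
  let β₀ : MulAut (PS C (Fin 2 ⊕ Fin (m + 1))) := (E'.trans β).trans E'.symm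
  have hcond : Nontrivial (Fin (m + 1)) ∨ 3 ≤ C.q := by
    rcases Nat.eq_zero_or_pos m with rfl | hm
    · exact Or.inr (by have := C.two_le; omega)
    · exact Or.inl (Fin.nontrivial_iff_two_le.2 (by omega))
  obtain ⟨g, θ, hg, hind⟩ := exists_induces hcond β₀
  set g₁ := g.submatrix e.symm e.symm with hg₁
  have hherm : ∀ u v : Fin (2 + (m + 1)) → F,
      herm C (g₁ *ᵥ u) (g₁ *ᵥ v) = herm C u v := by
    intro u v
    rw [hg₁, submatrix_mulVec', submatrix_mulVec']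
    exact (Equiv.sum_comp e.symm fun i => (g *ᵥ (u ∘ e)) i * C.σ ((g *ᵥ (v ∘ e)) i)).trans
      ((hg _ _).trans (Equiv.sum_comp e fun i => u i * C.σ (v i)))
  have hu : IsUnit g₁ := IsUnitary.isUnit (C := C) hherm
  have hmem : hu.unit ∈ Cfsg.GU (2 + (m + 1)) F C.q := by
    rw [mem_GU_iff]
    intro u v
    rw [IsUnit.unit_spec, hermForm_eq]
    exact hherm u v
  refine ⟨⟨hu.unit, hmem⟩, θ, (isInducedBySemilinearPSU_iff hmem θ β).1 fun s s' hs' => ?_⟩
  obtain ⟨s₀, rfl⟩ := E.surjective s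
  obtain ⟨s₁, rfl⟩ := E.surjective s'
  have h1 : (E s₁).1.1 * g₁ = g₁ * (E s₀).1.1.map θ := by
    rw [hs', IsUnit.unit_spec, Matrix.mul_assoc, show ((hu.unit⁻¹ : GL _ F)).1 * g₁ = 1 from hu.val_inv_mul,
      Matrix.mul_one]
  rw [hEval, hEval, hg₁, ← Matrix.submatrix_map, Matrix.submatrix_mul_equiv, Matrix.submatrix_mul_equiv] at h1
  have h2 : s₁.1.1 * g = g * s₀.1.1.map θ := by
    have := congrArg (fun A : Matrix _ _ F => A.submatrix e e) h1
    simpa using this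
  have h3 := congrArg E' (hind s₀ s₁ h2)
  simp [β₀, E'] at h3
  exact h3

theorem gammaPSU_eq_top (hF : Fintype.card F = q ^ 2) (hn : 3 ≤ n) (hs : ¬ (n = 3 ∧ q = 2)) :
    Cfsg.gammaPSU n F q = ⊤ := by
  refine eq_top_iff.2 fun β _ => Subgroup.subset_closure ?_
  obtain ⟨g, σ, hβ⟩ := exists_semiAut hF hn hs β
  exact ⟨g.1, σ, g.2, (isInducedBySemilinearPSU_iff g.2 σ β).2 hβ⟩

end CfsgLib.AutPSU
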