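import Cfsg.Agent.AutPSU.Model

/-!
# Centres of Sylow subgroups of `SU` in the defining characteristic

They consist of transvections, so automorphisms of `PSU` permute the transvections.
-/

set_option autoImplicit false
set_option linter.unusedSectionVars false

namespace CfsgLib.AutPSU

open Matrix CfsgLib.RepBounds.Unit

variable {F : Type*} [Field F] [Fintype F] {C : ConjField F} {κ : Type*} [Fintype κ] [DecidableEq κ]

local notation "ι" => Fin 2 ⊕ κ
local notation "G" => suG C ι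
local notation "ee" => vE C κ
local notation "ff" => vF C κ

instance finite_suG {ι' : Type*} [Fintype ι'] [DecidableEq ι'] : Finite (suG C ι') := Subtype.finite

instance finite_PS : Finite (PS C ι) := Quotient.finite _

variable (C κ) in
/-- The unipotent radical of the stabiliser of `e`. -/
noncomputable def radE : Subgroup G where
  carrier := {g | ∃ (w : κ → F) (c : F) (hc : c + C.σ c + herm C w w = 0), g = uniEl C w c hc}
  one_mem' := ⟨0, 0, by simp [herm_zero_left], (uniEl_zero C).symm⟩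
  mul_mem' := by
    rintro _ _ ⟨w, c, hc, rfl⟩ ⟨w', c', hc', rfl⟩
    exact ⟨_, _, _, uniEl_mul C hc hc'⟩
  inv_mem' := by
    rintro _ ⟨w, c, hc, rfl⟩
    have hc' : C.σ c + C.σ (C.σ c) + herm C (-w) (-w) = 0 := by
      rw [C.invol, CfsgLib.RepBounds.Unit.herm_neg_left, herm_neg_right, neg_neg]
      linear_combination hc
    refine ⟨-w, C.σ c, hc', inv_eq_of_mul_eq_one_right ?_⟩
    rw [uniEl_mul, ← uniEl_zero C]
    exact uniEl_congr C _ _ (add_neg_cancel w)
      (by rw [CfsgLib.RepBounds.Unit.herm_neg_left]; linear_combination hc)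

theorem uniEl_mem_radE {w : κ → F} {c : F} (hc : c + C.σ c + herm C w w = 0) :
    uniEl C w c hc ∈ radE C κ := ⟨w, c, hc, rfl⟩

theorem app_vE_of_mem_radE {g : G} (hg : g ∈ radE C κ) : app C g ee = ee := by
  obtain ⟨w, c, hc, rfl⟩ := hg
  exact app_uniEl_vE C w c hc

theorem uniEl_pow {w : κ → F} {c : F} (hc : c + C.σ c + herm C w w = 0) (n : ℕ) :
    ∃ c' hc', uniEl C w c hc ^ n = uniEl C ((n : F) • w) c' hc' := by
  induction n with
  | zero =>
    refine ⟨0, by simp [herm_zero_left], ?_⟩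
    rw [pow_zero, ← uniEl_zero C]
    exact uniEl_congr C _ _ (by simp) rfl
  | succ n ih =>
    obtain ⟨c', hc', h⟩ := ih
    have h2 := uniEl_mul C hc' hc
    have hw : (n : F) • w + w = ((n + 1 : ℕ) : F) • w := by
      rw [Nat.cast_succ, add_smul, one_smul]
    refine ⟨_, by rw [← hw]; exact uniEl_valid_mul C hc' hc, ?_⟩
    rw [pow_succ, h, h2]
    exact uniEl_congr C _ _ hw rfl

theorem isPGroup_radE (p : ℕ) [Fact p.Prime] [CharP F p] : IsPGroup p (radE C κ) := by
  rintro ⟨_, w, c, hc, rfl⟩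
  refine ⟨2, Subtype.ext ?_⟩
  rw [SubgroupClass.coe_pow, OneMemClass.coe_one, pow_two, pow_mul]
  obtain ⟨c', hc', h⟩ := uniEl_pow hc p
  have h0 : (p : F) • w = 0 := by rw [CharP.cast_eq_zero, zero_smul]
  have hc'' : c' ∈ C.skew := by
    rw [C.mem_skew]
    rw [h0, herm_zero_left, add_zero] at hc'
    exact hc'
  rw [h, uniEl_congr C hc' (skew_valid C hc'') h0 rfl]
  exact IsTransv.pow_char C p (herm_vE_vE C) (isTransv_central C hc'')

theorem conj_uniEl_of_fix {g : G} (hg : app C g ee = ee) {h : G} (hh : h ∈ radE C κ) :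
    g * h * g⁻¹ ∈ radE C κ := by
  obtain ⟨w, c, hc, g', rfl⟩ := exists_eq_uniEl_mul C g hg
  obtain ⟨w', c', hc', rfl⟩ := hh
  obtain ⟨hc'', h'⟩ := (fixLines_blockHom g').conj_uniEl hc'
  rw [show uniEl C w c hc * blockHom C κ g' * uniEl C w' c' hc' * (uniEl C w c hc * blockHom C κ g')⁻¹ =
    uniEl C w c hc * (blockHom C κ g' * uniEl C w' c' hc' * (blockHom C κ g')⁻¹) * (uniEl C w c hc)⁻¹ by group,
    h']
  exact mul_mem (mul_mem (uniEl_mem_radE hc) (uniEl_mem_radE hc'')) (inv_mem (uniEl_mem_radE hc))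

theorem comm_central_of_fix {g : G} (hg : app C g ee = ee) {d : F} (hd : d ∈ C.skew) :
    g * uniEl C (0 : κ → F) d (skew_valid C hd) = uniEl C (0 : κ → F) d (skew_valid C hd) * g := by
  have h := ((isTransv_central C (κ := κ) hd).conj C g)
  rw [hg] at h
  rw [← mul_inv_eq_iff_eq_mul]
  exact h.unique C (isTransv_central C hd)

theorem radE_le_sylow {p : ℕ} [Fact p.Prime] [CharP F p] (S : Sylow p G)
    (he : ∀ g ∈ (S : Subgroup G), app C g ee = ee) : radE C κ ≤ (S : Subgroup G) := by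
  have hnorm : (S : Subgroup G) ≤ Subgroup.normalizer (radE C κ : Set G) := by
    intro A hA
    rw [Subgroup.mem_normalizer_iff]
    intro Q
    refine ⟨conj_uniEl_of_fix (he A hA), fun h => ?_⟩
    simpa [mul_assoc] using conj_uniEl_of_fix (he _ (inv_mem hA)) h
  have hsup : IsPGroup p ↥((S : Subgroup G) ⊔ radE C κ) :=
    S.2.to_sup_of_normal_right' (isPGroup_radE p) hnorm
  exact le_sup_right.trans (S.is_maximal' hsup le_sup_left).le

/-- A central element of a Sylow subgroup fixing `e` is a transvection at `e`. -/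
theorem sylow_center {p : ℕ} [Fact p.Prime] [CharP F p] (S : Sylow p G)
    (he : ∀ g ∈ (S : Subgroup G), app C g ee = ee) {z : G} (hz : z ∈ (S : Subgroup G))
    (hcen : ∀ A ∈ (S : Subgroup G), A * z = z * A) :
    ∃ (d : F) (hd : d ∈ C.skew), z = uniEl C (0 : κ → F) d (skew_valid C hd) := by
  obtain ⟨w, c, hc, g', rfl⟩ := exists_eq_uniEl_mul C z (he z hz)
  have key : ∀ (w' : κ → F) (c' : F) (hc' : c' + C.σ c' + herm C w' w' = 0),
      app C g' w' = w' ∧ herm C w w' - C.σ (herm C w w') = 0 := by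
    intro w' c' hc'
    have h := hcen _ (radE_le_sylow S he (uniEl_mem_radE hc'))
    obtain ⟨hc'', h'⟩ := (fixLines_blockHom g').conj_uniEl hc'
    obtain ⟨hd, h''⟩ := uniEl_conj_uniEl C hc hc''
    have h3 : uniEl C w c hc * blockHom C κ g' * uniEl C w' c' hc' *
        (uniEl C w c hc * blockHom C κ g')⁻¹ = uniEl C w' c' hc' := by
      rw [← h, mul_inv_cancel_right]
    rw [show uniEl C w c hc * blockHom C κ g' * uniEl C w' c' hc' * (uniEl C w c hc * blockHom C κ g')⁻¹ =
      uniEl C w c hc * (blockHom C κ g' * uniEl C w' c' hc' * (blockHom C κ g')⁻¹) * (uniEl C w c hc)⁻¹ by group,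
      h', h''] at h3
    obtain ⟨h4, h5⟩ := uniEl_inj C h3
    rw [phi_blockHom] at h4
    rw [phi_blockHom, normN_blockHom, one_mul, h4, add_eq_left] at h5
    exact ⟨h4, h5⟩
  have hg' : g' = 1 := suG_ext C fun x => by
    rw [app_one]; exact (key x _ (uniEl_validity C x)).1
  have hw : w = 0 := by
    refine eq_zero_of_herm C fun v => ?_
    by_contra hv
    obtain ⟨b, hb⟩ : ∃ b, C.σ b ≠ b := by
      by_contra h
      push Not at h
      exact C.ne_id (RingHom.ext h)
    have h1 := (key ((b / herm C v w) • v) _ (uniEl_validity C _)).2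
    rw [← conj_herm C ((b / herm C v w) • v) w, herm_smul_left, div_mul_cancel₀ _ hv, C.invol] at h1
    exact hb (sub_eq_zero.1 h1)
  subst hg' hw
  have hcs : c ∈ C.skew := by rw [C.mem_skew]; rwa [herm_zero_left, add_zero] at hc
  exact ⟨c, hcs, by rw [map_one, mul_one]⟩

theorem exists_fixed_isotropic {p : ℕ} [Fact p.Prime] [CharP F p] (S : Subgroup G) (hS : IsPGroup p S) :
    ∃ v : ι → F, v ≠ 0 ∧ herm C v v = 0 ∧ ∀ g ∈ S, app C g v = v := by
  classical
  letI act : MulAction S (ι → F) :=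
    { smul := fun A x => app C A.1 x
      one_smul := fun x => app_one C x
      mul_smul := fun A B x => app_mul C A.1 B.1 x }
  have hdvd : ∀ (M : AddSubgroup (ι → F)) (x : ι → F), x ∈ M → x ≠ 0 → p ∣ Nat.card M := by
    intro M x hx hx0
    have h : addOrderOf (⟨x, hx⟩ : M) = p :=
      addOrderOf_eq_prime (Subtype.ext (by
        rw [AddSubgroup.coe_nsmul, ← Nat.cast_smul_eq_nsmul F, CharP.cast_eq_zero, zero_smul]; rfl))
        (fun h => hx0 (congrArg Subtype.val h))
    rw [← h]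
    exact addOrderOf_dvd_natCard _
  have hcard : p ∣ Nat.card (ι → F) := by
    have h := hdvd ⊤ ee trivial (vE_ne_zero C)
    rwa [AddSubgroup.card_top] at h
  obtain ⟨v, hv, hv0⟩ := hS.exists_fixed_point_of_prime_dvd_card_of_fixed_point (α := ι → F) hcard
    (a := 0) (fun A => by show app C A.1 0 = 0; simp [app])
  have hv' : ∀ g ∈ S, app C g v = v := fun g hg => hv ⟨g, hg⟩
  by_cases hiso : herm C v v = 0
  · exact ⟨v, hv0.symm, hiso, hv'⟩
  let M : AddSubgroup (ι → F) :=
    { carrier := {x | herm C x v = 0}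
      zero_mem' := herm_zero_left C v
      add_mem' := fun {a b} ha hb => by
        simp only [Set.mem_setOf_eq] at ha hb ⊢; rw [herm_add_left, ha, hb, add_zero]
      neg_mem' := fun {a} ha => by
        simp only [Set.mem_setOf_eq] at ha ⊢
        rw [CfsgLib.RepBounds.Unit.herm_neg_left, ha, neg_zero] }
  have hM : ∀ x, x ∈ M ↔ herm C x v = 0 := fun x => Iff.rfl
  letI : MulAction S M :=
    { smul := fun A x => ⟨app C A.1 x.1, by rw [hM, ← hv' A.1 A.2, herm_app]; exact x.2⟩
      one_smul := fun x => Subtype.ext (app_one C x.1)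
      mul_smul := fun A B x => Subtype.ext (app_mul C A.1 B.1 x.1) }
  have hx0 : ee - (herm C ee v / herm C v v) • v ≠ 0 := by
    intro h0
    rw [sub_eq_zero] at h0
    have h1 := herm_vE_vE C (κ := κ)
    rw [h0, herm_smul_left, herm_smul_right] at h1
    have h2 : herm C ee v / herm C v v = 0 := by simpa [hiso] using h1
    rw [h2, zero_smul] at h0
    exact vE_ne_zero C h0
  have hxM : ee - (herm C ee v / herm C v v) • v ∈ M := by
    rw [hM, herm_sub_left, herm_smul_left, div_mul_cancel₀ _ hiso, sub_self]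
  obtain ⟨⟨w, hwM⟩, hw, hw0⟩ := hS.exists_fixed_point_of_prime_dvd_card_of_fixed_point (α := M)
    (hdvd M _ hxM hx0) (a := 0) (fun A => Subtype.ext (by show app C A.1 0 = 0; simp [app]))
  have hw0' : w ≠ 0 := fun h => hw0 (Subtype.ext h.symm)
  have hw' : ∀ g ∈ S, app C g w = w := fun g hg => congrArg Subtype.val (hw ⟨g, hg⟩)
  by_cases hwiso : herm C w w = 0
  · exact ⟨w, hw0', hwiso, hw'⟩
  have hfix : C.σ (-(herm C v v / herm C w w)) = -(herm C v v / herm C w w) := by
    rw [map_neg, map_div₀, herm_self_fixed, herm_self_fixed]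
  obtain ⟨s, hs⟩ := CfsgLib.Forms.exists_mul_involution_eq C.ne_id C.invol hfix
  have hwv : herm C w v = 0 := hwM
  refine ⟨v + s • w, fun h0 => ?_, ?_, fun g hg => by rw [app_add, app_smul, hv' g hg, hw' g hg]⟩
  · have := congrArg (fun x => herm C x v) h0
    simp only [herm_add_left, herm_smul_left, hwv, mul_zero, add_zero, herm_zero_left] at this
    exact hiso this
  · rw [herm_add_left, herm_add_right, herm_add_right, herm_smul_left, herm_smul_left, herm_smul_right,
      herm_smul_right, hwv, ← conj_herm C w v, hwv, map_zero]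
    have h2 : s * C.σ s * herm C w w = -herm C v v := by rw [hs, neg_mul, div_mul_cancel₀ _ hwiso]
    linear_combination h2

variable [Nonempty κ]

/-- Every Sylow subgroup is conjugate to one fixing `e`. -/
theorem exists_conj_fix {p : ℕ} [Fact p.Prime] [CharP F p] (S : Sylow p G) :
    ∃ t : G, ∀ g ∈ (S : Subgroup G), app C (t * g * t⁻¹) ee = ee := by
  obtain ⟨v, hv0, hv, hfix⟩ := exists_fixed_isotropic (S : Subgroup G) S.2
  obtain ⟨t, -, ht⟩ := exists_to_vE C hv hv0
  refine ⟨t, fun g hg => ?_⟩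
  rw [← ht, app_mul, app_mul, app_inv_app, hfix g hg]

variable (C) in
/-- `x` is the image of a non-trivial transvection at the isotropic vector `v`. -/
def TP (x : PS C ι) (v : ι → F) : Prop :=
  v ≠ 0 ∧ herm C v v = 0 ∧
    ∃ (c : F) (g : G), c ∈ C.skew ∧ c ≠ 0 ∧ IsTransv C g v c ∧ x = QuotientGroup.mk g

theorem TP.conj {x : PS C ι} {v : ι → F} (h : TP C x v) (t : G) :
    TP C (MulAut.conj (QuotientGroup.mk t : PS C ι) x) (app C t v) := by
  obtain ⟨hv0, hv, c, g, hc, hc0, hg, rfl⟩ := h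
  refine ⟨fun h => hv0 (by rw [← app_inv_app C t v, h]; simp [app]), by rw [herm_app, hv],
    c, t * g * t⁻¹, hc, hc0, hg.conj C t, ?_⟩
  rw [MulAut.conj_apply, QuotientGroup.mk_mul, QuotientGroup.mk_mul, QuotientGroup.mk_inv]

theorem exists_TP {v : ι → F} (hv0 : v ≠ 0) (hv : herm C v v = 0) : ∃ x, TP C x v := by
  obtain ⟨d, hd, hd0⟩ := C.exists_skew_ne
  exact ⟨_, hv0, hv, d, _, hd, hd0, isTransv_transvEl C v d hv hd, rfl⟩

theorem transv_mem_sylow {p : ℕ} [Fact p.Prime] [CharP F p] (S : Sylow p G)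
    (he : ∀ g ∈ (S : Subgroup G), app C g ee = ee) {g : G} {c : F} (hc : c ∈ C.skew)
    (hg : IsTransv C g ee c) : g ∈ (S : Subgroup G) ∧ ∀ A ∈ (S : Subgroup G), A * g = g * A := by
  rw [hg.unique C (isTransv_central C hc)]
  exact ⟨radE_le_sylow S he (uniEl_mem_radE _), fun A hA => comm_central_of_fix (he A hA) hc⟩

/-- All transvections at a point are central in one Sylow subgroup. -/
theorem exists_sylow_TP (p : ℕ) [Fact p.Prime] [CharP F p] {v : ι → F} (hv0 : v ≠ 0)
    (hv : herm C v v = 0) :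
    ∃ P : Sylow p (PS C ι), ∀ x, TP C x v → x ∈ (P : Subgroup (PS C ι)) ∧
      ∀ y ∈ (P : Subgroup (PS C ι)), y * x = x * y := by
  classical
  obtain ⟨S0⟩ : Nonempty (Sylow p G) := inferInstance
  obtain ⟨t, ht⟩ := exists_conj_fix S0
  obtain ⟨r, -, hr⟩ := exists_to_vE C hv hv0
  let S1 := S0.mapSurjective (f := (MulAut.conj t).toMonoidHom) (MulAut.conj t).surjective
  have hS1 : ∀ g ∈ (S1 : Subgroup G), app C g ee = ee := by
    rintro g hg
    simp only [S1, Sylow.coe_mapSurjective, Subgroup.mem_map] at hg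
    obtain ⟨g0, hg0, rfl⟩ := hg
    exact ht g0 hg0
  let f : G →* PS C ι := (QuotientGroup.mk' (Subgroup.center G)).comp (MulAut.conj r⁻¹).toMonoidHom
  have hf : Function.Surjective f :=
    (QuotientGroup.mk'_surjective _).comp (MulAut.conj r⁻¹).surjective
  refine ⟨S1.mapSurjective hf, ?_⟩
  rintro x ⟨-, -, c, g, hc, hc0, hg, rfl⟩
  have hg' : IsTransv C (r * g * r⁻¹) ee c := hr ▸ hg.conj C r
  obtain ⟨hmem, hcom⟩ := transv_mem_sylow S1 hS1 hc hg'
  have hx : f (r * g * r⁻¹) = QuotientGroup.mk g := by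
    show QuotientGroup.mk (r⁻¹ * (r * g * r⁻¹) * r⁻¹⁻¹) = _
    congr 1; group
  rw [Sylow.coe_mapSurjective, ← hx]
  refine ⟨Subgroup.mem_map_of_mem _ hmem, ?_⟩
  rintro _ ⟨A, hA, rfl⟩
  rw [← map_mul, ← map_mul, hcom A hA]

/-- A central element of a Sylow subgroup of `PSU` is a transvection. -/
theorem TP_of_sylow_center (p : ℕ) [Fact p.Prime] [CharP F p] (P : Sylow p (PS C ι)) {x : PS C ι}
    (hx : x ∈ (P : Subgroup (PS C ι))) (hcen : ∀ y ∈ (P : Subgroup (PS C ι)), y * x = x * y)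
    (hx1 : x ≠ 1) : ∃ v, TP C x v := by
  classical
  obtain ⟨S, rfl⟩ := Sylow.mapSurjective_surjective (QuotientGroup.mk'_surjective (Subgroup.center G)) p P
  rw [Sylow.coe_mapSurjective, Subgroup.mem_map] at hx
  obtain ⟨z, hz, rfl⟩ := hx
  have hpow : ∀ A ∈ (S : Subgroup G), ∃ k, A ^ p ^ k = 1 := fun A hA => by
    obtain ⟨k, hk⟩ := S.2 ⟨A, hA⟩
    exact ⟨k, congrArg Subtype.val hk⟩
  have hzc : ∀ A ∈ (S : Subgroup G), A * z = z * A := fun A hA => by
    have h := hcen (QuotientGroup.mk' _ A)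
      (by rw [Sylow.coe_mapSurjective]; exact Subgroup.mem_map_of_mem _ hA)
    obtain ⟨k, hk⟩ := hpow z hz
    have hk' : (A * z * A⁻¹) ^ p ^ k = 1 := by rw [conj_pow, hk, mul_one, mul_inv_cancel]
    refine mul_inv_eq_iff_eq_mul.1 (eq_of_mk_eq p hk' hk ?_)
    simp only [QuotientGroup.mk'_apply] at h
    rw [QuotientGroup.mk_mul, QuotientGroup.mk_mul, QuotientGroup.mk_inv, h, mul_inv_cancel_right]
  obtain ⟨t, ht⟩ := exists_conj_fix S
  let S1 := S.mapSurjective (f := (MulAut.conj t).toMonoidHom) (MulAut.conj t).surjective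
  have hS1 : ∀ g ∈ (S1 : Subgroup G), app C g ee = ee := by
    rintro g hg
    simp only [S1, Sylow.coe_mapSurjective, Subgroup.mem_map] at hg
    obtain ⟨g0, hg0, rfl⟩ := hg
    exact ht g0 hg0
  have hzmem : t * z * t⁻¹ ∈ (S1 : Subgroup G) := by
    simp only [S1, Sylow.coe_mapSurjective]
    exact Subgroup.mem_map_of_mem _ hz
  obtain ⟨d, hd, heq⟩ := sylow_center S1 hS1 hzmem (by
    rintro A hA
    simp only [S1, Sylow.coe_mapSurjective, Subgroup.mem_map] at hA
    obtain ⟨A0, hA0, rfl⟩ := hA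
    show t * A0 * t⁻¹ * (t * z * t⁻¹) = t * z * t⁻¹ * (t * A0 * t⁻¹)
    have := hzc A0 hA0
    calc t * A0 * t⁻¹ * (t * z * t⁻¹) = t * (A0 * z) * t⁻¹ := by group
      _ = t * (z * A0) * t⁻¹ := by rw [this]
      _ = _ := by group)
  have hd0 : d ≠ 0 := fun h0 => hx1 (by
    subst h0
    rw [uniEl_zero C] at heq
    have : z = 1 := by
      calc z = t⁻¹ * (t * z * t⁻¹) * t := by group
        _ = 1 := by rw [heq]; group
    rw [this, map_one])
  have htr : IsTransv C (t * z * t⁻¹) ee d := heq ▸ isTransv_central C hd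
  refine ⟨app C t⁻¹ ee, fun h0 => vE_ne_zero C (by rw [← app_app_inv C t ee, h0]; simp [app]),
    by rw [herm_app, herm_vE_vE], d, z, hd, hd0, ?_, rfl⟩
  have := htr.conj C t⁻¹
  rwa [show t⁻¹ * (t * z * t⁻¹) * t⁻¹⁻¹ = z by group] at this

theorem TP.ne_one {x : PS C ι} {v : ι → F} (p : ℕ) [Fact p.Prime] [CharP F p] (h : TP C x v) : x ≠ 1 := by
  obtain ⟨hv0, hv, c, g, hc, hc0, hg, rfl⟩ := h
  intro h1
  refine IsTransv.ne_one C hc0 hv0 hg (eq_of_mk_eq p (k := 1) (j := 0) ?_ (by rw [one_pow]) (by rw [h1, QuotientGroup.mk_one]))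
  rw [pow_one, IsTransv.pow_char C p hv hg]

/-- Automorphisms of `PSU` permute the transvections. -/
theorem exists_TP_map (p : ℕ) [Fact p.Prime] [CharP F p] (β : MulAut (PS C ι)) {x : PS C ι} {v : ι → F}
    (hx : TP C x v) : ∃ v', TP C (β x) v' := by
  classical
  obtain ⟨P, hP⟩ := exists_sylow_TP p hx.1 hx.2.1
  obtain ⟨hmem, hcom⟩ := hP x hx
  let P' := P.mapSurjective (f := β.toMonoidHom) β.surjective
  refine TP_of_sylow_center p P' ?_ ?_ (fun h => hx.ne_one p (β.injective (by rw [h, map_one])))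
  · simp only [P', Sylow.coe_mapSurjective]
    exact Subgroup.mem_map_of_mem _ hmem
  · intro y hy
    simp only [P', Sylow.coe_mapSurjective, Subgroup.mem_map] at hy
    obtain ⟨y0, hy0, rfl⟩ := hy
    change β y0 * β x = β x * β y0
    rw [← map_mul, ← map_mul, hcom y0 hy0]

/-- A `p`-element commuting with a transvection at `e` fixes `e`. -/
theorem fix_of_commute {p : ℕ} [Fact p.Prime] [CharP F p] {A g : G} {c : F} (hc : c ≠ 0)
    (hg : IsTransv C g ee c) (hA : A * g = g * A) {k : ℕ} (hk : A ^ p ^ k = 1) : app C A ee = ee := by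
  have h1 : IsTransv C g (app C A ee) c := by
    have := hg.conj C A
    rwa [hA, mul_inv_cancel_right] at this
  obtain ⟨r, hr⟩ := line_of_isTransv C hc
    (fun h => vE_ne_zero C (κ := κ) (by rw [← app_inv_app C A ee, h]; simp [app])) h1 hg
  have hpow : ∀ n : ℕ, app C (A ^ n) ee = r ^ n • ee := by
    intro n
    induction n with
    | zero => rw [pow_zero, app_one, pow_zero, one_smul]
    | succ n ih => rw [pow_succ, app_mul, hr, app_smul, ih, smul_smul, pow_succ, mul_comm]
  have h2 := congrArg (fun w => herm C w ff) (hpow (p ^ k))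
  simp only [hk, app_one, herm_smul_left, herm_vE_vF, mul_one] at h2
  have hr1 : r = 1 := iterateFrobenius_inj F p k (by simp [iterateFrobenius_def, ← h2])
  rw [hr, hr1, one_smul]

end CfsgLib.AutPSU
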